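import Cfsg.Agent.H31.PhanFour

/-!
Phan's theorem over the fields with four and nine elements.
-/

set_option autoImplicit false

namespace Cfsg.Agent.H31

open Module H73

section General

variable {F : Type*} [Field F] {σ : F →+* F} {V : Type*} [AddCommGroup V] [Module F V]
  {B : V →ₛₗ[σ] V →ₗ[F] F} {V' : Type*} [AddCommGroup V'] [Module F V']
  {B' : V' →ₛₗ[σ] V' →ₗ[F] F} {G : Type*} [Group G] {π : (V ≃ₗ[F] V) → G}
  {φ : (V' ≃ₗ[F] V') → G} [FiniteDimensional F V] [FiniteDimensional F V'] [Fintype F] {q : ℕ}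

omit [FiniteDimensional F V] [FiniteDimensional F V'] [Fintype F] in
theorem fixed_zero_or_one (hσ : ∀ x, σ x = x ^ 2) (a : F) (ha : σ a = a) : a = 0 ∨ a = 1 := by
  rw [hσ] at ha
  exact (mul_eq_zero.mp (show a * (a - 1) = 0 by linear_combination ha)).imp id sub_eq_zero.mp

theorem Cov.isImg_three (hF : Fintype.card F = q ^ 2) (hσ : ∀ x, σ x = x ^ q)
    (hq : q = 2 ∨ q = 3) (h : IsHerm B) (h4 : finrank F V = 4) (h' : IsHerm B')
    (h3 : finrank F V' = 3) (hπ : Cov B π) (hφ : Cov B' φ)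
    (hle : ∀ g ∈ sisom B', ∃ g' ∈ sisom B, π g' = φ g) {f : ℕ → V} {f' : ℕ → V'} {j : ℕ}
    (hf : ONSeq B 4 f) (hf' : ONSeq B' 3 f') (hj : j + 3 ≤ 4) {A A' C : Subgroup G}
    (hA : IsImg B π (Iv F f j 2) A) (hA' : IsImg B π (Iv F f (j + 1) 2) A')
    (hB : IsImg B' φ (Iv F f' 0 2) A) (hB' : IsImg B' φ (Iv F f' (0 + 1) 2) A')
    (hC : IsImg B' φ (Iv F f' 0 3) C) : IsImg B π (Iv F f j 3) C := by
  have hs := h.toIsHermSymm
  have hs' := h'.toIsHermSymm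
  have : Fact (ringChar F).Prime := ⟨CharP.char_is_prime F _⟩
  rcases hq with rfl | rfl
  swap
  · refine fun x => ⟨fun hx => ?_, ?_⟩
    · obtain ⟨g, hg, rfl⟩ := (hC x).mp hx
      refine (hf'.suOn_succ_le hF hσ h' (k := 2) (by omega) (Or.inr ⟨le_rfl, le_rfl⟩)
        (K := hφ.hom.comap (hπ.hom.mono suOn_le_sisom).img) (fun g hg => ⟨hg.1, ?_⟩)
        (fun g hg => ⟨hg.1, ?_⟩) hg).2
      · obtain ⟨g', h1, h2⟩ := (hA _).mp (hB.mem hg)
        exact ⟨g', suOn_Iv_mono (by omega) (by omega) h1, h2⟩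
      · obtain ⟨g', h1, h2⟩ := (hA' _).mp (hB'.mem hg)
        exact ⟨g', suOn_Iv_mono (by omega) (by omega) h1, h2⟩
    · rintro ⟨g, hg, rfl⟩
      refine (hf.suOn_succ_le hF hσ h (k := 2) hj (Or.inr ⟨le_rfl, le_rfl⟩)
        (K := hπ.hom.comap C) (fun g hg => ⟨hg.1, ?_⟩) (fun g hg => ⟨hg.1, ?_⟩) hg).2
      · obtain ⟨g', h1, h2⟩ := (hB _).mp (hA.mem hg)
        exact h2 ▸ hC.mem (suOn_Iv_mono (by omega) (by omega) h1)
      · obtain ⟨g', h1, h2⟩ := (hB' _).mp (hA'.mem hg)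
        exact h2 ▸ hC.mem (suOn_Iv_mono (by omega) (by omega) h1)
  have hE := hf.nondegOn_Iv hs hj
  have hE3 := hf.finrank_Iv hj
  obtain ⟨v, hv, hvE⟩ := h.exists_un_perp h.nondegOn_top hE le_top (by rw [finrank_top]; omega)
  have hv0 := ne_zero_of_norm hv.ne
  have hvE' : perp B (Iv F f j 3) = F ∙ v := (Submodule.eq_of_le_of_finrank_eq
    ((Submodule.span_singleton_le_iff_mem _ _).mpr hvE)
    (by rw [finrank_span_singleton hv0, h.finrank_perp, h4, hE3])).symm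
  have hfix : ∀ g ∈ sisom B, g v = v → g ∈ suOn B (Iv F f j 3) := fun g hg h1 =>
    ⟨hg, hvE' ▸ mem_fixOn_span (by rintro _ rfl; exact h1)⟩
  have htop := hf'.Iv_top h3
  have hM := hf'.hasTv_three h' (i := 0) le_rfl (fixed_zero_or_one hσ)
    (K := hφ.hom.comap (hπ.fix v))
    (fun g hg => ⟨hg.1, hA.le_fix hπ (perp_anti (Iv_mono (by omega) (by omega)) hvE) (hB.mem hg)⟩)
    (fun g hg => ⟨hg.1, hA'.le_fix hπ (perp_anti (Iv_mono (by omega) (by omega)) hvE) (hB'.mem hg)⟩)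
  rw [htop] at hM hC
  have h1 : ∀ k ∈ suOn B' ⊤, ∃ g ∈ suOn B (Iv F f j 3), π g = φ k := fun k hk => by
    obtain ⟨g, hg, e⟩ := (h'.suOn_le_of_isPElt h'.nondegOn_top (by rw [finrank_top, h3])
      (K := hφ.hom.comap (hπ.fix v)) (fun k hk hkp => by
        obtain ⟨k₀, hk₀, e₀⟩ := hle k hk.1
        obtain ⟨k', hk', hkp', e'⟩ := hπ.exists_isPElt hk₀ (e₀ ▸ hφ.hom.isPElt hk.1 hkp)
        rw [e₀] at e'
        have h2 : ∀ u, HasTv B' (hφ.hom.comap (hπ.fix (k' v))) u := fun u c hu hc => by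
          have h5 := isotropic_map (inv_mem hk.1.1) hu
          have h6 := hπ.conj_mem_fix hk' (hM _ trivial c h5 hc).2
          rw [e', ← hφ.hom.conj hk.1 (hs'.tv_mem_sisom h5 hc), tv_conj hk.1.1,
            tv_congr _ _ (apply_inv_apply k u) rfl] at h6
          exact ⟨hs'.tv_mem_sisom hu hc, h6⟩
        have h5 : ∀ i i' U, i + 2 ≤ 4 → i' + 2 ≤ 3 → IsImg B π (Iv F f i 2) U →
            IsImg B' φ (Iv F f' i' 2) U → k' v ∈ perp B (Iv F f i 2) :=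
          fun i i' U hi hi' hU hU' => hπ.mem_perp_of_le_fix h (hf.nondegOn_Iv hs hi)
            (hf.finrank_Iv hi).ge fun g hg => by
              obtain ⟨g', h6, h7⟩ := (hU' _).mp (hU.mem hg)
              exact h7 ▸ (h'.mem_of_hasTv h'.nondegOn_top (hf'.nondegOn_Iv hs' hi') le_top
                (fun u _ => h2 u) (Or.inr (Or.inr (hf'.finrank_Iv hi').le)) h6.1 h6.2).2
        have h6 : k' v ∈ perp B (Iv F f j 3) := by
          refine (hs.le_perp_comm (W := Iv F f j 3) (W' := F ∙ k' v)).mp (Iv_le.mpr fun l h7 h8 =>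
            mem_perp_span_singleton.mpr (hs.flip_zero ?_)) (Submodule.mem_span_singleton_self _)
          by_cases h9 : l < j + 2
          · exact h5 j 0 A (by omega) (by omega) hA hB _ (mem_Iv h7 h9)
          · exact h5 (j + 1) (0 + 1) A' (by omega) (by omega) hA' hB' _ (mem_Iv (by omega) (by omega))
        rw [hvE'] at h6
        obtain ⟨a, ha⟩ := Submodule.mem_span_singleton.mp h6
        refine ⟨hk.1, e' ▸ hπ.mem_fix hk' ?_⟩
        rw [← ha, eigen_one hkp' hv0 ha.symm, one_smul]) hk).2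
    exact ⟨g, hfix g hg.1 hg.2, e⟩
  have h2 : ∀ k ∈ sisom B', φ k = 1 → k = 1 := fun k hk h5 => by
    obtain ⟨a, ha⟩ := hφ.ker k hk h5
    have : Nontrivial V' := Module.nontrivial_of_finrank_eq_succ h3
    have ha1 := h'.norm_eq_one_of_smul ha hk.1
    obtain ⟨d, hd, d0, d1⟩ := hf'.exists_diag h' (i := 0) (by omega) ha1
    obtain ⟨d', hd', d0', d1'⟩ := hf'.exists_diag h' (i := 0 + 1) (by omega) (a := σ a)
      (by rw [hs.inv.invol, mul_comm, ha1])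
    have h6 : k = d * d' := hf'.ext_vec h' (i := 0) (k := 3) le_rfl
      (by rw [htop, h'.suOn_top]; exact hk)
      (mul_mem (suOn_Iv_mono (by omega) (by omega) hd) (suOn_Iv_mono (by omega) (by omega) hd'))
      fun s _ hs => by
        rw [LinearEquiv.mul_apply, ha]
        rcases (show s = 0 ∨ s = 0 + 1 ∨ s = 0 + 1 + 1 by omega) with rfl | rfl | rfl
        · rw [hf'.fix (by omega) hd' (by omega) (by omega), d0]
        · rw [d0', map_smul, d1, smul_smul]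
          congr 1
          rw [hσ] at ha1 ⊢
          linear_combination (-a) * ha1
        · rw [d1', map_smul, hf'.fix (by omega) hd (by omega) (by omega), h'.inv.invol]
    obtain ⟨g, hg, e⟩ := (hA _).mp (hB.mem hd)
    obtain ⟨g', hg', e'⟩ := (hA' _).mp (hB'.mem (inv_mem hd'))
    have h7 : π g = π g' := by
      rw [e, e', hφ.hom.inv hd'.1, eq_inv_iff_mul_eq_one, ← hφ.hom _ hd.1 _ hd'.1, ← h6, h5]
    have h8 : g = g' := by
      have m1 := suOn_Iv_mono (i := j) (k := 3) (by omega) (by omega) hg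
      have m2 := suOn_Iv_mono (i := j) (k := 3) (by omega) (by omega) hg'
      rw [← mul_inv_eq_one]
      exact hπ.eq_one_of_mem_suOn h (by omega) (mul_mem m1 (inv_mem m2)) (by
        rw [hπ.hom _ hg.1 _ (inv_mem hg'.1), hπ.hom.inv hg'.1, h7, mul_inv_cancel])
    have h9 : g (f j) = f j := h8 ▸ hf.fix (by omega) hg' (by omega) (by omega)
    have h10 : g = 1 := hf.two_ext h (by omega) hg (one_mem _) (by rw [h9]; rfl) (by
      nth_rw 1 [← h9]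
      rw [hg.1.1]; rfl)
    have h11 := hφ.eq_one_of_mem_suOn h' (by rw [hf'.finrank_Iv (by omega)]; omega) hd
      (by rw [← e, h10, hπ.hom.one])
    have h12 : a = 1 := by
      have := congrArg (B' (f' 0)) d0
      rwa [h11, smul_right, LinearEquiv.coe_one, id, hf'.one (by omega), mul_one, eq_comm] at this
    exact LinearEquiv.ext fun x => by rw [ha, h12, one_smul]; rfl
  refine fun x => ⟨fun hx => ?_, ?_⟩
  · obtain ⟨k, hk, rfl⟩ := (hC x).mp hx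
    exact h1 k hk
  · rintro ⟨g, hg, rfl⟩
    choose! ι hι hι' using h1
    obtain ⟨k, hk, rfl⟩ := h'.surjOn_suOn h h'.nondegOn_top hE (by rw [finrank_top, h3, hE3]) hι
      (fun a ha b hb e => mul_inv_eq_one.mp (h2 _ (mul_mem ha.1 (inv_mem hb.1)) (by
        rw [hφ.hom _ ha.1 _ (inv_mem hb.1), hφ.hom.inv hb.1, ← hι' a ha, ← hι' b hb, e,
          mul_inv_cancel]))) g hg
    exact hι' k hk ▸ hC.mem hk

omit [FiniteDimensional F V'] in
theorem GoodAt.eq_on_three (hσ : ∀ x, σ x = x ^ 2) (h : IsHerm B) {e : ℕ → V} {m l : ℕ}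
    (he : ONSeq B m e) (hl : l + 5 ≤ m) {U₂ U₃ : ℕ → Subgroup G} {φ ψ : (V ≃ₗ[F] V) → G}
    (hφ : GoodAt B e U₂ U₃ l 4 φ) (hψ : GoodAt B e U₂ U₃ (l + 1) 4 ψ)
    (h1 : ∀ g ∈ suOn B (Iv F e (l + 1) 2), φ g = ψ g)
    (h2 : ∀ g ∈ suOn B (Iv F e (l + 2) 2), φ g = ψ g) :
    ∀ g ∈ suOn B (Iv F e (l + 1) 3), φ g = ψ g := by
  have hs := h.toIsHermSymm
  have : Fact (ringChar F).Prime := ⟨CharP.char_is_prime F _⟩
  have hE := he.nondegOn_Iv hs (i := l + 1) (k := 3) (by omega)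
  have hE3 := he.finrank_Iv (i := l + 1) (k := 3) (by omega)
  have hφ' := (hφ.sub (i := l + 1) (j := 3) (by omega) (by omega)).hom
  have hψ' := (hψ.sub (i := l + 1) (j := 3) (by omega) (by omega)).hom
  have hinj : ∀ a ∈ suOn B (Iv F e (l + 1) 3), ∀ b ∈ suOn B (Iv F e (l + 1) 3), ψ a = ψ b →
      a = b := fun a ha b hb => hψ.inj h he (by omega) (by omega) (by omega) (by omega) ha hb
  have hM := he.hasTv_three h (i := l + 1) (by omega) (fixed_zero_or_one hσ) (K := hφ'.eqSub hψ')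
    (fun g hg => ⟨suOn_Iv_mono (by omega) (by omega) hg, h1 g hg⟩)
    (fun g hg => ⟨suOn_Iv_mono (by omega) (by omega) hg, h2 g hg⟩)
  intro g hg
  refine (h.suOn_le_of_isPElt hE hE3 (K := hφ'.eqSub hψ') (fun x hx hxp => ⟨hx, ?_⟩) hg).2
  obtain ⟨y, hy, e1⟩ := (hψ.mem₃ (i := l + 1) le_rfl (by omega)).mp
    ((hφ.mem₃ (by omega) (by omega)).mpr ⟨x, hx, rfl⟩)
  rw [← e1]
  congr 1
  have hz := mul_mem (inv_mem hy) hx
  obtain ⟨ω, hω0, hω⟩ := h.inv.exists_skew'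
  obtain ⟨a, ha⟩ := (hs.isHerm_restr hE).exists_smul_of_isotropic (by omega)
    (g := (restrictStab _ ⟨_, h.suOn_le_stab _ hz⟩ : _ ≃ₗ[F] _)) fun u hu₀ => by
      have hu : B u u = 0 := hu₀
      have h3 := tv_mem_suOn hs hu hω u.2
      have h4 := (hM _ (h.suOn_apply_mem hx u.2) ω (isotropic_map hx.1.1 hu) hω).2
      rw [← tv_conj hx.1.1 hu] at h4
      have h5 := hinj _ (mul_mem (mul_mem hx h3) (inv_mem hx)) _
        (mul_mem (mul_mem hy h3) (inv_mem hy))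
        (by rw [← h4, hφ'.conj hx h3, hψ'.conj hy h3, e1, (hM _ u.2 ω hu hω).2])
      by_cases hu0 : u = 0
      · exact ⟨0, by rw [hu0, map_zero, smul_zero]⟩
      obtain ⟨w, hw⟩ := h.exists_eq_one (x := u) (fun h6 => hu0 (Subtype.ext h6))
      have h6 := congrArg (fun g : V ≃ₗ[F] V => y⁻¹ (g (x w))) h5
      simp only [LinearEquiv.mul_apply, inv_apply_apply, tv_apply, hw, map_add, map_smul,
        add_right_inj, mul_one] at h6
      refine ⟨B u (y⁻¹ (x w)), Subtype.ext (smul_right_injective V hω0 ?_)⟩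
      simp only [SetLike.val_smul, smul_smul]
      exact h6
  have h3 : ∀ w ∈ Iv F e (l + 1) 3, x w = a • y w := fun w hw => by
    have := congrArg (fun w : Iv F e (l + 1) 3 => y w) (ha ⟨w, hw⟩)
    simpa [coe_restrictStab] using this
  obtain ⟨k, hk⟩ := hxp
  have h4 : y ^ ringChar F ^ k = 1 := hinj _ (pow_mem hy _) _ (one_mem _) (by
    rw [hψ'.pow hy, e1, ← hφ'.pow hx, hk, hφ'.one, hψ'.one])
  have h5 := congrArg (B (e (l + 1))) (pow_apply_of_smul (fun w hw => h.suOn_apply_mem hy hw) h3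
    (ringChar F ^ k) _ (mem_Iv (l := l + 1) le_rfl (by omega)))
  rw [hk, h4, smul_right, LinearEquiv.coe_one, id, he.one (by omega), mul_one] at h5
  have h6 : a = 1 := iterateFrobenius_inj F (ringChar F) k (by
    rw [iterateFrobenius_def, ← h5, map_one])
  exact h.ext_suOn hE hy hx fun w hw => by rw [h3 w hw, h6, one_smul]

end General

variable {F : Type*} [Field F] [Fintype F] {q : ℕ} {G : Type*} [Group G]
  {U₂ U₃ : ℕ → Subgroup G} {m : ℕ}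

theorem Good.cov {hF : Fintype.card F = q ^ 2} {k : ℕ} {f : ℕ → Fin k → F}
    {π : ((Fin k → F) ≃ₗ[F] (Fin k → F)) → G} (hf : ONSeq (hermB hF k) k f)
    (h : Good (hermB hF k) f 0 k U₂ U₃ π) : Cov (hermB hF k) π := by
  obtain ⟨h1, h2, -, -⟩ := h
  rw [hf.Iv_top (finrank_fin k), (isHerm_hermB hF k).suOn_top] at h1 h2
  exact ⟨h1, fun g hg h3 => (h2 g hg h3).imp fun a ha x => ha x trivial⟩

theorem hasGood_four (hF : Fintype.card F = q ^ 2) (hq : q = 2 ∨ q = 3) {l : ℕ}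
    (h0 : HasGood hF U₂ U₃ l 3) (h1 : HasGood hF U₂ U₃ (l + 1) 3)
    (hc : ∀ x ∈ U₂ l, ∀ y ∈ U₂ (l + 2), x * y = y * x)
    (ρ : SU 4 F q →* ↥(U₃ l ⊔ U₃ (l + 1))) (hρ : Function.Surjective ρ) :
    HasGood hF U₂ U₃ l 4 := by
  have h := isHerm_hermB hF 4
  have h' := isHerm_hermB hF 3
  have hs' := h'.toIsHermSymm
  have h4 := finrank_fin (F := F) 4
  have h3 := finrank_fin (F := F) 3
  obtain ⟨f₀, φ₀, hf₀, g₀⟩ := h0
  obtain ⟨f₁, φ₁, hf₁, g₁⟩ := h1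
  have c₀ := g₀.cov hf₀
  have c₁ := g₁.cov hf₁
  have a₀ : IsImg _ φ₀ (Iv F f₀ 0 2) (U₂ l) := g₀.img₂ 0 (by omega)
  have a₁ : IsImg _ φ₀ (Iv F f₀ (0 + 1) 2) (U₂ (l + 1)) := g₀.img₂ 1 (by omega)
  have a₃ : IsImg _ φ₀ (Iv F f₀ 0 3) (U₃ l) := g₀.img₃ 0 (by omega)
  have b₀ : IsImg _ φ₁ (Iv F f₁ 0 2) (U₂ (l + 1)) := g₁.img₂ 0 (by omega)
  have b₁ : IsImg _ φ₁ (Iv F f₁ (0 + 1) 2) (U₂ (l + 2)) := g₁.img₂ 1 (by omega)
  have b₃ : IsImg _ φ₁ (Iv F f₁ 0 3) (U₃ (l + 1)) := g₁.img₃ 0 (by omega)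
  obtain ⟨s, s0, s1, -⟩ := hf₀.exists_swap h' (i := 0) (by omega)
  obtain ⟨t, t0, t1, t2⟩ := hf₀.exists_swap h' (i := 0 + 1) (by omega)
  have hnc : φ₀ s * φ₀ t ≠ φ₀ t * φ₀ s := fun e => by
    rw [← c₀.hom _ s0.1 _ t0.1, ← c₀.hom _ t0.1 _ s0.1] at e
    obtain ⟨a, ha⟩ := c₀.exists_smul (mul_mem s0.1 t0.1) (mul_mem t0.1 s0.1) e
    have := congrArg (hermB hF 3 (f₀ (0 + 1))) (ha (f₀ 0))
    rw [LinearEquiv.mul_apply, LinearEquiv.mul_apply, hf₀.fix (by omega) t0 (by omega) (by omega),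
      s1, t1, smul_right, hf₀.one (by omega), hf₀.zero (by omega) (by omega) (by omega),
      mul_zero] at this
    exact one_ne_zero this
  let ρ' := (U₃ l ⊔ U₃ (l + 1)).subtype.comp (ρ.comp (suEquiv hF 4).symm.toMonoidHom)
  obtain ⟨π, hπ, hπ'⟩ := exists_fun_of_hom ρ'
  have hsurj : ∀ x ∈ U₃ l ⊔ U₃ (l + 1), ∃ g ∈ sisom (hermB hF 4), π g = x := fun x hx => by
    obtain ⟨A, hA⟩ := hρ ⟨x, hx⟩
    exact ⟨_, (suEquiv hF 4 A).2, (hπ' _).trans (by simp [ρ', hA])⟩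
  have hle₀ : ∀ g ∈ sisom (hermB hF 3), ∃ g' ∈ sisom (hermB hF 4), π g' = φ₀ g := fun g hg =>
    hsurj _ (Subgroup.mem_sup_left (a₃.mem (by rwa [hf₀.Iv_top h3, h'.suOn_top])))
  have hle₁ : ∀ g ∈ sisom (hermB hF 3), ∃ g' ∈ sisom (hermB hF 4), π g' = φ₁ g := fun g hg =>
    hsurj _ (Subgroup.mem_sup_right (b₃.mem (by rwa [hf₁.Iv_top h3, h'.suOn_top])))
  have c : Cov (hermB hF 4) π := ⟨hπ, fun g hg h5 => by
    rcases h.normal_le_center_or_eq_top (Or.inl h4.ge) ρ'.ker inferInstance with h6 | h6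
    · exact (h.mem_center_sisom_iff (by omega) (g := ⟨g, hg⟩)).mp
        (h6 ((hπ' ⟨g, hg⟩).symm.trans h5))
    · obtain ⟨g', h7, h8⟩ := hle₀ s s0.1
      have h9 : ρ' ⟨g', h7⟩ = 1 := (h6 ▸ Subgroup.mem_top _ : _ ∈ ρ'.ker)
      exact (hnc (by rw [← h8, hπ' ⟨g', h7⟩, h9, one_mul, mul_one])).elim⟩
  have hK := fixed_eq_natCast (σ := frobQ hF) (fun _ => rfl) hq hF
  have hT₀ := fun e₀ => c.exists_tr (e₀ := e₀) hF (fun _ => rfl) hq h h4 h' h3 c₀ hle₀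
  have hT₁ := fun e₀ => c.exists_tr (e₀ := e₀) hF (fun _ => rfl) hq h h4 h' h3 c₁ hle₁
  obtain ⟨W₀, w1, w2, w3⟩ := c.exists_plane c₀ h h' hK hT₀ (hf₀.nondegOn_Iv hs' (by omega))
    (hf₀.finrank_Iv (by omega)) a₀
  obtain ⟨W₁, w4, w5, w6⟩ := c.exists_plane c₀ h h' hK hT₀ (hf₀.nondegOn_Iv hs' (by omega))
    (hf₀.finrank_Iv (by omega)) a₁
  obtain ⟨W₂, w7, w8, w9⟩ := c.exists_plane c₁ h h' hK hT₁ (hf₁.nondegOn_Iv hs' (by omega))
    (hf₁.finrank_Iv (by omega)) b₁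
  obtain ⟨a, ha, ha'⟩ := h.inv.exists_norm_one_ne
  obtain ⟨d, hd, d0, d1⟩ := hf₀.exists_diag h' (i := 0 + 1) (by omega) ha
  have hdp : ∀ n : ℕ, (d ^ n) (f₀ (0 + 1)) = a ^ n • f₀ (0 + 1) ∧
      (d ^ n) (f₀ (0 + 1 + 1)) = frobQ hF a ^ n • f₀ (0 + 1 + 1) := fun n => by
    induction n with
    | zero => simp
    | succ n ih =>
      rw [pow_succ, LinearEquiv.mul_apply, LinearEquiv.mul_apply, d0, d1, map_smul, map_smul,
        ih.1, ih.2, smul_smul, smul_smul, pow_succ', pow_succ']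
      exact ⟨rfl, rfl⟩
  have haq : a ^ (q + 1) = 1 := by rw [pow_succ']; exact ha
  obtain ⟨f, hf, e0, e1, e2⟩ := c.exists_frame h h4 w1 w2 w4 w5 w7 w8 w3 w6 w9 hc
    (fun h5 => hnc (h5 _ (a₀.mem s0) _ (a₁.mem t0)))
    (fun h5 => by
      obtain ⟨g, hg, e⟩ := (a₀ _).mp (h5 (a₁.mem t0))
      obtain ⟨b, hb⟩ := c₀.exists_smul t0.1 hg.1 e.symm
      have := congrArg (hermB hF 3 (f₀ (0 + 1))) (hb (f₀ (0 + 1 + 1)))
      rw [t2, hf₀.fix (by omega) hg (by omega) (by omega), smul_right, map_neg, hf₀.one (by omega),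
        hf₀.zero (by omega) (by omega) (by omega), mul_zero, neg_eq_zero] at this
      exact one_ne_zero this)
    (a₁.mem hd) (fun h5 => by
      have h6 := congrArg (hermB hF 3 (f₀ (0 + 1))) d0
      rw [c₀.eq_one_of_mem_suOn h' (by rw [hf₀.finrank_Iv (by omega)]; omega) hd h5, smul_right,
        LinearEquiv.coe_one, id, hf₀.one (by omega), mul_one] at h6
      exact ha' (by rw [← h6, map_one]))
    (n := q + 1) (by rw [Nat.cast_add_one, natCast_q hF, zero_add]; exact one_ne_zero)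
    (by
      rw [← c₀.hom.pow hd.1, ← c₀.hom.one]
      congr 1
      refine hf₀.ext_vec h' (by omega) (pow_mem hd _) (one_mem _) fun s h5 h6 => ?_
      rcases (show s = 0 + 1 ∨ s = 0 + 1 + 1 by omega) with rfl | rfl
      · rw [(hdp _).1, haq, one_smul]; rfl
      · rw [(hdp _).2, ← map_pow, haq, map_one, one_smul]; rfl)
    (fun x hx => by
      obtain ⟨g, hg, e⟩ := (a₀ x).mp hx
      have := a₀.mem (conj_mem_Iv hd.1.1
        (fun s _ _ => hf₀.diag_two (by omega) hd d0 d1 (by omega)) hg).2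
      rwa [c₀.hom _ (mul_mem (inv_mem hd.1) hg.1) _ hd.1, c₀.hom _ (inv_mem hd.1) _ hg.1,
        c₀.hom.inv hd.1, e] at this)
  rw [← e0] at w3
  rw [← e1] at w6
  rw [← e2] at w9
  refine ⟨f, π, hf, ?_, fun g hg h5 => (c.ker g hg.1 h5).imp fun a ha x _ => ha x,
    fun a ha => ?_, fun a ha => ?_⟩
  · exact hπ.mono suOn_le_sisom
  · rcases (show a = 0 ∨ a = 1 ∨ a = 2 by omega) with rfl | rfl | rfl
    exacts [w3, w6, w9]
  · rcases (show a = 0 ∨ a = 1 by omega) with rfl | rfl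
    · exact c.isImg_three hF (fun _ => rfl) hq h h4 h' h3 c₀ hle₀ hf hf₀ (by omega) w3 w6 a₀ a₁ a₃
    · exact c.isImg_three hF (fun _ => rfl) hq h h4 h' h3 c₁ hle₁ hf hf₁ (by omega) w6 w9 b₀ b₁ b₃

theorem phan_four (hF : Fintype.card F = q ^ 2) (h4 : 4 ≤ m)
    (hg : ∀ l, l + 4 ≤ m → HasGood hF U₂ U₃ l 4)
    (h22 : ∀ i j, i + 2 ≤ j → j + 2 ≤ m → ∀ x ∈ U₂ i, ∀ y ∈ U₂ j, x * y = y * x)
    (hc : 3 ≤ q ∨ (∀ i j, i + 2 ≤ j → j + 3 ≤ m → ∀ x ∈ U₂ i, ∀ y ∈ U₃ j, x * y = y * x) ∧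
      (∀ i j, i + 3 ≤ j → j + 2 ≤ m → ∀ x ∈ U₃ i, ∀ y ∈ U₂ j, x * y = y * x) ∧
      ∀ i j, i + 3 ≤ j → j + 3 ≤ m → ∀ x ∈ U₃ i, ∀ y ∈ U₃ j, x * y = y * x)
    (hgen : ∀ K : Subgroup G, (∀ l, l + 2 ≤ m → U₂ l ≤ K) → (∀ l, l + 3 ≤ m → U₃ l ≤ K) → K = ⊤) :
    ∃ f : SU m F q →* G, Function.Surjective f := by
  have h := isHerm_hermB hF m
  have he := onSeq_stdSeq hF m
  obtain ⟨Θ, h1, h2⟩ := exists_seq_of_step (Q := fun l => l + 4 ≤ m)
    (P := fun l ψ => GoodAt (hermB hF m) (stdSeq F m) U₂ U₃ l 4 ψ)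
    (R := fun l φ ψ => ∀ g ∈ suOn (hermB hF m) (Iv F (stdSeq F m) (l + 1) 3), φ g = ψ g)
    (fun l hl => by omega) (((hg 0 (by omega)).goodAt (by omega)).imp fun _ h _ => h)
    fun l φ hl hφ => by
      obtain ⟨ψ, hψ⟩ := (hg _ hl).goodAt hl
      obtain ⟨ψ', h1, h2, h3⟩ := hφ.adjust₂ h he hl hψ (h22 _ _ le_rfl (by omega))
        (h22 _ _ le_rfl (by omega))
      refine ⟨ψ', h1, ?_⟩
      rcases (two_le_of_card_sq hF).eq_or_lt with rfl | hq
      · exact hφ.eq_on_three (fun _ => rfl) h he hl h1 h2 h3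
      · exact fun g hg => (he.suOn_succ_le hF (fun _ => rfl) h (k := 2) (by omega)
          (Or.inr ⟨le_rfl, hq⟩) (K := (hφ.sub (i := l + 1) (j := 3) (by omega) (by omega)).hom.eqSub
            (h1.sub (i := l + 1) (j := 3) (by omega) (by omega)).hom)
          (fun g hg => ⟨suOn_Iv_mono (by omega) (by omega) hg, h2 g hg⟩)
          (fun g hg => ⟨suOn_Iv_mono (by omega) (by omega) hg, h3 g hg⟩) hg).2
  let φ := fun l => if l + 4 ≤ m then Θ l else Θ (l - 1)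
  have h3 : ∀ l, l + 3 ≤ m → GoodAt (hermB hF m) (stdSeq F m) U₂ U₃ l 3 (φ l) := fun l hl => by
    simp only [φ]
    split_ifs with h5
    · exact (h1 l h5).sub le_rfl (by omega)
    · exact (h1 (l - 1) (by omega)).sub (by omega) (by omega)
  have h5 : ∀ l, l + 4 ≤ m → ∀ g ∈ suOn (hermB hF m) (Iv F (stdSeq F m) (l + 1) 3),
      Θ l g = φ (l + 1) g := fun l hl g hg => by
    simp only [φ]
    split_ifs with h5
    exacts [h2 l h5 g hg, rfl]
  obtain ⟨h6, h7, h8⟩ := hc.elim (fun hq => comm_three_of_two h22 fun l hl =>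
    (h3 l hl).le_sup hF (fun _ => rfl) hq h he hl) id
  exact he.exists_surj hF (fun _ => rfl) h (finrank_fin m) (by omega) h3 h22 h6 h7 h8
    (fun l hl g hg => by
      rw [← h5 l hl g (suOn_Iv_mono (by omega) (by omega) hg)]
      simp only [φ, if_pos hl])
    (Or.inr fun l hl => ⟨Θ l, (h1 l hl).hom, fun g _ => by simp only [φ, if_pos hl], h5 l hl⟩) hgen

theorem seq_hasGood_four (hF : Fintype.card F = q ^ 2) (hq : q = 2 ∨ q = 3) {n : ℕ}
    {U : Fin n → Subgroup G} {V : Fin n → Fin n → Subgroup G}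
    (h1 : ∀ i j : Fin n, (i : ℕ) + 2 ≤ j → ∀ x ∈ U i, ∀ y ∈ U j, x * y = y * x)
    (h2 : ∀ i j : Fin n, (i : ℕ) + 1 = j → IsStandardUnitaryPair (V i j) (U i) (U j) F q)
    (h4 : ∀ i j k : Fin n, (i : ℕ) + 1 = j → (j : ℕ) + 1 = k →
      ∃ g : SU 4 F q →* ↥(V i j ⊔ V j k), Function.Surjective g) (l : ℕ) (hl : l + 4 ≤ n + 1) :
    HasGood hF (seq₂ U) (seq₃ V) l 4 := by
  have := h4 ⟨l, by omega⟩ ⟨l + 1, by omega⟩ ⟨l + 1 + 1, by omega⟩ rfl rfl
  rw [← seq₃_eq V (show l + 1 < n by omega), ← seq₃_eq V (show l + 1 + 1 < n by omega)] at this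
  obtain ⟨ρ, hρ⟩ := this
  exact hasGood_four hF hq (seq_hasGood hF h2 l (by omega)) (seq_hasGood hF h2 _ (by omega))
    (seq_comm h1 _ _ le_rfl (by omega)) ρ hρ

end Cfsg.Agent.H31
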