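import Cfsg.Agent.H11.ElDefs
import Cfsg.Agent.S0885
import Cfsg.Agent.H61.ZassFeit
import Cfsg.Agent.H61.ZassOdd

/-! A doubly transitive action whose three-point stabilisers equal the kernel. -/

set_option autoImplicit false

namespace Cfsg.Agent.H31.ElZa

open MulAction Subgroup Cfsg.Agent.H61

universe u

theorem odd_case {Q Ω : Type*} [Group Q] [Finite Q] [MulAction Q Ω] [Finite Ω]
    (hZ : IsZassenhausGroup Q Ω) {a b : Ω} (hab : a ≠ b) (ho : Odd (Nat.card (stab2 Q a b)))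
    (he : Even (Nat.card Ω)) : ∃ (K : Type) (_ : Field K) (_ : Fintype K), ringChar K ≠ 2 ∧
      Nonempty (Q ≃* Matrix.ProjectiveSpecialLinearGroup (Fin 2) K) := by
  have h := IsZ.of_zass hZ
  have h3 := three_le_card_of_zass hZ
  have := Fintype.ofFinite Ω
  obtain ⟨F, hF⟩ := h.exists_isKer hab.symm (stab2_ne_bot_of_zass hZ hab)
  have hc := hF.card_eq hab.symm
  obtain ⟨k, hk⟩ := he
  have big : Nat.card Ω - 2 ≤ 2 * Nat.card (stab2 Q a b) := by
    rcases S0885.result hZ hab (Nat.card Ω - 1) _ (by rw [← Nat.card_eq_fintype_card]; omega) rfl ho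
      F hF.fix (by rw [← Nat.card_eq_fintype_card]; omega)
      (fun u hu h1 c e => by_contra fun n => h1 (hF.free u hu c n e)) with h4 | ⟨h4, -⟩
    · exact h4
    · obtain ⟨m, hm⟩ := IsPGroup.iff_card.1 h4
      rw [hc] at hm
      rcases m with _ | m
      · omega
      · rw [pow_succ] at hm
        omega
  rcases zass_abelian_kernel hZ hab.symm hF
    (hF.elementary_of_big h hab.symm h3 le_rfl big).1 with h4 | ⟨-, K, _, _, hK, -, e⟩
  · obtain ⟨m, hm⟩ := ho
    omega
  · exact ⟨K, inferInstance, inferInstance, hK, e⟩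

theorem card_comap {X Q : Type*} [Group X] [Group Q] [Finite X] (ρ : X →* Q)
    (hs : Function.Surjective ρ) (H : Subgroup Q) :
    Nat.card (H.comap ρ) = Nat.card ρ.ker * Nat.card H := by
  have h1 := (H.comap ρ).card_mul_index
  have h2 := ρ.ker.card_mul_index
  rw [index_ker, MonoidHom.range_eq_top.2 hs, card_top, ← H.card_mul_index] at h2
  have h0 := (H.comap ρ).index_ne_zero_of_finite
  rw [index_comap_of_surjective _ hs] at h1 h0
  exact Nat.eq_of_mul_eq_mul_right (Nat.pos_of_ne_zero h0) (by rw [h1, ← h2, mul_assoc])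

theorem za : H11.EL.ZAStmt.{u} := by
  intro X _ _ Ω _ _ Y a b f e _ hY h2 h3 hΩ hab fa fb hf hn hc
  let ρ := (toPermHom X Ω).rangeRestrict
  have hs : Function.Surjective ρ := MonoidHom.rangeRestrict_surjective _
  have hρ : ∀ (g : X) (x : Ω), ρ g • x = g • x := fun _ _ => rfl
  have hk : ∀ g, ρ g = 1 ↔ g ∈ Y := fun g => by
    refine ⟨fun e => ?_, fun hg => Subtype.ext (Equiv.ext (hY g hg))⟩
    have := Fintype.ofFinite Ω
    rw [Nat.card_eq_fintype_card] at hΩ
    obtain ⟨x, y, z, h1, h2, h4⟩ := Fintype.two_lt_card_iff.1 hΩ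
    have k : ∀ w : Ω, g • w = w := fun w => by rw [← hρ, e, one_smul]
    exact h3 g x y z h1 h4 h2 (k x) (k y) (k z)
  have h : IsZ (toPermHom X Ω).range Ω := by
    refine ⟨fun a b c d h1 h4 => ?_, fun g x y z h1 h4 h5 => ?_, fun g hg =>
      Subtype.ext (Equiv.ext hg)⟩
    · obtain ⟨g, hg⟩ := h2 a b c d h1 h4
      exact ⟨ρ g, hg⟩
    · obtain ⟨g, rfl⟩ := hs g
      exact fun e1 e2 e3 => (hk g).2 (h3 g x y z h1 h4 h5 e1 e2 e3)
  have hZ : IsZassenhausGroup (toPermHom X Ω).range Ω := by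
    refine ⟨h.faithfulSMul, h.two, h.three, ⟨ρ f, fun e => hf ((hk f).1 e), a, b, hab, fa, fb⟩,
      fun N hN hT => ?_⟩
    by_contra hb
    push Not at hb
    obtain ⟨⟨n, hn1⟩, hn2⟩ := exists_smul_eq N a b
    obtain ⟨n, rfl⟩ := hs n
    change n • a = b at hn2
    have fa' : f⁻¹ • a = a := inv_smul_eq_iff.2 fa.symm
    have c : (ρ n)⁻¹ * (ρ f * ρ n * (ρ f)⁻¹) = 1 := by
      have m : (⟨_, N.mul_mem (N.inv_mem hn1) (hN.conj_mem _ hn1 (ρ f))⟩ : N) ∈
          stabilizer N a := by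
        change ((ρ n)⁻¹ * (ρ f * ρ n * (ρ f)⁻¹)) • a = a
        rw [← map_inv, ← map_inv, ← map_mul, ← map_mul, ← map_mul, hρ, mul_smul, mul_smul,
          mul_smul, fa', hn2, fb, ← hn2, inv_smul_smul]
      rw [hb a] at m
      exact congrArg Subtype.val (mem_bot.1 m)
    have c' : ρ f * ρ n = ρ n * ρ f := by
      rw [inv_mul_eq_one, eq_mul_inv_iff_mul_eq] at c
      exact c.symm
    refine hn n hn2 (by_contra fun k => hf (h3 f a b (n • b) hab (fun e => hab ?_) (Ne.symm k) fa fb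
      ?_)) ((hk _).1 ?_)
    · exact smul_left_cancel n (hn2.trans e)
    · rw [← mul_smul, ← hρ, map_mul, c', ← map_mul, hρ, mul_smul, fb]
    · rw [map_mul, map_mul, map_mul, map_inv, map_inv, ← c']
      group
  have hc' : Nat.card (stab2 (toPermHom X Ω).range a b) = e := by
    have k := card_comap ρ hs (stab2 _ a b)
    rw [show ρ.ker = Y from Subgroup.ext hk] at k
    exact Nat.eq_of_mul_eq_mul_left Nat.card_pos (k.symm.trans hc)
  subst hc'
  refine ⟨fun he => (h.le_two_mul_of_even hab he).1, fun ho he => ?_⟩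
  obtain ⟨K, _, _, hK, ⟨φ⟩⟩ := odd_case hZ hab ho he
  exact ⟨K, inferInstance, inferInstance, hK, φ.toMonoidHom.comp ρ, φ.surjective.comp hs,
    fun g => φ.map_eq_one_iff.trans (hk g)⟩

end Cfsg.Agent.H31.ElZa
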