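import Cfsg.Agent.H74.CksDefs
import Cfsg.Agent.H7.T3Cx
import Cfsg.Agent.H77.T3Rt
import Cfsg.Agent.H28.T3Sub
import Cfsg.Agent.H62.T3Ba1
import Cfsg.Agent.H3.T3Ba3
import Cfsg.Agent.H19.T3Free

/-!
# The root groups of the building of a split `BN`-pair
-/

set_option autoImplicit false

namespace Cfsg.Agent.H31.CksRgx

open Cfsg.Agent.H35 Cfsg.Agent.H35.BN Cfsg.Agent.Lead.T3 Cfsg.Agent.H74.Cks
open Equiv Subgroup

theorem cx : CxStmt := H7.T3Cx.cxStmt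
theorem ba1 : Ba1Stmt.{0} := @H62.T3B.ba1Stmt.{0}
theorem free : FreeStmt.{0} := @H19.T3Free.freeStmt.{0} @cx @H77.T3Rt.rtStmt @ba1
  (@H3.T3Ba3.ba3Stmt.{0} @cx @ba1)

section Bld

variable {Γ : Type} [Group Γ] {Q : BNPair Γ} {I W : Type} [Group W] {X : Cox I W} (T : Typed Q X)

theorem perm_inj [IsSimpleGroup Γ] (i : Q.S) :
    Function.Injective (MulAction.toPermHom Γ (Γ ⧸ Q.B)) := by
  rw [← MonoidHom.ker_eq_bot_iff, ← normalCore_eq_ker]
  exact (IsSimpleGroup.eq_bot_or_eq_top_of_normal _ inferInstance).resolve_right fun e =>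
    s_not_mem_B i (normalCore_le Q.B (e ▸ mem_top _))

theorem smul_eq {g k l : Γ} : g • (k : Γ ⧸ Q.B) = l ↔ (g * k)⁻¹ * l ∈ Q.B := QuotientGroup.eq

theorem mem_univ (w : W) : w ∈ X.WJ Set.univ := by
  obtain ⟨l, rfl⟩ := X.wp_surjective w
  exact X.wp_mem_closure fun _ _ => trivial

theorem mem_aut {g : Perm (Γ ⧸ Q.B)} (c : Γ ⧸ Q.B) :
    g ∈ T.bld.Aut Set.univ c ↔ ∀ x y, T.bld.δ (g x) (g y) = T.bld.δ x y :=
  ⟨fun h x y => h.2 x (mem_univ _) y (mem_univ _),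
    fun h => ⟨fun _ e => (e (mem_univ _)).elim, fun x _ y _ => h x y⟩⟩

/-- The standard apartment. -/
noncomputable def sg (w : W) : Γ ⧸ Q.B := (rep Q (T.φ.symm w) : Γ)

theorem apt : T.bld.Apt (sg T) := fun u w => by
  change T.φ (wdist Q _ _) = _
  rw [sg, sg, wdist_mk, bruhat_of_mem_N (mul_mem (inv_mem (rep_mem _)) (rep_mem _)),
    mkW_mul (inv_mem (rep_mem _)) (rep_mem _), mkW_inv (rep_mem _), mkW_rep, mkW_rep]
  simp

theorem sg_one : sg T 1 = (1 : Γ) := QuotientGroup.eq.2 (by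
  rw [mul_one, inv_mem_iff, ← mkW_eq_one_iff (rep_mem _), mkW_rep, map_one])

theorem sg_s (i : I) : sg T (X.s i) = (T.e i : Γ) := QuotientGroup.eq.2 (by
  rw [← mkW_eq_iff (rep_mem _) (Q.subset (T.e i).2), mkW_rep, ← T.φ_s, MulEquiv.symm_apply_apply,
    gens_s])

theorem perm_mem (γ : Γ) (c : Γ ⧸ Q.B) : MulAction.toPermHom Γ (Γ ⧸ Q.B) γ ∈ T.bld.Aut Set.univ c :=
  (mem_aut T c).2 fun x y => congrArg T.φ (wdist_smul γ x y)

/-- Conjugation of root groups. -/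
theorem conjR {σ σ' : W → Γ ⧸ Q.B} {a : Perm (Γ ⧸ Q.B)}
    (ha : ∀ x y, T.bld.δ (a x) (a y) = T.bld.δ x y) {u : W} (h : ∀ w, a (σ w) = σ' (u * w))
    {v : W} {i : I} {g : Perm (Γ ⧸ Q.B)} (hg : g ∈ T.bld.R σ Set.univ v i) :
    a * g * a⁻¹ ∈ T.bld.R σ' Set.univ (u * v) i := by
  have r : ∀ w, u * w ∈ X.rt (u * v) i → w ∈ X.rt v i := fun w hw => by
    simpa [Cox.rt, mul_assoc] using hw
  have a1 := (mem_aut T (σ' 1)).2 ha
  refine ⟨mul_mem (mul_mem a1 ((mem_aut T _).2 ((mem_aut T _).1 hg.1))) (inv_mem a1),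
    fun w _ hw => ?_, fun w _ j _ hw hw' x hx => ?_⟩
  · obtain ⟨w, rfl⟩ : ∃ w', w = u * w' := ⟨u⁻¹ * w, by simp⟩
    rw [← h, Perm.mul_apply, Perm.mul_apply, show a⁻¹ (a (σ w)) = σ w from a.symm_apply_apply _,
      hg.2.1 w (mem_univ _) (r w hw)]
  · obtain ⟨w, rfl⟩ : ∃ w', w = u * w' := ⟨u⁻¹ * w, by simp⟩
    obtain ⟨x, rfl⟩ := a.surjective x
    rw [mul_assoc] at hw'
    rw [Perm.mul_apply, Perm.mul_apply, show a⁻¹ (a x) = x from a.symm_apply_apply _,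
      hg.2.2 w (mem_univ _) j trivial (r w hw) (r _ hw') x ((ha _ _).symm.trans (h w ▸ hx))]

theorem iso (γ : Γ) (x y : Γ ⧸ Q.B) : T.bld.δ (MulAction.toPermHom Γ (Γ ⧸ Q.B) γ x)
    (MulAction.toPermHom Γ (Γ ⧸ Q.B) γ y) = T.bld.δ x y := congrArg T.φ (wdist_smul γ x y)

theorem sg_mk {m : Γ} (hm : m ∈ Q.N) : sg T (T.φ (mkW Q m hm)) = (m : Γ ⧸ Q.B) :=
  QuotientGroup.eq.2 (by
    rw [← mkW_eq_iff (rep_mem _) hm, mkW_rep, MulEquiv.symm_apply_apply])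

theorem smul_sg {m : Γ} (hm : m ∈ Q.N) (w : W) :
    MulAction.toPermHom Γ (Γ ⧸ Q.B) m (sg T w) = sg T (T.φ (mkW Q m hm) * w) := by
  obtain ⟨w, rfl⟩ := T.φ.surjective w
  obtain ⟨k, hk, rfl⟩ := exists_mkW w
  rw [← map_mul, ← mkW_mul, sg_mk, sg_mk]
  rfl

/-- The group is transitive on the apartments. -/
theorem exists_apt [Finite Γ] [Finite W] {σ σ' : W → Γ ⧸ Q.B} (h : T.bld.Apt σ)
    (h' : T.bld.Apt σ') (v : W) :
    ∃ γ : Γ, ∀ w, MulAction.toPermHom Γ (Γ ⧸ Q.B) γ (σ w) = σ' (v * w) := by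
  obtain ⟨γ, e1, e2⟩ := exists_smul_eq_of_wdist_eq (x := σ 1) (y := σ (X.wJ Set.univ))
    (x' := σ' (v * 1)) (y' := σ' (v * X.wJ Set.univ))
    (T.φ.injective ((h _ _).trans (Eq.trans (by simp) (h' _ _).symm)))
  refine ⟨γ, fun w => ?_⟩
  have k1 := (iso T γ (σ 1) (σ w)).trans (h _ _)
  have k2 := (iso T γ (σ w) (σ (X.wJ Set.univ))).trans (h _ _)
  rw [show MulAction.toPermHom Γ (Γ ⧸ Q.B) γ (σ 1) = _ from e1] at k1
  rw [show MulAction.toPermHom Γ (Γ ⧸ Q.B) γ (σ (X.wJ Set.univ)) = _ from e2] at k2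
  refine (ba1 T.bld).2.2.2.2.2.2.2.2.1 (σ' (v * 1)) (σ' (v * X.wJ Set.univ)) _ _
    (k1.trans (Eq.trans (by simp) (h' _ _).symm)) (k2.trans (Eq.trans (by simp) (h' _ _).symm)) ?_
  rw [k1, k2, h']
  have := ((cx X).2.1 Set.univ w⁻¹ (mem_univ _)).2
  rw [X.len_inv] at this
  simpa [add_comm] using this.symm

end Bld

section Sys

variable {G : Type} [Group G] [Finite G] {p n : ℕ} (S : Sys G p n)
  {W : Type} [Group W] [Finite W] {X : Cox (Fin n) W} (T : Typed S.bn X) (he : T.e = S.e)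
include he

omit [Finite G] in
theorem mem_R (i : Fin n) {y : G} (hy : y ∈ S.X i) :
    MulAction.toPermHom G (G ⧸ S.bn.B) y ∈ T.bld.R (sg T) Set.univ 1 i := by
  have hs : ∀ j, T.φ ((gens S.bn).s (S.e j)) = X.s j := fun j => he ▸ T.φ_s j
  have key : ∀ w, w ∈ X.rt 1 i → ∀ J : Finset S.bn.S,
      (T.φ.symm w)⁻¹ * (gens S.bn).s (S.e i) * T.φ.symm w ∉ BN.WJ S.bn J →
      (rep S.bn (T.φ.symm w))⁻¹ * y⁻¹ * rep S.bn (T.φ.symm w) ∈ S.sp.U J := fun w hw J hJ => by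
    refine S.conj i _ (rep_mem _) ?_ J (by rwa [mkW_rep]) _ (inv_mem hy)
    rw [mkW_rep, ← T.len, ← T.len, map_mul, hs, MulEquiv.apply_symm_apply]
    simpa [Cox.rt] using hw
  have ne : ∀ w, w ∈ X.rt 1 i → (T.φ.symm w)⁻¹ * (gens S.bn).s (S.e i) * T.φ.symm w ≠ 1 :=
    fun w hw e => by
      have e2 := congrArg T.φ e
      rw [map_mul, map_mul, map_inv, hs, MulEquiv.apply_symm_apply, map_one, mul_assoc,
        inv_mul_eq_one] at e2
      have : X.len w < X.len (X.s i * w) := by simpa [Cox.rt] using hw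
      rw [← e2] at this
      exact lt_irrefl _ this
  refine ⟨perm_mem T y _, fun w _ hw => ?_, fun w _ j _ hw hw' x hx => ?_⟩
  · have := S.sp.U_le _ (key w hw ∅ (by simpa [BN.WJ] using ne w hw))
    change y • sg T w = sg T w
    rw [sg, smul_eq]
    simpa [mul_assoc] using this
  · obtain ⟨k, rfl⟩ := QuotientGroup.mk_surjective x
    have e : bruhat S.bn ((rep S.bn (T.φ.symm w))⁻¹ * k) = (gens S.bn).s (S.e j) := by
      rw [← wdist_mk]
      exact T.φ.injective (hx.trans (hs j).symm)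
    have k1 := key w hw {S.e j} fun h => by
      have h1 : w⁻¹ * X.s i * w ∈ X.WJ {j} := by
        have := mem_map_of_mem T.φ.toMonoidHom h
        rw [BN.WJ, MonoidHom.map_closure, Finset.coe_singleton, Set.image_singleton,
          Set.image_singleton] at this
        simpa [hs, Cox.WJ] using this
      have l1 : X.len w < X.len (X.s i * w) := by simpa [Cox.rt] using hw
      have l2 : X.len (w * X.s j) < X.len (X.s i * (w * X.s j)) := by simpa [Cox.rt] using hw'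
      rcases ((cx X).2.2.2.2.2.1 j _).1 h1 with h2 | h2
      · rw [mul_assoc, inv_mul_eq_one] at h2
        rw [← h2] at l1
        exact lt_irrefl _ l1
      · rw [mul_assoc, inv_mul_eq_iff_eq_mul] at h2
        rw [← h2, ← mul_assoc, X.s_mul_s, one_mul] at l2
        omega
    have k2 := S.sp.U_le _ (S.sp.conj_mem (x := (rep S.bn (T.φ.symm w))⁻¹ * k)
      (mem_PJ_iff.2 (e ▸ subset_closure ⟨_, by simp, rfl⟩)) k1)
    change y • (k : G ⧸ S.bn.B) = k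
    rw [smul_eq]
    simpa [mul_assoc] using k2

omit [Finite G] [Finite W] in
theorem exists_X (i : Fin n) {x : G ⧸ S.bn.B} (hx : x ∈ T.bld.pan (sg T 1) i) :
    ∃ y ∈ S.X i, MulAction.toPermHom G (G ⧸ S.bn.B) y (sg T (X.s i)) = x := by
  obtain ⟨k, rfl⟩ := QuotientGroup.mk_surjective x
  have e : T.φ (wdist S.bn (sg T 1) k) = X.s i := hx
  rw [sg_one, ← T.φ_s] at e
  have e1 := T.φ.injective e
  rw [wdist_mk, inv_one, one_mul, bruhat_eq_iff, he] at e1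
  obtain ⟨y, hy, e2⟩ := S.cell i k e1
  refine ⟨y, hy, ?_⟩
  rw [sg_s, he]
  exact (QuotientGroup.eq.2 e2).symm

theorem R_one (i : Fin n) (hi : ∃ j, 3 ≤ X.m i j) :
    T.bld.R (sg T) Set.univ 1 i = (S.X i).map (MulAction.toPermHom G (G ⧸ S.bn.B)) := by
  refine le_antisymm (fun g hg => ?_) (by rintro _ ⟨y, hy, rfl⟩; exact mem_R S T he i hy)
  have one : (1 : W) ∈ X.rt 1 i := by simp [Cox.rt, X.exch.len_s]
  have pan : sg T (X.s i) ∈ T.bld.pan (sg T 1) i := (apt T 1 _).trans (by simp)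
  have e := (mem_aut T _).1 hg.1 (sg T 1) (sg T (X.s i))
  rw [hg.2.1 1 (one_mem _) one] at e
  obtain ⟨y, hy, e2⟩ := exists_X S T he i (e.trans pan)
  refine ⟨y, hy, inv_mul_eq_one.1 ((free T.bld (sg T) Set.univ (apt T)).1 1 (one_mem _) i trivial
    (hi.imp fun _ e => ⟨trivial, e⟩) _ (mul_mem (inv_mem (mem_R S T he i hy)) hg) _ pan ?_)⟩
  rw [Perm.mul_apply, Perm.inv_eq_iff_eq, e2]

theorem mou (c : G ⧸ S.bn.B) : T.bld.Mou Set.univ c := by
  intro σ hσ _ v _ i _ x hx y hy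
  obtain ⟨γ, hγ⟩ := exists_apt T (apt T) hσ v
  obtain ⟨x, rfl⟩ := (MulAction.toPermHom G (G ⧸ S.bn.B) γ).surjective x
  obtain ⟨y, rfl⟩ := (MulAction.toPermHom G (G ⧸ S.bn.B) γ).surjective y
  have h1 := hγ 1
  rw [mul_one] at h1
  obtain ⟨a, ha, rfl⟩ := exists_X S T he i ((iso T γ _ x).symm.trans (h1 ▸ hx))
  obtain ⟨b, hb, rfl⟩ := exists_X S T he i ((iso T γ _ y).symm.trans (h1 ▸ hy))
  have := conjR T (iso T γ) hγ (mem_R S T he i (mul_mem hb (inv_mem ha)))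
  rw [mul_one] at this
  exact ⟨_, this, by simp [smul_smul]⟩

theorem R_eq {m : G} (hm : m ∈ S.bn.N) (i : Fin n) (hi : ∃ j, 3 ≤ X.m i j) :
    T.bld.R (sg T) Set.univ (T.φ (mkW S.bn m hm)) i =
      (cn m (S.X i)).map (MulAction.toPermHom G (G ⧸ S.bn.B)) := by
  refine le_antisymm (fun g hg => ?_) ?_
  · have := conjR T (iso T m⁻¹) (smul_sg T (inv_mem hm)) hg
    rw [mkW_inv hm, map_inv T.φ, inv_mul_cancel, R_one S T he i hi] at this
    obtain ⟨y, hy, e⟩ := this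
    refine ⟨m * y * m⁻¹, ⟨y, hy, rfl⟩, ?_⟩
    rw [map_mul, map_mul, e, map_inv]
    group
  · rintro _ ⟨_, ⟨y, hy, rfl⟩, rfl⟩
    have := conjR T (iso T m) (smul_sg T hm) (mem_R S T he i hy)
    rwa [mul_one, ← map_inv, ← map_mul, ← map_mul] at this

end Sys

/-- **RGX** -/
theorem rgx : RgxStmt := by
  intro G _ _ _ p n _ S hc hn
  obtain ⟨W, _, _, X, T, he⟩ := (H28.T3Sub.fhStmt S.bn).2 (Fin n) S.e
  have hm : ∀ i j, X.m i j = S.m i j := fun i j => by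
    rw [Cox.m, ← T.φ_s, ← T.φ_s, ← map_mul, T.φ.orderOf_eq, he]
  exact ⟨W, _, inferInstance, X, T, he, hm, perm_inj (S.e ⟨0, hn⟩), fun g => perm_mem T g _,
    sg T, apt T, mou S T he _, fun m hm => sg_mk T hm, fun m h i =>
      R_eq S T he h i ((hc i).imp fun j e => (hm i j).symm ▸ e)⟩

end Cfsg.Agent.H31.CksRgx
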