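import Cfsg.Agent.H31.PhanRec

/-!
Lifting of `p`-elements through homomorphisms with scalar kernel; homomorphisms from `SU₃` into
quotients of `SU₄` map transvections to transvections when `q` is `2` or `3`.
-/

set_option autoImplicit false

namespace Cfsg.Agent.H31

open Module H73

variable {F : Type*} [Field F] {σ : F →+* F} {V : Type*} [AddCommGroup V] [Module F V]
  {B : V →ₛₗ[σ] V →ₗ[F] F} {V' : Type*} [AddCommGroup V'] [Module F V']
  {B' : V' →ₛₗ[σ] V' →ₗ[F] F} {e f u v w : V} {g g' : V ≃ₗ[F] V} {G : Type*} [Group G]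
  {π : (V ≃ₗ[F] V) → G} {φ : (V' ≃ₗ[F] V') → G} {p : ℕ}

/-- the image of a subgroup -/
def HomOn.img {Γ X : Type*} [Group Γ] [Group X] {H : Subgroup Γ} {φ : Γ → X} (h : HomOn H φ) :
    Subgroup X where
  carrier := {x | ∃ g ∈ H, φ g = x}
  one_mem' := ⟨1, one_mem _, h.one⟩
  mul_mem' := by
    rintro _ _ ⟨a, ha, rfl⟩ ⟨b, hb, rfl⟩
    exact ⟨_, mul_mem ha hb, h a ha b hb⟩
  inv_mem' := by
    rintro _ ⟨a, ha, rfl⟩
    exact ⟨_, inv_mem ha, h.inv ha⟩

theorem HomOn.conj {Γ X : Type*} [Group Γ] [Group X] {H : Subgroup Γ} {φ : Γ → X} (h : HomOn H φ)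
    {a b : Γ} (ha : a ∈ H) (hb : b ∈ H) : φ (a * b * a⁻¹) = φ a * φ b * (φ a)⁻¹ := by
  rw [h _ (mul_mem ha hb) _ (inv_mem ha), h _ ha _ hb, h.inv ha]

theorem HomOn.isPElt {Γ X : Type*} [Group Γ] [Group X] {H : Subgroup Γ} {φ : Γ → X}
    (h : HomOn H φ) {a : Γ} (ha : a ∈ H) (h1 : IsPElt p a) : IsPElt p (φ a) := by
  obtain ⟨k, hk⟩ := h1
  exact ⟨k, by rw [← h.pow ha, hk, h.one]⟩

/-- a homomorphism on the special unitary group with scalar kernel -/
structure Cov (B : V →ₛₗ[σ] V →ₗ[F] F) (π : (V ≃ₗ[F] V) → G) : Prop where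
  hom : HomOn (sisom B) π
  ker : ∀ g ∈ sisom B, π g = 1 → ∃ a : F, ∀ x, g x = a • x

theorem Cov.exists_smul (h : Cov B π) (hg : g ∈ sisom B) (hg' : g' ∈ sisom B) (e : π g = π g') :
    ∃ a : F, ∀ x, g x = a • g' x := by
  obtain ⟨a, ha⟩ := h.ker _ (mul_mem hg (inv_mem hg')) (by
    rw [h.hom _ hg _ (inv_mem hg'), h.hom.inv hg', e, mul_inv_cancel])
  exact ⟨a, fun x => by rw [← ha, LinearEquiv.mul_apply, inv_apply_apply]⟩

variable [Fact p.Prime] [CharP F p]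

theorem eigen_one (hg : IsPElt p g) (hv : v ≠ 0) {a : F} (ha : g v = a • v) : a = 1 :=
  hg.eigen_eq_one LinearEquiv.automorphismGroup.toLinearMapMonoidHom hv ha

omit [Fact p.Prime] in
theorem Tr.isPElt (h : Tr B e g) : IsPElt p g := ⟨1, by rw [pow_one, h.pow_char]⟩

theorem Cov.eq_of_isPElt (h : Cov B π) (hg : g ∈ sisom B) (hg' : g' ∈ sisom B)
    (h1 : IsPElt p g) (h1' : IsPElt p g') (e : π g = π g') : g = g' := by
  obtain ⟨a, ha⟩ := h.exists_smul hg hg' e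
  have h2 : IsPElt p (g * g'⁻¹) := h1.mul_of_commute h1'.inv (Commute.inv_right
    (LinearEquiv.ext fun x => by simp only [LinearEquiv.mul_apply, ha, map_smul]))
  ext x
  by_cases hx : x = 0
  · rw [hx, map_zero, map_zero]
  rw [ha, eigen_one h2 hx (a := a) (by rw [LinearEquiv.mul_apply, ha, apply_inv_apply]), one_smul]

theorem Cov.comm_of_isPElt (h : Cov B π) (hg : g ∈ sisom B) (hg' : g' ∈ sisom B)
    (h1 : IsPElt p g) (e : π g * π g' = π g' * π g) : g * g' = g' * g := by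
  rw [eq_comm, ← mul_inv_eq_iff_eq_mul]
  exact h.eq_of_isPElt (mul_mem (mul_mem hg' hg) (inv_mem hg')) hg (h1.conj g') h1
    (by rw [h.hom.conj hg' hg, ← e, mul_inv_cancel_right])

theorem exists_fixed_mod [Finite V] {P : Subgroup (V ≃ₗ[F] V)} (hP : IsPGroup p P)
    {U W : Submodule F V} (hU : ∀ g ∈ P, ∀ x ∈ U, g x ∈ U) (hW : ∀ g ∈ P, ∀ x ∈ W, g x ∈ W)
    (hWU : ¬ W ≤ U) : ∃ w ∈ W, w ∉ U ∧ ∀ g ∈ P, g w - w ∈ U := by
  let ρ : P →* End F (W ⧸ U.comap W.subtype) :=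
    { toFun := fun g => Submodule.mapQ _ _ ((g.1 : V →ₗ[F] V).restrict (hW g g.2))
        fun x hx => hU g g.2 x hx
      map_one' := by ext; rfl
      map_mul' := fun _ _ => by ext; rfl }
  have : Nontrivial (W ⧸ U.comap W.subtype) := Submodule.Quotient.nontrivial_iff.mpr
    fun h => hWU (Submodule.comap_subtype_eq_top.mp h)
  have : Finite (W ⧸ U.comap W.subtype) := Finite.of_surjective _ (Submodule.mkQ_surjective _)
  obtain ⟨v, hv, h1⟩ := exists_fixed_of_isPGroup ρ (P := ⊤) (hP.to_subgroup ⊤)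
  obtain ⟨w, rfl⟩ := Submodule.mkQ_surjective _ v
  exact ⟨w, w.2, fun h => hv ((Submodule.Quotient.mk_eq_zero _).mpr h),
    fun g hg => (Submodule.Quotient.eq (U.comap W.subtype)).mp (h1 ⟨g, hg⟩ trivial)⟩

variable [FiniteDimensional F V] [Finite F]

omit [CharP F p] in
theorem Cov.exists_pgroup (h : Cov B π) {R : Subgroup G} (hR : IsPGroup p R)
    (hR' : ∀ x ∈ R, ∃ g ∈ sisom B, π g = x) : ∃ P : Subgroup (V ≃ₗ[F] V), P ≤ sisom B ∧
      IsPGroup p P ∧ (∀ g ∈ P, π g ∈ R) ∧ ∀ x ∈ R, ∃ g ∈ P, π g = x := by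
  have := Fintype.ofFinite F
  have : Finite (V ≃ₗ[F] V) := finite_linearEquiv
  have hs := h.hom.toHom.rangeRestrict_surjective
  have : Finite h.hom.toHom.range := Finite.of_surjective _ hs
  obtain ⟨U, hU⟩ := (hR.comap_of_injective _ h.hom.toHom.range.subtype_injective).exists_le_sylow
  obtain ⟨U', hU'⟩ := Sylow.mapSurjective_surjective hs p U
  refine ⟨((U' : Subgroup (sisom B)) ⊓ R.comap h.hom.toHom).map (sisom B).subtype, Subgroup.map_subtype_le _,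
    (U'.isPGroup'.to_le inf_le_left).map _, ?_, fun x hx => ?_⟩
  · rintro _ ⟨g, hg, rfl⟩
    exact hg.2
  · obtain ⟨g, hg, rfl⟩ := hR' x hx
    have h1 : (⟨π g, ⟨g, hg⟩, rfl⟩ : h.hom.toHom.range) ∈ (U : Subgroup _) := hU hx
    rw [← hU', Sylow.coe_mapSurjective] at h1
    obtain ⟨g', h2, h3⟩ := h1
    have h4 : π g' = π g := congrArg Subtype.val h3
    exact ⟨g', ⟨g', ⟨h2, show π g' ∈ R from h4 ▸ hx⟩, rfl⟩, h4⟩

omit [CharP F p] in
theorem Cov.exists_isPElt (h : Cov B π) (hg : g ∈ sisom B) (h1 : IsPElt p (π g)) :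
    ∃ g' ∈ sisom B, IsPElt p g' ∧ π g' = π g := by
  obtain ⟨P, h2, h3, -, h4⟩ := h.exists_pgroup h1.isPGroup_zpowers (by
    rintro _ ⟨n, rfl⟩
    exact h.hom.img.zpow_mem ⟨g, hg, rfl⟩ n)
  obtain ⟨g', h5, h6⟩ := h4 _ (Subgroup.mem_zpowers _)
  exact ⟨g', h2 h5, .of_mem h3 h5, h6⟩

omit [Finite F] [FiniteDimensional F V] in
theorem span_pair_eq {E : Submodule F V} (h2 : finrank F E = 2) (hu : u ∈ E) (hv : v ∈ E)
    (huv : Col B u v) : Submodule.span F {u, v} = E := by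
  have : FiniteDimensional F E := .of_finrank_eq_succ h2
  exact Submodule.eq_of_le_of_finrank_eq (span_pair_le hu hv)
    (by rw [finrank_span_pair_of_gram huv, h2])

/-- the structure of a non-abelian `p`-subgroup of `SU₄` -/
theorem IsHerm.exists_flag_four (h : IsHerm B) (h4 : finrank F V = 4)
    {P : Subgroup (V ≃ₗ[F] V)} (hP : P ≤ sisom B) (hp : IsPGroup p P)
    (hna : ∃ a ∈ P, ∃ b ∈ P, a * b ≠ b * a) : ∃ e, e ≠ 0 ∧ B e e = 0 ∧
      (∀ k ∈ isom B, (∀ g ∈ P, k * g * k⁻¹ ∈ P) → (∀ g ∈ P, k⁻¹ * g * k ∈ P) →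
        ∃ a : F, k e = a • e) ∧
      ∃ χ : (V ≃ₗ[F] V) → F, (∀ g ∈ P, χ g + σ (χ g) = 0) ∧
        (∀ g ∈ P, ∀ g' ∈ P, χ (g * g') = χ g + χ g') ∧ ∀ g ∈ P, χ g = 0 → g ∈ uniRad B e := by
  have hs := h.toIsHermSymm
  have : Finite V := Module.finite_of_finite F
  obtain ⟨a₀, ha₀, b₀, hb₀, hab⟩ := hna
  let C : Submodule F V :=
    { carrier := {x | ∀ g ∈ P, g x = x}
      add_mem' := fun hx hy g hg => by rw [map_add, hx g hg, hy g hg]
      zero_mem' := fun g _ => map_zero g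
      smul_mem' := fun c x hx g hg => by rw [map_smul, hx g hg] }
  have hC : ∀ g ∈ P, ∀ x, g x - x ∈ perp B C := fun g hg x c hc => by
    rw [map_sub, isom_adj' (hP hg).1, hc _ (inv_mem hg), sub_self]
  obtain ⟨e, he1, he0, he2⟩ := exists_fixed_mod hp (U := ⊥) (W := perp B C)
    (fun g _ x hx => by rw [(Submodule.mem_bot F).mp hx, map_zero]; exact zero_mem _)
    (fun g hg x hx => by simpa using add_mem (hC g hg x) hx) fun h0 => hab (by
      have : a₀ = 1 := LinearEquiv.ext fun x => sub_eq_zero.mp (h0 (hC _ ha₀ x))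
      rw [this, one_mul, mul_one])
  have heC : e ∈ C := fun g hg => sub_eq_zero.mp (he2 g hg)
  have he : B e e = 0 := he1 e heC
  replace he0 : e ≠ 0 := he0
  have hR : ∀ u ∈ C, u ∈ perp B C → ∃ a : F, u = a • e := fun u hu hu' => by
    by_contra h1
    push Not at h1
    have h2 : finrank F (Submodule.span F {e, u}) = 2 := by
      have := finrank_span_eq_card ((LinearIndependent.pair_iff' he0).mpr fun a => (h1 a).symm)
      rwa [Matrix.range_cons_cons_empty] at this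
    have h3 : Submodule.span F {e, u} = perp B (Submodule.span F {e, u}) :=
      Submodule.eq_of_le_of_finrank_eq ((span_pair_le he1 hu').trans
        (perp_anti (span_pair_le heC hu))) (by rw [h.finrank_perp, h2, h4])
    have h5 : ∀ g ∈ P, ∀ x, g x - x ∈ C := fun g hg x =>
      span_pair_le heC hu (h3 ▸ perp_anti (span_pair_le heC hu) (hC g hg x))
    refine hab (LinearEquiv.ext fun x => ?_)
    have h6 := h5 _ ha₀ x _ hb₀
    have h7 := h5 _ hb₀ x _ ha₀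
    rw [map_sub, sub_eq_iff_eq_add] at h6 h7
    rw [LinearEquiv.mul_apply, LinearEquiv.mul_apply, h6, h7]
    abel
  refine ⟨e, he0, he, fun k hk h1 h2 => hR _ (fun g hg => ?_) fun c hc => ?_, ?_⟩
  · have := congrArg k (heC _ (h2 g hg))
    rwa [LinearEquiv.mul_apply, LinearEquiv.mul_apply, apply_inv_apply] at this
  · rw [isom_adj' hk]
    refine he1 _ fun g hg => ?_
    have := hc _ (h1 g hg)
    rw [LinearEquiv.mul_apply, LinearEquiv.mul_apply] at this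
    rw [← k.injective.eq_iff, this, apply_inv_apply]
  obtain ⟨f, hp'⟩ := h.exists_hypPair he he0
  have hE := h.nondegOn_hypPerp hp'
  have hE2 : finrank F (hypPerp B e f) = 2 := by have := h.finrank_hypPerp hp'; omega
  have hfe := hs.flip_one hp'.hef
  have hproj : ∀ x, B e x = 0 → x - B f x • e ∈ hypPerp B e f := fun x hx =>
    mem_hypPerp.mpr ⟨by simp [hx, he], by simp [hfe]⟩
  have hperp : ∀ g ∈ P, ∀ x, B e (g x) = B e x := fun g hg x => by
    rw [isom_adj' (hP hg).1, heC _ (inv_mem hg)]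
  obtain ⟨r, hr, hr0, hr1⟩ : ∃ r ∈ hypPerp B e f, r ≠ 0 ∧ ∀ g ∈ P, ∃ a : F, g r = r + a • e := by
    obtain ⟨r, h1, h2, h3⟩ := exists_fixed_mod hp (U := F ∙ e) (W := perp B (F ∙ e))
      (fun g hg x hx => by
        obtain ⟨a, rfl⟩ := Submodule.mem_span_singleton.mp hx
        rw [map_smul, heC g hg]; exact hx)
      (fun g hg x hx => by rw [mem_perp_span_singleton] at hx ⊢; rw [hperp g hg, hx])
      fun h0 => by
        have h1 := Submodule.finrank_mono h0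
        have h2 := h.finrank_perp_pt he0
        rw [finrank_span_singleton he0] at h1
        omega
    refine ⟨_, hproj r (mem_perp_span_singleton.mp h1), fun h0 => h2 ?_, fun g hg => ?_⟩
    · rw [sub_eq_zero.mp h0]
      exact Submodule.smul_mem _ _ (Submodule.mem_span_singleton_self e)
    · obtain ⟨a, ha⟩ := Submodule.mem_span_singleton.mp (h3 g hg)
      exact ⟨a, by rw [map_sub, map_smul, heC g hg, ha]; abel⟩
  have hre := hs.flip_zero (mem_hypPerp.mp hr).1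
  have hcoord : ∀ r' ∈ hypPerp B e f, Col B r r' → ∀ x, B e x = 0 →
      ∃ a b c : F, x = a • r + b • r' + c • e := fun r' hr' hc x hx => by
    obtain ⟨a, b, hab⟩ := Submodule.mem_span_pair.mp (span_pair_eq hE2 hr hr' hc ▸ hproj x hx)
    exact ⟨a, b, B f x, by rw [hab, sub_add_cancel]⟩
  have hrad : ∀ r' ∈ hypPerp B e f, Col B r r' → ∀ g ∈ P, (∃ a : F, g r' = r' + a • e) →
      g ∈ uniRad B e := fun r' hr' hc g hg ⟨a', ha'⟩ => by
    refine ⟨hP hg, heC g hg, fun x hx => ?_⟩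
    obtain ⟨a, ha⟩ := hr1 g hg
    obtain ⟨s, t, c, rfl⟩ := hcoord r' hr' hc x hx
    exact ⟨s * a + t * a', by simp only [map_add, map_smul, ha, ha', heC g hg]; module⟩
  have hadj : ∀ g ∈ P, ∀ x, B e x = 0 → B r (g x) = B r x := fun g hg x hx => by
    obtain ⟨a, ha⟩ := hr1 _ (inv_mem hg)
    rw [isom_adj' (hP hg).1, ha, add_left, smul_left, hx, mul_zero, add_zero]
  by_cases hrr : B r r = 0
  · obtain ⟨r', hr', h1, h2⟩ := hs.exists_hyperbolic_of_nondegOn hE hrr hr0 hr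
    have hc : Col B r r' := hs.gram_hyperbolic hrr h2
    have h3 := (mem_hypPerp.mp hr').1
    have h3' := hs.flip_zero h3
    have h2' := hs.flip_one h2
    have h5 : ∀ g ∈ P, ∃ a : F, g r' = B r' (g r') • r + r' + a • e := fun g hg => by
      obtain ⟨s, t, c, h5⟩ := hcoord r' hr' hc (g r') (by rw [hperp g hg, h3])
      have h6 := hadj g hg r' h3
      rw [h5] at h6 ⊢
      simp only [map_add, smul_right, hrr, h2, hre, h1, h2', h3', mul_zero, mul_one, zero_add,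
        add_zero] at h6 ⊢
      exact ⟨c, by rw [h6, one_smul]⟩
    refine ⟨fun g => B r' (g r'), fun g hg => ?_, fun g hg g' hg' => ?_, fun g hg h6 => ?_⟩
    · obtain ⟨a, ha⟩ := h5 g hg
      have := (hP hg).1 r' r'
      simp only
      generalize B r' (g r') = c at ha ⊢
      rw [ha] at this
      simpa [hrr, h2, hre, h1, h2', h3', h3, he, (mem_hypPerp.mp hr).1, add_comm] using this
    · obtain ⟨a, ha⟩ := h5 g' hg'
      obtain ⟨b, hb⟩ := hr1 g hg
      simp only [LinearEquiv.mul_apply]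
      generalize B r' (g' r') = c at ha ⊢
      simp [ha, hb, heC g hg, h2', h3', add_comm]
    · obtain ⟨a, ha⟩ := h5 g hg
      simp only at h6
      exact hrad r' hr' hc g hg ⟨a, by rw [ha, h6, zero_smul, zero_add]⟩
  · obtain ⟨r', hr', h1, h2⟩ := h.exists_nonisotropic_perp hE hr (Or.inr ⟨hE2.ge, hrr⟩)
    have h2' := hs.flip_zero h2
    have hc : Col B r r' := by rw [Col, h2, mul_zero, sub_zero]; exact mul_ne_zero hrr h1
    have h3 := (mem_hypPerp.mp hr').1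
    refine ⟨0, by simp, by simp, fun g hg _ => hrad r' hr' hc g hg ?_⟩
    obtain ⟨s, t, c, h5⟩ := hcoord r' hr' hc (g r') (by rw [hperp g hg, h3])
    have h6 := hadj g hg r' h3
    rw [h5] at h6
    simp only [map_add, smul_right, h2', hre, mul_zero, add_zero, mul_eq_zero, hrr, or_false] at h6
    rw [h6, zero_smul, zero_add] at h5
    have h7 : t = 1 := (IsPElt.of_mem hp hg).eigen_mod_eq_one
      LinearEquiv.automorphismGroup.toLinearMapMonoidHom (F ∙ e) (fun x hx => by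
        obtain ⟨a, rfl⟩ := Submodule.mem_span_singleton.mp hx
        change g _ ∈ _
        rw [map_smul, heC g hg]; exact hx) (v := r') (fun hx => by
        obtain ⟨a, rfl⟩ := Submodule.mem_span_singleton.mp hx
        exact h1 (isotropic_smul he a)) (by
        change g r' - _ ∈ _
        rw [h5, add_sub_cancel_left]
        exact Submodule.smul_mem _ _ (Submodule.mem_span_singleton_self e))
    exact ⟨c, by rw [h5, h7, one_smul]⟩

section Eich

omit [Fact p.Prime] [CharP F p] [FiniteDimensional F V] [Finite F]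

variable {c c' : F} {w' : V}

theorem IsEich.comm (hs : IsHermSymm B) (he : B e e = 0) (hw : B e w = 0) (hw' : B e w' = 0)
    (hg : IsEich B e w c g) (hg' : IsEich B e w' c' g') :
    IsEich B e 0 (B w' w - B w w') (g * g' * (g' * g)⁻¹) := by
  have h1 : B e (w' + w) = 0 := by rw [map_add, hw, hw', add_zero]
  refine ((hg.mul hs he hw hw' hg').mul hs he (by rw [add_comm, h1]) (by rw [map_neg, h1, neg_zero])
    ((hg'.mul hs he hw' hw hg).inv hs he h1)).congr (by abel) ?_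
  simp only [map_add, map_neg, LinearMap.add_apply]
  ring

theorem IsEich.ne_one_of_hyp (hp : HypPair B e f) (hg : IsEich B e 0 c g) (hc : c ≠ 0) : g ≠ 1 := by
  rintro rfl
  have := hg.apply_f hp.hef (zero_left B f)
  simp [hc, hp.ne_zero] at this

theorem IsHermSymm.tr_comm (hs : IsHermSymm B) (hp : HypPair B e f) (hg : g ∈ uniRad B e)
    (hg' : g' ∈ uniRad B e) : Tr B e (g * g' * (g' * g)⁻¹) := by
  obtain ⟨w, c, h1, -, h2⟩ := hs.exists_isEich_of_mem hp hg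
  obtain ⟨w', c', h1', -, h2'⟩ := hs.exists_isEich_of_mem hp hg'
  exact (h2.comm hs hp.he h1 h1' h2').tr hp.he

theorem IsHermSymm.tr_sq (hs : IsHermSymm B) (h2 : (2 : F) = 0) (hp : HypPair B e f)
    (hg : g ∈ uniRad B e) : Tr B e (g * g) := by
  obtain ⟨w, c, h1, -, h3⟩ := hs.exists_isEich_of_mem hp hg
  exact ((h3.mul hs hp.he h1 h1 h3).congr (by rw [← two_smul F, h2, zero_smul]) rfl).tr hp.he

theorem Tr.exists_pow (h : IsHerm B) (hK : ∀ b : F, σ b = b → ∃ n : ℕ, b = n) (ht : Tr B e g)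
    (hg : g ∈ isom B) (h1 : g ≠ 1) (he : B e e = 0) (hc : c + σ c = 0) :
    ∃ n : ℕ, tv B e c he hc = g ^ n := by
  obtain ⟨f, hp⟩ := h.exists_hypPair he (ht.ne_zero h1)
  obtain ⟨-, c₀, h2⟩ := ht
  have h3 : c₀ ≠ 0 := by rintro rfl; exact h1 (LinearEquiv.ext fun x => by simpa using h2 x)
  have h4 : c₀ + σ c₀ = 0 := by
    simpa using IsEich.cond (w := 0) (c := c₀) h.toIsHermSymm hp (map_zero _)
      (fun x => by simpa using h2 x) hg
  obtain ⟨n, hn⟩ := hK (c / c₀) (by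
    rw [map_div₀, ← neg_eq_of_add_eq_zero_right hc, ← neg_eq_of_add_eq_zero_right h4, neg_div_neg_eq])
  exact ⟨n, LinearEquiv.ext fun x => by
    rw [Tr.pow_apply he h2, ← hn, div_mul_cancel₀ _ h3, tv_apply]⟩

end Eich

omit [Fact p.Prime] [CharP F p] [FiniteDimensional F V] [Finite F] in
theorem fixed_eq_natCast {q : ℕ} (hσ : ∀ x, σ x = x ^ q) (hq : q = 2 ∨ q = 3) [Fintype F]
    (hF : Fintype.card F = q ^ 2) (b : F) (hb : σ b = b) : ∃ n : ℕ, b = n := by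
  rw [hσ] at hb
  have h0 := natCast_q hF
  rcases hq with rfl | rfl
  · rcases mul_eq_zero.mp (show b * (b - 1) = 0 by linear_combination hb) with h | h
    · exact ⟨0, by simpa using h⟩
    · exact ⟨1, by simpa [sub_eq_zero] using h⟩
  · rcases mul_eq_zero.mp (show b * ((b - 1) * (b + 1)) = 0 by linear_combination hb) with h | h
    · exact ⟨0, by simpa using h⟩
    rcases mul_eq_zero.mp h with h | h
    · exact ⟨1, by simpa [sub_eq_zero] using h⟩
    · exact ⟨2, by push_cast at h0 ⊢; linear_combination h - h0⟩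

omit [Fact p.Prime] [CharP F p] [Finite F] in
/-- **Transvections are mapped to transvections.** -/
theorem Cov.exists_tr [Fintype F] [FiniteDimensional F V'] {q : ℕ} (hF : Fintype.card F = q ^ 2)
    (hσ : ∀ x, σ x = x ^ q) (hq : q = 2 ∨ q = 3) (h : IsHerm B) (h4 : finrank F V = 4)
    (h' : IsHerm B') (h3 : finrank F V' = 3) (hπ : Cov B π) (hφ : Cov B' φ)
    (hle : ∀ g ∈ sisom B', ∃ g' ∈ sisom B, π g' = φ g) {e₀ : V'} (he₀ : B' e₀ e₀ = 0)
    (he₀' : e₀ ≠ 0) : ∃ e, ∃ t ∈ sisom B', ∃ t' ∈ sisom B,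
      Tr B' e₀ t ∧ t ≠ 1 ∧ Tr B e t' ∧ t' ≠ 1 ∧ π t' = φ t := by
  have hs := h.toIsHermSymm
  have hs' := h'.toIsHermSymm
  have : Fact (ringChar F).Prime := ⟨CharP.char_is_prime F _⟩
  have hQ := isPGroup_uniRad hF hσ h' he₀ he₀'
  have hφQ := hφ.hom.mono (uniRad_le_sisom (e := e₀))
  obtain ⟨P, hP1, hP2, hP3, hP4⟩ := hπ.exists_pgroup (p := ringChar F) (R := hφQ.img)
    (isPGroup_of_forall_isPElt (by
      rintro _ ⟨x, hx, rfl⟩
      exact hφQ.isPElt hx (.of_mem hQ hx)))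
    (by rintro _ ⟨x, hx, rfl⟩; exact hle x hx.1)
  obtain ⟨w, f₀, hb⟩ := h'.exists_hypBasis h3 he₀ he₀'
  have hp₀ := hb.toHypPair
  have hw : ∀ a : F, B' e₀ (a • w) = 0 := fun a => by rw [smul_right, hb.hev, mul_zero]
  have hx : ∀ a : F, ∃ x ∈ uniRad B' e₀, ∃ c, IsEich B' e₀ (a • w) c x ∧ ∃ x' ∈ P, π x' = φ x :=
    fun a => by
      obtain ⟨c, hc⟩ := hs'.inv.exists_trace_eq (a := -B' (a • w) (a • w))
        (by rw [map_neg, hs'.norm_fixed])
      obtain ⟨x, h1, h2⟩ := hs'.exists_isEich he₀ (hw a) (c := c) (by rw [hc, neg_add_cancel])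
      exact ⟨x, h1, c, h2, hP4 _ ⟨x, h1, rfl⟩⟩
  choose x hxQ c hxc x' hx'P hx' using hx
  have hne : ∀ a b : F, a ≠ 0 → σ b ≠ b →
      B' ((b * a) • w) (a • w) - B' (a • w) ((b * a) • w) ≠ 0 := fun a b ha hb' => by
    rw [smul_left, smul_left, smul_right, smul_right, map_mul, show σ b * σ a * (a * B' w w) -
      σ a * (b * a * B' w w) = (σ b - b) * (a * σ a * B' w w) by ring]
    exact mul_ne_zero (sub_ne_zero.mpr hb')
      (mul_ne_zero (mul_ne_zero ha ((map_ne_zero σ).mpr ha)) hb.hv)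
  obtain ⟨θ, hθ⟩ := hs.inv.ne_id
  obtain ⟨e, he0, he, hN, χ, hχ1, hχ2, hχ3⟩ := h.exists_flag_four h4 hP1 hP2
    ⟨_, hx'P 1, _, hx'P (θ * 1), fun h1 => by
      have h2 := hφ.comm_of_isPElt (hxQ 1).1 (hxQ (θ * 1)).1 (.of_mem hQ (hxQ 1)) (by
        rw [← hx', ← hx', ← hπ.hom _ (hP1 (hx'P _)) _ (hP1 (hx'P _)), h1,
          hπ.hom _ (hP1 (hx'P _)) _ (hP1 (hx'P _))])
      exact ((hxc 1).comm hs' he₀ (hw _) (hw _) (hxc (θ * 1))).ne_one_of_hyp hp₀
        (hne 1 θ one_ne_zero hθ) (by rw [h2, mul_inv_cancel])⟩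
  obtain ⟨f, hp⟩ := h.exists_hypPair he he0
  obtain ⟨b, hb0, y, hyQ, d, hyd, y', hy'P, hy', hy'Q⟩ : ∃ b : F, b ≠ 0 ∧ ∃ y ∈ uniRad B' e₀,
      ∃ d, IsEich B' e₀ (b • w) d y ∧ ∃ y' ∈ P, π y' = φ y ∧ y' ∈ uniRad B e := by
    obtain ⟨a, a', h1, h2⟩ : ∃ a a', χ (x' a) = χ (x' a') ∧ a ≠ a' := by
      by_contra h1
      push Not at h1
      have h2 := Nat.card_le_card_of_injective
        (fun a => (⟨χ (x' a), hχ1 _ (hx'P a)⟩ : skewGrp σ))
        fun a a' h2 => h1 a a' (congrArg Subtype.val h2)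
      rw [card_skewGrp hF hσ, Nat.card_eq_fintype_card, hF] at h2
      rcases hq with rfl | rfl <;> omega
    have h3 := mul_mem (hx'P a) (inv_mem (hx'P a'))
    refine ⟨a - a', sub_ne_zero.mpr h2, _, mul_mem (hxQ a) (inv_mem (hxQ a')), _,
      ((hxc a).mul hs' he₀ (hw a) (by rw [map_neg, hw, neg_zero])
        ((hxc a').inv hs' he₀ (hw a'))).congr (by rw [sub_smul, sub_eq_add_neg]) rfl, _, h3, ?_,
      hχ3 _ h3 ?_⟩
    · rw [hπ.hom _ (hP1 (hx'P a)) _ (inv_mem (hP1 (hx'P a'))), hπ.hom.inv (hP1 (hx'P a')), hx',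
        hx', hφQ _ (hxQ a) _ (inv_mem (hxQ a')), hφQ.inv (hxQ a')]
    · have := hχ2 _ h3 _ (hx'P a')
      rwa [inv_mul_cancel_right, h1, right_eq_add] at this
  have hfin : ∀ t ∈ sisom B', ∀ t' ∈ sisom B, ∀ c, c ≠ 0 → IsEich B' e₀ 0 c t → Tr B e t' →
      π t' = φ t → ∃ e, ∃ t ∈ sisom B', ∃ t' ∈ sisom B,
        Tr B' e₀ t ∧ t ≠ 1 ∧ Tr B e t' ∧ t' ≠ 1 ∧ π t' = φ t :=
    fun t ht t' ht' c hc h1 h2 h5 => ⟨e, t, ht, t', ht', h1.tr he₀, h1.ne_one_of_hyp hp₀ hc, h2,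
      fun h6 => h1.ne_one_of_hyp hp₀ hc (hφ.eq_of_isPElt (p := ringChar F) ht (one_mem _)
        (h1.tr he₀).isPElt .one (by rw [← h5, h6, hπ.hom.one, hφ.hom.one])), h5⟩
  rcases hq with rfl | rfl
  · have h2 : (2 : F) = 0 := by exact_mod_cast natCast_q hF
    refine hfin _ (mul_mem hyQ hyQ).1 _ (mul_mem hy'Q hy'Q).1 _ ?_
      ((hyd.mul hs' he₀ (hw b) (hw b) hyd).congr (by rw [← two_smul F, h2, zero_smul]) rfl)
      (hs.tr_sq h2 hp hy'Q) (by rw [hπ.hom _ hy'Q.1 _ hy'Q.1, hφQ _ hyQ _ hyQ, hy'])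
    rw [← two_mul, h2, zero_mul, zero_sub, neg_ne_zero]
    exact norm_smul_ne_zero hb.hv hb0
  · have hθ0 : θ ≠ 0 := by rintro rfl; simp at hθ
    have hθ0' : σ θ ≠ 0 := (map_ne_zero σ).mpr hθ0
    obtain ⟨k, hk, k1, k2, -⟩ := hb.exists_diag h' h3 hθ0
    obtain ⟨k', hk', hkk⟩ := hle k hk
    have hnorm : ∀ k ∈ sisom B', ∀ k' ∈ sisom B, π k' = φ k → ∀ a : F, k e₀ = a • e₀ →
        ∀ g ∈ P, k' * g * k'⁻¹ ∈ P := fun k hk k' hk' hkk a ha g hg => by
      obtain ⟨z, hz, h1⟩ := hP3 g hg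
      obtain ⟨g', h2, h5⟩ := hP4 _ ⟨_, hs'.conj_mem_uniRad hp₀ hk.1 ha hz, rfl⟩
      rwa [hπ.eq_of_isPElt (mul_mem (mul_mem hk' (hP1 hg)) (inv_mem hk')) (hP1 h2)
        ((IsPElt.of_mem hP2 hg).conj k') (.of_mem hP2 h2)
        (by rw [h5, hπ.hom.conj hk' (hP1 hg), hφ.hom.conj hk hz.1, hkk, h1])]
    obtain ⟨a, ha⟩ := hN k' hk'.1 (hnorm k hk k' hk' hkk θ k1) (by
      simpa using hnorm _ (inv_mem hk) _ (inv_mem hk') (by rw [hπ.hom.inv hk', hφ.hom.inv hk, hkk])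
        θ⁻¹ (by rw [← k.injective.eq_iff, apply_inv_apply, map_smul, k1, inv_smul_smul₀ hθ0]))
    have h1 := hs'.conj_mem_uniRad hp₀ hk.1 k1 hyQ
    have h1' := hs.conj_mem_uniRad hp hk'.1 ha hy'Q
    have h2 := (hyd.conj hs' hk.1 k1).congr (w' := (σ θ * (σ θ / θ) * b) • w)
      (by rw [map_smul, k2, smul_smul, smul_smul]; congr 1; ring) rfl
    have h5 : π (k' * y' * k'⁻¹) = φ (k * y * k⁻¹) := by
      rw [hπ.hom.conj hk' hy'Q.1, hφ.hom.conj hk hyQ.1, hkk, hy']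
    refine hfin _ (mul_mem (mul_mem hyQ h1) (inv_mem (mul_mem h1 hyQ))).1 _
      (mul_mem (mul_mem hy'Q h1') (inv_mem (mul_mem h1' hy'Q))).1 _ (hne b _ hb0 fun h6 => hθ ?_)
      (hyd.comm hs' he₀ (hw _) (hw _) h2) (hs.tr_comm hp hy'Q h1') ?_
    · rw [map_mul, map_div₀, hs.inv.invol] at h6
      field_simp at h6
      rw [← hσ, ← hσ, hs.inv.invol] at h6
      exact h6
    · generalize k' * y' * k'⁻¹ = z' at h1' h5
      generalize k * y * k⁻¹ = z at h1 h5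
      rw [hπ.hom _ (mul_mem hy'Q h1').1 _ (inv_mem (mul_mem h1' hy'Q)).1,
        hπ.hom.inv (mul_mem h1' hy'Q).1, hπ.hom _ hy'Q.1 _ h1'.1, hπ.hom _ h1'.1 _ hy'Q.1,
        hφQ _ (mul_mem hyQ h1) _ (inv_mem (mul_mem h1 hyQ)), hφQ.inv (mul_mem h1 hyQ),
        hφQ _ hyQ _ h1, hφQ _ h1 _ hyQ, h5, hy']

end Cfsg.Agent.H31
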