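import Cfsg.Agent.H17.KnDef2

/-!
# Piece N9B of project KN: the ninth pair centralises `DP`; the mirror pattern does not occur
-/

set_option autoImplicit false
set_option maxRecDepth 100000
set_option synthInstance.maxSize 2000

namespace Cfsg.Agent.H31.KnN9b

open Equiv Subgroup Cfsg.Agent.H11.A16 Cfsg.Agent.H63 Cfsg.Agent.H17.Kn
open Cfsg.Agent.H89.Rec (Syl)

universe u

/-- a sign change given by its digits -/
def pv (a b c d e f g h : ZMod 2) : N2 := ⟨1, ![a, b, c, d, e, f, g, h]⟩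

theorem pv_of {c : N2} (h : c ∈ PP) : ∃ a b c' d e f g k, c = pv a b c' d e f g k :=
  ⟨c.f 0, c.f 1, c.f 2, c.f 3, c.f 4, c.f 5, c.f 6, c.f 7,
    N2.ext h (funext fun p => by fin_cases p <;> rfl)⟩

theorem std : ∀ i : Fin 4, i ≠ 3 → ∀ a b c d e f g h,
    wb i 1 * pv a b c d e f g h * (wb i 1 * pv a b c d e f g h) = 1 →
    cs false (ty (wb i 1)) = cs false (ty (wb i 1 * pv a b c d e f g h)) →
    pv a b c d e f g h = 1 ∨ pv a b c d e f g h = wb i 0 := by decide +kernel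

theorem mir : ∀ i : Fin 4, i ≠ 3 → ∀ a b c d e f g h,
    wb i 1 * pv a b c d e f g h * (wb i 1 * pv a b c d e f g h) = 1 →
    cs true (ty (wb i 1)) = cs true (ty (wb i 1 * pv a b c d e f g h)) →
    cs true (ty (wb i 1 * db true 7)) = cs true (ty (wb i 1 * pv a b c d e f g h * db true 7)) →
    cs true (ty (wb i 1 * db true 6)) =
      cs true (ty (wb i 1 * pv a b c d e f g h * (db true 6 * db true 7))) →
    pv a b c d e f g h = db true 7 ∨ pv a b c d e f g h = db true 7 * wb i 0 := by decide +kernel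

theorem db_mem : ∀ ε p, db ε p ∈ PP := by decide +kernel

theorem wb_mem : ∀ i k, wb i k ∈ S2 := by decide +kernel

theorem conj_dl (u : N2) (p : P) : u * dl p * u⁻¹ = dl (u.σ p) := by
  refine N2.ext (by simp [dl]) (funext fun r => ?_)
  have e : u.σ⁻¹ r = p ↔ r = u.σ p := Perm.inv_eq_iff_eq
  simp only [N2.mul_f, N2.inv_f, N2.inv_σ, dl, Perm.one_apply, e]
  rw [add_comm, add_assoc, z2add, add_zero]

theorem conj_db (h : Mod2) (ε : Bool) (u : N2) (p : P) : u * db ε p * u⁻¹ = db ε (u.σ p) := by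
  cases ε
  · exact conj_dl u p
  · change u * (dl p * H17.Kn.z2) * u⁻¹ = dl (u.σ p) * H17.Kn.z2
    rw [← conj_dl, mul_assoc u, mul_assoc (dl p), ← (h.ab.2.2.2.2.2.2 u⁻¹).eq]
    simp only [mul_assoc]

theorem gen (h : Mod2) (ε : Bool) (K : Subgroup N2) (h7 : db ε 7 ∈ K)
    (hp : ∀ p, p ≠ 7 → db ε p * db ε 7 ∈ K) : PP ≤ K := by
  have k : ∀ p, db ε p ∈ K := fun p => by
    by_cases e : p = 7
    · exact e ▸ h7
    · exact (K.mul_mem_cancel_right h7).1 (hp p e)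
  cases ε
  · exact h.gPP K k
  · have e : H17.Kn.z2 = db true 0 * db true 1 * db true 2 * db true 3 * db true 4 * db true 5 *
        db true 6 * db true 7 := by decide +kernel
    have z : H17.Kn.z2 ∈ K := e ▸ mul_mem (mul_mem (mul_mem (mul_mem (mul_mem (mul_mem (mul_mem (k 0)
      (k 1)) (k 2)) (k 3)) (k 4)) (k 5)) (k 6)) (k 7)
    exact h.gPP K fun p => (K.mul_mem_cancel_right z).1 (k p)

theorem dp : ∀ a b c e, wb 0 a * wb 1 b * wb 2 c * wb 3 e ∈ FX 6 → wb 3 e = 1 := by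
  decide +kernel

theorem wbk : ∀ i, wb i 2 = wb i 1 * wb i 0 ∧ wb i 3 = 1 ∧ (i ≠ 3 → pa i ≠ 7 ∧ pb i ≠ 7 ∧
    wb i 0 = db false (pa i) * db false (pb i) ∧
    wb i 0 = db false (pa i) * db false 7 * (db false (pb i) * db false 7) ∧
    (wb i 1).σ 7 = 7) := by decide +kernel

/-- the correcting sign change -/
def yy (a b c : Bool) : N2 :=
  (if a then dl 0 else 1) * (if b then dl 2 else 1) * if c then dl 4 else 1

theorem fix : ∀ a b c : Bool, yy a b c ∈ PP ∧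
    yy a b c * (wb 0 1 * if a then wb 0 0 else 1) * (yy a b c)⁻¹ = wb 0 1 ∧
    yy a b c * (wb 1 1 * if b then wb 1 0 else 1) * (yy a b c)⁻¹ = wb 1 1 ∧
    yy a b c * (wb 2 1 * if c then wb 2 0 else 1) * (yy a b c)⁻¹ = wb 2 1 := by decide +kernel

theorem kill : ∀ a b : Bool, cs true (ty (wb 0 1 * wb 1 1 * db true 4)) ≠
    cs true (ty (wb 0 1 * (db true 7 * if a then wb 0 0 else 1) *
      (wb 1 1 * (db true 7 * if b then wb 1 0 else 1)) * (db true 4 * db true 7))) := by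
  decide +kernel

theorem sqs : (∀ i, wb i 1 * wb i 1 = 1) ∧ (∀ i : Fin 4, i ≠ 3 →
    wb i 1 * db true 7 * (wb i 1 * db true 7) = 1 ∧ wb i 1 * db true 6 * (wb i 1 * db true 6) = 1) ∧
    wb 0 1 * wb 1 1 * db true 4 * (wb 0 1 * wb 1 1 * db true 4) = 1 := by decide +kernel

variable {G : Type u} [Group G] {J : N2 → G}

theorem Rmul (h : Em J S2) {g : G} {u v u' v' : N2} (hu : u ∈ S2) (hv : v ∈ S2) (hu' : u' ∈ S2)
    (hv' : v' ∈ S2) (a : R J g u u') (b : R J g v v') : R J g (u * v) (u' * v') := by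
  rw [R, h.mul _ hu _ hv, h.mul _ hu' _ hv', ← a, ← b]
  group

/-- the elements of `S2` fixed by `g` -/
def Fx (h : Em J S2) (g : G) : Subgroup N2 := ((centralizer {g}).comap h.hom).map S2.subtype

theorem mem_Fx (h : Em J S2) {g : G} {u : N2} (hu : u ∈ S2) (e : R J g u u) : u ∈ Fx h g :=
  ⟨⟨u, hu⟩, mem_centralizer_singleton_iff.2 (mul_inv_eq_iff_eq_mul.1 e).symm, rfl⟩

theorem cen_of (h : Em J S2) {g : G} {X : Subgroup N2} (l : X ≤ Fx h g) : g ∈ C[im J X] :=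
  fun _ hx => mem_centralizer_singleton_iff.1 (im_le (K := centralizer {g}) (fun u hu => by
    obtain ⟨v, hv, rfl⟩ := l hu
    exact hv) hx)

theorem R.left {g c : G} {u v : N2} (hc : c ∈ C[im J PP]) (hv : v ∈ PP) (a : R J g u v) :
    R J (c * g) u v := a.trans (mul_inv_eq_iff_eq_mul.2 (hc _ (mem_im hv)).symm)

theorem nx_left {ε : Bool} {g c : G} (hc : c ∈ C[im J PP]) (h : Nx J ε g) : Nx J ε (c * g) :=
  ⟨R.left hc (db_mem _ _) h.1, fun p hp =>
    R.left hc (mul_mem (db_mem _ _) (db_mem _ _)) (h.2 p hp)⟩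

theorem br (m2 : Mod2) (h : Em J S2) (PS : PP ≤ S2) {ε : Bool} {n : G} (hn : Nx J ε n) {u : N2}
    (hu : u ∈ S2) (h7 : u.σ 7 = 7) : (J u)⁻¹ * (n * (J u * n⁻¹)) ∈ C[im J PP] := by
  have s : ∀ p, R J (J u) (db ε p) (db ε (u.σ p)) := fun p =>
    conj_db m2 ε u p ▸ h.self hu (PS (db_mem ε p))
  have s7 : R J (J u) (db ε 7) (db ε 7) := by simpa only [h7] using s 7
  refine cen_of h (gen m2 ε _ (mem_Fx h (PS (db_mem _ _)) ?_) fun p hp =>
    mem_Fx h (PS (mul_mem (db_mem _ _) (db_mem _ _))) ?_)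
  · exact ((hn.1.symm.trans s7).trans hn.1).trans s7.symm
  · have : u.σ p ≠ 7 := fun e => hp (u.σ.injective (e.trans h7.symm))
    exact (((hn.2 p hp).symm.trans (s p)).trans (hn.2 _ this)).trans
      (Rmul h (PS (db_mem _ _)) (PS (db_mem _ _)) (PS (db_mem _ _)) (PS (db_mem _ _))
        (s p) s7).symm

theorem n9b (hB : Base.{u}) : N9bStmt.{u} := by
  intro G _ _ J φ s H ρ ε n h cl hn
  have m2 := hB.m2
  have gn : Gen G := hB.gen
  have hE : Em J S2 := h.em2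
  have PS : PP ≤ S2 := m2.le.2.2.2.2.2.2.2.2.2.2.1.trans m2.le.2.2.2.2.2.2.2.2.2.2.2.1
  have PC : im J PP ≤ C[im J PP] := im_le fun u hu => cen_of hE fun e he =>
    mem_Fx hE (PS he) (by
      have := hE.self (PS hu) (PS he)
      rwa [(m2.ab.1 u hu e he).eq, mul_inv_cancel_right] at this)
  have sy : Syl (im J PP) C[im J PP] :=
    h.sylP.mono PC (centralizer_le (im_mono (J := J) (inf_le_left : EE ≤ PP)))
  obtain ⟨O, OC, odd, nO, dec⟩ := gn.dec _ _ sy fun a ha b hb => hb a ha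
  let Y0 : Subgroup N2 := S2 ⊓ (MulAction.stabilizer (Perm P) (7 : P)).comap π2
  have YS : Y0 ≤ S2 := inf_le_left
  have PY : PP ≤ Y0 := fun e he => ⟨PS he, by
    change e.σ 7 = 7
    rw [show e.σ = 1 from he]; rfl⟩
  have hY := hE.mono YS
  have nC : ∀ u ∈ S2, ∀ c ∈ C[im J PP], J u * c * (J u)⁻¹ ∈ C[im J PP] := fun u hu c hc x hx => by
    obtain ⟨e, he, rfl⟩ := (hE.mono PS).mem.1 hx
    have a := hE.self (inv_mem hu) (PS he)
    have b := hc _ (mem_im (J := J) ((m2.nrm u⁻¹).1 e he))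
    rw [← a, hE.inv hu] at b
    calc J e * (J u * c * (J u)⁻¹) = J u * ((J u)⁻¹ * J e * (J u)⁻¹⁻¹ * c) * (J u)⁻¹ := by group
      _ = _ := by rw [b]; group
  obtain ⟨o, ho, nY⟩ := gn.frO (im J Y0) O n (hY.two (hB.m1.two.to_le YS))
    (fun o ho => (odd o (OC ho)).1 ho)
    (im_le fun u hu => nO (mem_normalizer_iff.2 fun c => ⟨nC u hu.1 c, fun hc => by
      have := nC _ (inv_mem hu.1) _ hc
      rw [hE.inv hu.1] at this
      simpa [mul_assoc] using this⟩))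
    fun y hy => by
      obtain ⟨u, hu, rfl⟩ := hY.mem.1 hy
      obtain ⟨a, ha, o, ho, e⟩ := dec _ (br m2 hE PS hn hu.1 hu.2)
      exact ⟨J u * a, mul_mem hy (im_mono PY ha), o, ho, by rw [mul_assoc (J u), ← e]; group⟩
  have hn' := nx_left (OC ho) hn
  generalize o * n = n' at nY hn'
  have act : ∀ u ∈ Y0, ∃ c ∈ PP, R J n' u (u * c) := fun u hu => by
    obtain ⟨v, hv, e⟩ := hY.mem.1 ((mem_normalizer_iff.1 nY _).1 (mem_im hu))
    have m := br m2 hE PS hn' hu.1 hu.2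
    have uv := S2.mul_mem (S2.inv_mem hu.1) hv.1
    rw [← mul_assoc n', ← e, ← hE.inv hu.1, ← hE.mul _ (S2.inv_mem hu.1) _ hv.1] at m
    refine ⟨u⁻¹ * v, hB.m3.cEE _ fun x hx => hE.inj _ (mul_mem uv (PS hx.1)) _
      (mul_mem (PS hx.1) uv) ?_, by rw [mul_inv_cancel_left]; exact e.symm⟩
    rw [hE.mul _ uv _ (PS hx.1), hE.mul _ (PS hx.1) _ uv]
    exact (m _ (mem_im hx.1)).symm
  have cls : ∀ u ∈ S2, ∀ v ∈ S2, u * u = 1 → R J n' u v →
      v * v = 1 ∧ cs ε (ty u) = cs ε (ty v) := fun u hu v hv uu r => by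
    have vv : v * v = 1 := hE.inj _ (mul_mem hv hv) _ (one_mem _) (by
      rw [← Rmul hE hu hu hv hv r r, uu, hE.one]; group)
    exact ⟨vv, (cl u hu v hv uu vv).1 ⟨n', r⟩⟩
  have fY : ∀ i : Fin 4, i ≠ 3 → wb i 1 ∈ Y0 := fun i hi =>
    ⟨wb_mem i 1, ((wbk i).2.2 hi).2.2.2.2⟩
  have dS := fun ε p => PS (db_mem ε p)
  cases ε
  · have k : ∀ i : Fin 4, i ≠ 3 → ∃ b : Bool,
        R J n' (wb i 1) (wb i 1 * if b then wb i 0 else 1) := fun i hi => by
      obtain ⟨c, hc, r⟩ := act _ (fY i hi)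
      obtain ⟨e1, e2⟩ := cls _ (wb_mem i 1) _ (mul_mem (wb_mem i 1) (PS hc)) (sqs.1 i) r
      obtain ⟨a0, a1, a2, a3, a4, a5, a6, a7, rfl⟩ := pv_of hc
      rcases std i hi _ _ _ _ _ _ _ _ e1 e2 with e | e <;> rw [e] at r
      exacts [⟨false, r⟩, ⟨true, r⟩]
    obtain ⟨b0, r0⟩ := k 0 (by decide)
    obtain ⟨b1, r1⟩ := k 1 (by decide)
    obtain ⟨b2, r2⟩ := k 2 (by decide)
    obtain ⟨yP, y0, y1, y2⟩ := fix b0 b1 b2
    have hn2 := nx_left (PC (mem_im yP)) hn'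
    have iS : ∀ (i : Fin 4) (b : Bool), (wb i 1 * if b then wb i 0 else 1) ∈ S2 := fun i b =>
      mul_mem (wb_mem i 1) (by cases b; exacts [one_mem _, wb_mem i 0])
    have f : ∀ i : Fin 4, i ≠ 3 → wb i 1 ∈ Fx hE (J (yy b0 b1 b2) * n') := fun i hi => by
      refine mem_Fx hE (wb_mem i 1) ?_
      fin_cases i
      · have := hE.self (PS yP) (iS 0 b0)
        rw [y0] at this
        exact r0.trans this
      · have := hE.self (PS yP) (iS 1 b1)
        rw [y1] at this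
        exact r1.trans this
      · have := hE.self (PS yP) (iS 2 b2)
        rw [y2] at this
        exact r2.trans this
      · exact absurd rfl hi
    have z : ∀ i : Fin 4, i ≠ 3 → wb i 0 ∈ Fx hE (J (yy b0 b1 b2) * n') := fun i hi => by
      obtain ⟨p7, q7, e1, e2, -⟩ := (wbk i).2.2 hi
      have := Rmul hE (dS _ _) (dS _ _) (mul_mem (dS _ _) (dS _ _)) (mul_mem (dS _ _) (dS _ _))
        (hn2.2 _ p7) (hn2.2 _ q7)
      rw [← e1, ← e2] at this
      exact mem_Fx hE (wb_mem i 0) this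
    have w : ∀ i : Fin 4, i ≠ 3 → ∀ k, wb i k ∈ Fx hE (J (yy b0 b1 b2) * n') := fun i hi k => by
      fin_cases k
      · exact z i hi
      · exact f i hi
      · exact (wbk i).1 ▸ mul_mem (f i hi) (z i hi)
      · exact (wbk i).2.1 ▸ one_mem _
    refine ⟨rfl, _, hn2, cen_of hE fun u hu => ?_⟩
    obtain ⟨a, b, c, e, rfl⟩ := hB.m1.nfF u hu.1
    rw [dp a b c e hu.2, mul_one]
    exact mul_mem (mul_mem (w 0 (by decide) a) (w 1 (by decide) b)) (w 2 (by decide) c)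
  · exfalso
    have k : ∀ i : Fin 4, i ≠ 3 → ∃ b : Bool,
        R J n' (wb i 1) (wb i 1 * (db true 7 * if b then wb i 0 else 1)) := fun i hi => by
      obtain ⟨c, hc, r⟩ := act _ (fY i hi)
      have m := mul_mem (wb_mem i 1) (PS hc)
      obtain ⟨e1, e2⟩ := cls _ (wb_mem i 1) _ m (sqs.1 i) r
      have e3 := (cls _ (mul_mem (wb_mem i 1) (dS _ _)) _ (mul_mem m (dS _ _)) (sqs.2.1 i hi).1
        (Rmul hE (wb_mem i 1) (dS _ _) m (dS _ _) r hn'.1)).2
      have e4 := (cls _ (mul_mem (wb_mem i 1) (dS _ _)) _ (mul_mem m (mul_mem (dS _ _) (dS _ _)))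
        (sqs.2.1 i hi).2 (Rmul hE (wb_mem i 1) (dS _ _) m (mul_mem (dS _ _) (dS _ _)) r
          (hn'.2 6 (by decide)))).2
      obtain ⟨a0, a1, a2, a3, a4, a5, a6, a7, rfl⟩ := pv_of hc
      rcases mir i hi _ _ _ _ _ _ _ _ e1 e2 e3 e4 with e | e <;> rw [e] at r
      exacts [⟨false, by simpa using r⟩, ⟨true, r⟩]
    obtain ⟨b0, r0⟩ := k 0 (by decide)
    obtain ⟨b1, r1⟩ := k 1 (by decide)
    have iS : ∀ (i : Fin 4) (b : Bool),
        (wb i 1 * (db true 7 * if b then wb i 0 else 1)) ∈ S2 := fun i b =>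
      mul_mem (wb_mem i 1) (mul_mem (dS _ _) (by cases b; exacts [one_mem _, wb_mem i 0]))
    have m1 := mul_mem (wb_mem 0 1) (wb_mem 1 1)
    have m2 := mul_mem (iS 0 b0) (iS 1 b1)
    have m3 := mul_mem (dS true 4) (dS true 7)
    exact kill b0 b1 (cls _ (mul_mem m1 (dS _ _)) _ (mul_mem m2 m3) sqs.2.2
      (Rmul hE m1 (dS _ _) m2 m3 (Rmul hE (wb_mem 0 1) (wb_mem 1 1) (iS 0 b0) (iS 1 b1) r0 r1)
        (hn'.2 4 (by decide)))).2

end Cfsg.Agent.H31.KnN9b
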