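import Cfsg.Agent.H34.UDefs
import Cfsg.Agent.H31.HermSimple
import Cfsg.Agent.H73.Descent
import Cfsg.Agent.H27.EndKit

/-! Standard subgroups of unitary type: facts on the normalizer (piece KITA). -/

set_option autoImplicit false
set_option linter.unusedSectionVars false

namespace Cfsg.Agent.H31.UA

open Cfsg H63 H63.SL H34 H34.TW H34.UM H27.End Subgroup Module
open scoped commutatorElement

universe u v

variable {F E V : Type v} [Field F] [Field E] [AddCommGroup V] [Module E V] {i : F →+* E}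
  {σ : E ≃+* E} {B : V →ₛₗ[(σ : E →+* E)] V →ₗ[E] E} {G : Type u} [Group G] {φ : sisom B →* G}
  {L : Subgroup G}

theorem sl (c : E) (x y : V) : B (c • x) y = σ c * B x y := smul_left B c x y

theorem el_eq' {N : V → V} (s : sisom B) (h : ∀ x, s.1 x = N x) : el φ N = φ s := by
  have h' : ∃ s : sisom B, ∀ x, s.1 x = N x := ⟨s, h⟩
  rw [el, dif_pos h']
  exact congrArg φ (Subtype.ext (LinearEquiv.ext fun x => (h'.choose_spec x).trans (h x).symm))

variable (B) in
/-- The special isometries moving into `S` and fixing the perpendicular space of `S`. -/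
def A0 (S : Submodule E V) : Subgroup (sisom B) where
  carrier := {s | (∀ x, s.1 x - x ∈ S) ∧ ∀ x ∈ perp B S, s.1 x = x}
  one_mem' := ⟨fun x => by simp, fun _ _ => rfl⟩
  mul_mem' := by
    rintro a b ⟨a1, a2⟩ ⟨b1, b2⟩
    refine ⟨fun x => ?_, fun x hx => by simp [a2 x hx, b2 x hx]⟩
    simpa using S.add_mem (a1 (b.1 x)) (b1 x)
  inv_mem' := by
    rintro a ⟨a1, a2⟩
    refine ⟨fun x => by simpa using S.neg_mem (a1 (a⁻¹.1 x)), fun x hx => ?_⟩
    conv_lhs => rw [← a2 x hx]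
    exact inv_apply_apply a.1 x

variable (φ) in
/-- The pairs of a group element and a linear isometry inducing it. -/
def LA : Subgroup (G × (V ≃ₗ[E] V)) where
  carrier := {p | p.2 ∈ isom B ∧ ∀ s : sisom B, ∃ s' : sisom B, s'.1 = p.2 * s.1 * p.2⁻¹ ∧
    p.1 * φ s * p.1⁻¹ = φ s'}
  one_mem' := ⟨one_mem _, fun s => ⟨s, by simp, by simp⟩⟩
  mul_mem' := by
    rintro a b ⟨a1, a2⟩ ⟨b1, b2⟩
    refine ⟨mul_mem a1 b1, fun s => ?_⟩
    obtain ⟨s', e1, e2⟩ := b2 s
    obtain ⟨s'', e3, e4⟩ := a2 s'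
    exact ⟨s'', by rw [e3, e1, Prod.snd_mul]; group, by rw [← e4, ← e2, Prod.fst_mul]; group⟩
  inv_mem' := by
    rintro a ⟨a1, a2⟩
    refine ⟨inv_mem a1, fun s => ?_⟩
    obtain ⟨s', e1, e2⟩ := a2 ⟨_, conj_mem_sisom (inv_mem a1) s.2⟩
    rw [show s' = s from Subtype.ext (by rw [e1]; group)] at e2
    exact ⟨⟨_, conj_mem_sisom (inv_mem a1) s.2⟩, rfl, by rw [← e2, Prod.fst_inv]; group⟩

theorem LA.cent (hL : φ.range = L) {g : G} {u : sisom B} (h : (g, u.1) ∈ LA φ) :
    (φ u)⁻¹ * g ∈ C[L] := mem_C fun l hl => by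
  obtain ⟨s, rfl⟩ := hL ▸ hl
  obtain ⟨s', e1, e2⟩ := h.2 s
  obtain rfl : s' = u * s * u⁻¹ := Subtype.ext e1
  rw [map_mul, map_mul, map_inv] at e2
  change (φ u)⁻¹ * g * φ s = φ s * ((φ u)⁻¹ * g)
  rw [mul_assoc, eq_mul_of_mul_inv_eq e2]
  group

theorem LA.mem (hL : φ.range = L) {p : G × (V ≃ₗ[E] V)} (h : p ∈ LA φ)
    (hd : LinearEquiv.det p.2 = 1) : p.1 ∈ L ⊔ C[L] := by
  have := mul_mem (mem_sup_left (T := C[L]) (hL.le ⟨⟨p.2, h.1, hd⟩, rfl⟩))
    (mem_sup_right (LA.cent hL (u := ⟨p.2, h.1, hd⟩) h))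
  rwa [mul_inv_cancel_left] at this

theorem LA.of_act {g : G} {f : V ≃+ V} {θ : E ≃+* E} (hf : Semi B f θ) (h : Act φ g f)
    (hθ : ∀ c, θ c = c) : ∃ A : V ≃ₗ[E] V, (g, A) ∈ LA φ ∧ ∀ x, A x = f x :=
  ⟨f.toLinearEquiv fun c x => by rw [hf.smul, hθ], ⟨fun x y => (hf.form x y).trans (hθ _), fun s => by
    obtain ⟨s', e1, e2⟩ := h s
    exact ⟨s', eq_mul_inv_of_mul_eq (LinearEquiv.ext e1), e2⟩⟩, fun _ => rfl⟩

theorem LA.scal {c : E} (hc : c * σ c = 1) :
    ((1 : G), LinearEquiv.smulOfNeZero E V c (left_ne_zero_of_mul_eq_one hc)) ∈ LA φ :=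
  ⟨fun x y => by
    simp only [LinearEquiv.smulOfNeZero_apply]
    rw [sl, smul_right, ← mul_assoc, mul_comm (σ c), hc, one_mul], fun s =>
    ⟨s, eq_mul_inv_of_mul_eq (LinearEquiv.ext fun x => by simp), by simp⟩⟩

theorem semi_mul {f f' : V ≃+ V} {θ θ' : E ≃+* E} (h : Semi B f θ) (h' : Semi B f' θ') :
    Semi B (f'.trans f) (θ * θ') :=
  ⟨fun c x => by rw [AddEquiv.trans_apply, h'.smul, h.smul]; rfl,
    fun x y => by rw [AddEquiv.trans_apply, AddEquiv.trans_apply, h.form, h'.form]; rfl⟩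

theorem act_mul {g g' : G} {f f' : V ≃+ V} (h : Act φ g f) (h' : Act φ g' f') :
    Act φ (g * g') (f'.trans f) := fun s => by
  obtain ⟨s', e1, e2⟩ := h' s
  obtain ⟨s'', e3, e4⟩ := h s'
  exact ⟨s'', fun x => by rw [AddEquiv.trans_apply, e3, e1]; rfl, by rw [← e4, ← e2]; group⟩

/-- the only eigenvalue of a unipotent element -/
theorem scal_one {S : Submodule E V} {r : sisom B} (hr : r ∈ R0 B S) {y : V} (hy : y ≠ 0) {c : E}
    (h : c • r.1 y = y) : c = 1 := by
  by_contra hc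
  have e : y = (c / (1 - c)) • (r.1 y - y) := by
    have : 1 - c ≠ 0 := sub_ne_zero.2 (Ne.symm hc)
    rw [div_eq_inv_mul, mul_smul, smul_sub, h, eq_inv_smul_iff₀ this, sub_smul, one_smul]
  have h1 : y ∈ perp B S := e ▸ Submodule.smul_mem _ _ fun s hs => by
    rw [map_sub, ← r.2.1 s y, hr.1 s hs, sub_self]
  have h2 : y ∈ S := e ▸ S.smul_mem _ (hr.2 y h1)
  rw [hr.1 y h2, sub_self, smul_zero] at e
  exact hy e

variable [Finite E] [FiniteDimensional E V]

theorem ringAut_comm (a b : E ≃+* E) : a * b = b * a :=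
  haveI := H73.isCyclic_ringAut (F := E)
  (IsCyclic.isMulCommutative (α := RingAut E)).is_comm.comm a b

section Ctx

variable (c : UCtx i φ L)
include c

theorem skew (a : F) : i a + (σ : E →+* E) (i a) = 0 := by
  rw [RingHom.coe_coe, (c.qf.fix _).2 ⟨a, rfl⟩, ← two_mul, c.qf.two, zero_mul]

theorem add_self' (x : V) : x + x = 0 := by rw [← two_smul E, c.qf.two, zero_smul]

theorem eq_one_of_sq {d : E} (h : d * d = 1) : d = 1 := by
  have : (d - 1) ^ 2 = 0 := by linear_combination h + (1 - d) * c.qf.two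
  exact sub_eq_zero.1 (pow_eq_zero_iff two_ne_zero |>.1 this)

/-- the transvection as a special isometry -/
noncomputable def tt {x : V} (hx : B x x = 0) (a : F) : sisom B :=
  ⟨tv B x (i a) hx (skew c a), c.mod.herm.tv_mem_sisom _ _⟩

theorem tt_apply {x : V} (hx : B x x = 0) (a : F) (y : V) :
    (tt c hx a).1 y = y + (i a * B x y) • x := rfl

theorem TT_eq {x : V} (hx : B x x = 0) (a : F) : TT i φ x a = φ (tt c hx a) :=
  el_eq' _ fun _ => rfl

theorem tt_A0 {S : Submodule E V} {x : V} (hx : B x x = 0) (hS : x ∈ S) (a : F) :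
    tt c hx a ∈ A0 B S :=
  ⟨fun y => by rw [tt_apply, add_sub_cancel_left]; exact S.smul_mem _ hS,
    fun y hy => by rw [tt_apply, hy x hS, mul_zero, zero_smul, add_zero]⟩

omit c in
theorem A0_le {S : Submodule E V} (hS : TotIso B S) : A0 B S ≤ R0 B S := fun _ h =>
  ⟨fun x hx => h.2 x (totIso_iff_le_perp.1 hS hx), fun x _ => h.1 x⟩

theorem A0_AS {S : Submodule E V} (hS : TotIso B S) (s : sisom B) (hs : s ∈ A0 B S) :
    φ s ∈ AS i φ S := by
  induction hK : LinearMap.ker ((s.1 : V →ₗ[E] V) - LinearMap.id) using WellFoundedGT.induction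
    generalizing s with | _ K ih
  have H := c.mod.herm
  have adj : ∀ x y, B (s.1 x - x) y = B x (s.1 y - y) := fun x y => by
    have h1 := s.2.1 x y
    have h2 := hS _ (hs.1 x) _ (hs.1 y)
    simp only [map_sub, LinearMap.sub_apply] at h2 ⊢
    linear_combination -h2 + h1 + (B x y - B x (s.1 y)) * c.qf.two
  by_cases h : ∀ x, B x (s.1 x - x) = 0
  · have hh : IsHermSymm (B.compl₂ ((s.1 : V →ₗ[E] V) - LinearMap.id)) :=
      ⟨H.inv, fun x y => (H.symm _ _).trans (adj y x)⟩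
    have : s = 1 := Subtype.ext (LinearEquiv.ext fun y => sub_eq_zero.1 (H.nondeg' _ fun x =>
      hh.eq_zero_of_norm_zero (W := ⊤) (fun x _ => h x) trivial trivial))
    rw [this, map_one]
    exact one_mem _
  obtain ⟨x, hx⟩ := not_forall.1 h
  obtain ⟨a, ha⟩ := (c.qf.fix (B x (s.1 x - x))).1 ((H.symm _ _).trans (adj x x))
  have m := hS _ (hs.1 x) _ (hs.1 x)
  have t := tt_A0 c m (hs.1 x) a⁻¹
  have e : ∀ y, (tt c m a⁻¹ * s).1 y = s.1 y + (i a⁻¹ * B x (s.1 y - y)) • (s.1 x - x) := fun y => by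
    rw [← adj, ← s.2.1 (s.1 x - x) y, (A0_le hS hs).1 _ (hs.1 x)]
    rfl
  have := ih _ ?_ (tt c m a⁻¹ * s) (mul_mem t hs) rfl
  · rw [map_mul, ← TT_eq] at this
    exact (mul_mem_cancel_left (Subgroup.subset_closure (by exact ⟨_, hs.1 x, _, rfl⟩))).1 this
  subst hK
  refine lt_of_le_of_ne (fun y hy => ?_) fun h' => hx ?_
  · have hy' : s.1 y - y = 0 := hy
    change (tt c m a⁻¹ * s).1 y - y = 0
    rw [e, hy', map_zero, mul_zero, zero_smul, add_zero, hy']
  · have : x ∈ LinearMap.ker (((tt c m a⁻¹ * s).1 : V →ₗ[E] V) - LinearMap.id) := by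
      change (tt c m a⁻¹ * s).1 x - x = 0
      rw [e, map_inv₀, ← ha, inv_mul_cancel₀ hx, one_smul, add_sub_right_comm, add_self' c]
    rw [← h'] at this
    rw [show s.1 x - x = 0 from this, map_zero]

theorem as' {S : Submodule E V} (hS : TotIso B S) : AS i φ S = (A0 B S).map φ :=
  le_antisymm ((closure_le _).2 (by
    rintro _ ⟨x, hx, a, rfl⟩
    exact ⟨_, tt_A0 c (hS x hx x hx) hx a, (TT_eq c _ a).symm⟩))
    (map_le_iff_le_comap.2 (A0_AS c hS))

theorem scal_of_eq {s s' : sisom B} (h : φ s = φ s') : ∃ d : E, ∀ x, s.1 x = d • s'.1 x := by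
  obtain ⟨d, hd⟩ := c.mod.ker (s'⁻¹ * s) (by rw [map_mul, map_inv, h, inv_mul_cancel]; exact one_mem _)
  exact ⟨d, fun x => by rw [← map_smul, ← hd]; exact (apply_inv_apply s'.1 _).symm⟩

theorem dim4 : 4 ≤ finrank E V := by rcases c.dim with h | h <;> omega

theorem theta_uniq {g : G} {f f' : V ≃+ V} {θ θ' : E ≃+* E} (h : Semi B f θ) (h' : Semi B f' θ')
    (a : Act φ g f) (a' : Act φ g f') : θ = θ' := by
  have H := c.mod.herm
  have key : ∀ x, B x x = 0 → ∃ l : E, f' x = l • f x := fun x hx => by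
    by_cases h0 : x = 0
    · exact ⟨0, by rw [h0, map_zero, zero_smul]⟩
    obtain ⟨s, e1, e2⟩ := a (tt c hx 1)
    obtain ⟨s', e1', e2'⟩ := a' (tt c hx 1)
    have k : ∀ {f : V ≃+ V} {θ : E ≃+* E} {s : sisom B}, Semi B f θ →
        (∀ y, s.1 (f y) = f ((tt c hx 1).1 y)) → ∀ z, s.1 z = z + B (f x) z • f x := by
      intro f θ s h e z
      obtain ⟨y, rfl⟩ := f.surjective z
      rw [e, tt_apply, map_one, one_mul, map_add, h.smul, h.form]
    obtain ⟨d, hd⟩ := scal_of_eq c (e2.symm.trans e2')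
    have n := fun z => (k h e1 z).symm.trans ((hd z).trans (congrArg _ (k h' e1' z)))
    have hx' : B (f' x) (f' x) = 0 := by rw [h'.form, hx, map_zero]
    have d1 : d = 1 := scal_one (S := E ∙ f' x) (r := s') (by
      obtain rfl : s' = tt c hx' 1 := Subtype.ext (LinearEquiv.ext fun z => by
        rw [k h' e1', tt_apply, map_one, one_mul])
      exact A0_le (totIso_iff_le_perp.2 ((Submodule.span_singleton_le_iff_mem _ _).2
        (mem_perp_span_singleton.2 hx'))) (tt_A0 c hx' (Submodule.mem_span_singleton_self _) 1))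
      (y := f x) (by simpa using h0) (by
        rw [← hd, k h e1, h.form, hx, map_zero, zero_smul, add_zero])
    obtain ⟨z, hz⟩ := H.exists_eq_one (x := f' x) (by simpa using h0)
    have := n z
    rw [d1, one_smul, hz, one_smul] at this
    exact ⟨_, (add_left_cancel this).symm⟩
  have h4 := dim4 c
  obtain ⟨e, -, e0, ee⟩ := H.exists_isotropic H.nondegOn_top (by rw [finrank_top]; omega)
  obtain ⟨e1, h1, h2⟩ := H.exists_hyperbolic' ee e0
  have gr := H.gram_hyperbolic (f := e1) ee h2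
  have nW := H.nondegOn_perp (H.nondegOn_span_pair gr)
  obtain ⟨w, hw, w0, ww⟩ := H.exists_isotropic nW (by
    rw [H.finrank_perp, finrank_span_pair_of_gram gr]; omega)
  obtain ⟨w1, hw1, -, h3⟩ := H.exists_hyperbolic_of_nondegOn nW ww w0 hw
  rw [mem_perp_span] at hw hw1
  obtain ⟨l, hl⟩ := key e ee
  obtain ⟨l', hl'⟩ := key w ww
  have k : ∀ d, θ' d * l' = l * θ d := fun d => by
    obtain ⟨m, hm⟩ := key (e + d • w) (by
      simp [ee, ww, hw e (by simp), H.flip_zero (hw e (by simp))])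
    rw [map_add, map_add, h.smul, h'.smul, hl, hl'] at hm
    have k1 := congrArg (B (f e1)) hm
    have k2 := congrArg (B (f w1)) hm
    simp only [map_add, smul_right, h.form, H.flip_one h2, H.flip_one h3, hw e1 (by simp),
      H.flip_zero (hw1 e (by simp)), map_zero, map_one] at k1 k2
    linear_combination k2 - θ d * k1
  have l0 : l ≠ 0 := by
    rintro rfl
    exact e0 (by simpa using hl)
  have l1 := k 1
  rw [map_one, map_one, one_mul, mul_one] at l1
  exact RingEquiv.ext fun d => mul_left_cancel₀ l0 (by rw [← k, l1, mul_comm])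

theorem out' : ∃ ψ : N[L] →* (E ≃+* E), (∀ (g : N[L]) f θ, Semi B f θ → Act φ g f → ψ g = θ) ∧
    ∀ g ∈ ψ.ker, ∃ A, ((g : G), A) ∈ LA φ := by
  choose f θ h1 h2 using fun g : N[L] => c.mod.ext g g.2
  refine ⟨MonoidHom.mk' θ fun a b => theta_uniq c (h1 _) (semi_mul (h1 a) (h1 b)) (h2 _)
    (act_mul (h2 a) (h2 b)), fun g _ _ a b => theta_uniq c (h1 g) a (h2 g) b, fun g hg => ?_⟩
  obtain ⟨A, hA, -⟩ := LA.of_act (h1 g) (h2 g) fun d => by rw [show θ g = 1 from hg]; rfl
  exact ⟨A, hA⟩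

theorem odd_units : Odd (Nat.card Eˣ) := by
  have := Fintype.ofFinite E
  have h := FiniteField.even_card_iff_char_two.1 (CharP.ringChar_of_prime_eq_zero Nat.prime_two
    (by exact_mod_cast c.qf.two) : ringChar E = 2)
  have h1 : 0 < Fintype.card E := Fintype.card_pos
  rw [Nat.card_units, Nat.card_eq_fintype_card, Nat.odd_iff]
  omega

theorem fs' {S : Submodule E V} (hS : TotIso B S) (h0 : S ≠ ⊥) {g : G} (hg : g ∈ N[L] ⊓ C[RS φ S]) :
    g ∈ AS i φ S ⊔ C[L] := by
  have H := c.mod.herm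
  obtain ⟨f, θ, hf, ha⟩ := c.mod.ext g hg.1
  obtain ⟨s, hs, s0⟩ := (Submodule.ne_bot_iff S).1 h0
  have ss := hS s hs s hs
  have com : ∀ r ∈ R0 B S, ∀ x, f (r.1 x) = r.1 (f x) := fun r hr x => by
    obtain ⟨r', e1, e2⟩ := ha r
    rw [(H27.End.comm_of_C hg.2 (mem_map_of_mem φ hr)).mul_inv_cancel] at e2
    obtain ⟨d, hd⟩ := scal_of_eq c e2.symm
    have := scal_one hr (y := f s) (by simpa using s0) (c := d) (by rw [← hd, e1, hr.1 s hs])
    rw [← e1, hd, this, one_smul]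
  have eich : ∀ w ∈ perp B S, ∃ μ : E, ∀ z, B (f w) z • f s - B (f s) z • f w -
      (θ μ * B (f s) z) • f s = B w z • s - B s z • w - (μ * B s z) • s := fun w hw => by
    obtain ⟨μ, hμ⟩ := H.inv.exists_trace_eq (H.norm_fixed w)
    obtain ⟨r, hr, e⟩ := H.exists_eichler_sisom ss (hw s hs) hμ
    refine ⟨μ, fun z => ?_⟩
    obtain ⟨x, rfl⟩ := f.surjective z
    have := com ⟨r, hr⟩ ⟨fun y hy => by
      simp [e, hS s hs y hy, H.flip_zero (hw y hy)], fun y hy => by
        simpa [e, hy s hs] using S.smul_mem _ hs⟩ x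
    simp only [e, map_add, map_sub, hf.smul, map_mul, ← hf.form] at this
    linear_combination (norm := module) this
  obtain ⟨z, hz⟩ := H.exists_eq_one s0
  obtain ⟨l, hl, ln⟩ : ∃ l : E, f s = l • s ∧ l * σ l = 1 := by
    have h1 : B (f s) (f (f.symm z)) • f s = s := by
      have := com _ (A0_le hS (tt_A0 c ss hs 1)) (f.symm z)
      rw [tt_apply, tt_apply, map_add, hf.smul, map_one, one_mul, one_mul, ← hf.form,
        add_right_inj, f.apply_symm_apply, hz, one_smul] at this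
      rwa [f.apply_symm_apply]
    rw [f.apply_symm_apply] at h1
    have h2 : B (f s) z ≠ 0 := fun h => s0 (by rw [← h1, h, zero_smul])
    have h3 := (eq_inv_smul_iff₀ h2).2 h1
    refine ⟨_, h3, ?_⟩
    generalize (B (f s) z)⁻¹ = l at h3
    rw [h3, sl, hz, mul_one, smul_smul, mul_comm] at h1
    exact smul_left_injective E s0 (h1.trans (one_smul E s).symm)
  have ln' : σ l * l = 1 := by rw [mul_comm, ln]
  have md : ∀ w ∈ perp B S, σ l • f w - w ∈ E ∙ s := fun w hw => by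
    rw [← H.perp_perp (E ∙ s)]
    intro y hy
    obtain ⟨μ, e⟩ := eich w hw
    have := e y
    rw [hl, sl, mem_perp_span_singleton.1 hy] at this
    simp only [mul_zero, zero_mul, zero_smul, sub_zero, smul_smul] at this
    refine H.flip_zero ?_
    rw [sub_left, sl, c.qf.sq, mul_comm, show B (f w) y * l = B w y from
      smul_left_injective E s0 this, sub_self]
  have hθ : ∀ d, θ d = d := fun d => by
    obtain ⟨w, hw, hw'⟩ : ∃ w ∈ perp B S, w ∉ E ∙ s := SetLike.not_le_iff_exists.1 fun h => by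
      have h1 := Submodule.finrank_mono h
      have h2 := Submodule.finrank_mono (totIso_iff_le_perp.1 hS)
      have h3 := H.finrank_add_finrank_perp S
      have h4 := dim4 c
      rw [finrank_span_singleton s0] at h1
      omega
    by_contra hd
    have h1 := sub_mem (md _ (Submodule.smul_mem _ d hw)) (Submodule.smul_mem _ (θ d) (md w hw))
    rw [hf.smul, show σ l • θ d • f w - d • w - θ d • (σ l • f w - w) = (θ d - d) • w by module,
      Submodule.smul_mem_iff _ (sub_ne_zero.2 hd)] at h1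
    exact hw' h1
  obtain ⟨A, hA, eA⟩ := LA.of_act hf ha hθ
  have hu := mul_mem (LA.scal (φ := φ) (c := σ l) (by rw [c.qf.sq, ln'])) hA
  rw [Prod.mk_mul_mk, one_mul] at hu
  have eu : ∀ x, (LinearEquiv.smulOfNeZero E V (σ l) (left_ne_zero_of_mul_eq_one ln') * A) x =
    σ l • f x := fun x => by simp [eA]
  generalize LinearEquiv.smulOfNeZero E V (σ l) _ * A = u at hu eu
  have real : ∀ w ∈ perp B S, ∀ t : E, u w = w + t • s → σ t = t := fun w hw t ht => by
    obtain ⟨μ, e⟩ := eich w hw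
    have h1 : f w = l • (w + t • s) := by rw [← ht, eu, smul_smul, ln, one_smul]
    have := e z
    simp only [h1, hl, sl, hz, hθ, add_left, mul_one, smul_smul, smul_add, one_smul, ln',
      ← mul_assoc] at this
    refine smul_left_injective E s0 (show σ t • s = t • s from ?_)
    have k : ∀ a : E, σ l * a * l = a := fun a => by rw [mul_right_comm, ln', one_mul]
    rw [map_mul, ← mul_add, k, mul_assoc, ln', mul_one, one_mul] at this
    linear_combination (norm := module) this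
  have fix : ∀ w ∈ perp B S, u w = w := fun w hw => by
    obtain ⟨t, ht⟩ := Submodule.mem_span_singleton.1 (md w hw)
    rw [← eu, eq_sub_iff_add_eq'] at ht
    obtain ⟨ω, hω⟩ := c.qf.tr
    have h1 := real _ (Submodule.smul_mem _ ω hw) (ω * t) (by
      rw [map_smul, ← ht, smul_add, smul_smul])
    rw [map_mul, hω, real w hw t ht.symm, add_mul, one_mul, add_eq_left] at h1
    rw [← ht, h1, zero_smul, add_zero]
  have mv : ∀ x, u x - x ∈ S := fun x => by
    rw [← H.perp_perp S]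
    intro w hw
    rw [map_sub, ← hu.1 w x, fix w hw, sub_self]
  have hd : LinearEquiv.det u = 1 := by
    have : u * u = 1 := LinearEquiv.ext fun x => by
      have := fix _ (totIso_iff_le_perp.1 hS (mv x))
      rw [map_sub, sub_eq_iff_eq_add] at this
      rw [LinearEquiv.mul_apply, this, sub_add_eq_add_sub, add_self' c, zero_sub,
        neg_eq_of_add_eq_zero_right (add_self' c x)]
      rfl
    exact Units.ext (eq_one_of_sq c (by rw [← Units.val_mul, ← map_mul, this, map_one]; rfl))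
  have := mul_mem (mem_sup_left (T := C[L]) (A0_AS c hS ⟨u, hu.1, hd⟩ ⟨mv, fix⟩))
    (mem_sup_right (LA.cent c.mod.rng (u := ⟨u, hu.1, hd⟩) hu))
  rwa [mul_inv_cancel_left] at this

theorem kitA' : KitA i φ L := by
  obtain ⟨ψ, h1, h2⟩ := out' c
  refine ⟨fun _ hS h0 _ => fs' c hS h0, fun S hS g => ?_, ⟨ψ, h1, fun g hg => ?_⟩,
    fun Y hY hp => ?_⟩
  · rw [as' c hS]
    exact ⟨fun ⟨s, hs, e⟩ => ⟨s, e, hs⟩, fun ⟨s, e, hs⟩ => ⟨s, hs, e⟩⟩
  · obtain ⟨A, hA⟩ := h2 g hg
    exact ⟨_, odd_units c, LA.mem c.mod.rng (pow_mem hA (Nat.card Eˣ))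
      (by rw [Prod.pow_snd, map_pow, pow_card_eq_one'])⟩
  have k : Y ≤ ψ.ker.map (N[L]).subtype := by
    rw [← hp]
    refine commutator_le.2 fun a ha b hb => ⟨⁅(⟨a, hY ha⟩ : N[L]), ⟨b, hY hb⟩⁆, ?_, rfl⟩
    rw [SetLike.mem_coe, MonoidHom.mem_ker, map_commutatorElement,
      commutatorElement_eq_one_iff_mul_comm, ringAut_comm]
  rw [← hp]
  refine commutator_le.2 fun a ha b hb => ?_
  obtain ⟨a, a1, rfl⟩ := k ha
  obtain ⟨b, b1, rfl⟩ := k hb
  obtain ⟨A, hA⟩ := h2 a a1
  obtain ⟨A', hA'⟩ := h2 b b1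
  exact LA.mem c.mod.rng (mul_mem (mul_mem (mul_mem hA hA') (inv_mem hA)) (inv_mem hA')) (by
    simp only [Prod.snd_mul, Prod.snd_inv, map_mul, map_inv]
    rw [mul_right_comm (LinearEquiv.det A), mul_inv_cancel, one_mul, mul_inv_cancel])

end Ctx

/-- **U-KITA** -/
theorem kitA : KitAStmt.{u, v} := fun _ _ _ _ _ _ _ _ c => kitA' c

end Cfsg.Agent.H31.UA
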