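import Cfsg.Agent.H50.DerDefs

/-!
# The linear part of the derangement bound, odd case
-/

set_option autoImplicit false

namespace Cfsg.Agent.H31.DerLin

open Cfsg.Agent.H50.Der MulAction

universe u

variable {M V : Type u} [Group M] [CommGroup V] [MulDistribMulAction M V]

/-- Independence of three fixed subgroups. -/
theorem indep3 {y u : M} (hc : y * u = u * y) (h1 : ∀ v : V, u • v = v → v = 1)
    (h2 : ∀ v : V, (u * u) • v = v → v = 1) {a b c : V} (ha : y • a = a) (hb : (y * u) • b = b)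
    (hd : (y * u * u) • c = c) (e : a * b * c = 1) : a = 1 ∧ b = 1 ∧ c = 1 := by
  have e1 : y • b * y • c = b * c := by
    have := congrArg (y • ·) e
    simp only [smul_mul', smul_one, ha] at this
    rw [← e, mul_assoc, mul_assoc] at this
    exact mul_left_cancel this
  have e2 : y • c / c = (y • b / b)⁻¹ := by
    rw [inv_div, div_eq_div_iff_mul_eq_mul, mul_comm, e1]
  have c1 : y * u * y = y * (y * u) := by rw [mul_assoc, ← hc]
  have c2 : y * u * u * y = y * (y * u * u) := by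
    rw [mul_assoc _ u y, ← hc, ← mul_assoc, c1, mul_assoc]
  have e3 : (y * u) • (y • c / c) = y • c / c := by
    rw [e2, smul_inv', smul_div', hb, ← mul_smul, c1, mul_smul y (y * u), hb]
  have e4 : (y * u * u) • (y • c / c) = y • c / c := by
    rw [smul_div', hd, ← mul_smul, c2, mul_smul y (y * u * u), hd]
  have e5 : y • c / c = 1 := by
    refine h1 _ (smul_left_cancel (y * u) ?_)
    rw [← mul_smul, e4, e3]
  have e6 : y • b / b = 1 := by rw [← inv_eq_one, ← e2, e5]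
  rw [div_eq_one] at e5 e6
  have hc1 : c = 1 := h2 _ (smul_left_cancel y (by rw [← mul_smul, ← mul_assoc, hd, e5]))
  have hb1 : b = 1 := h1 _ (smul_left_cancel y (by rw [← mul_smul, hb, e6]))
  rw [hb1, hc1, mul_one, mul_one] at e
  exact ⟨e, hb1, hc1⟩

theorem ncard_conj (g y : M) : (fixedBy V (g * y * g⁻¹)).ncard = (fixedBy V y).ncard := by
  rw [← smul_fixedBy, Set.ncard_smul_set]

theorem cube_le [Finite V] {y u : M} (hc : y * u = u * y) (h1 : ∀ v : V, u • v = v → v = 1)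
    (h2 : ∀ v : V, (u * u) • v = v → v = 1) :
    (fixedBy V y).ncard * (fixedBy V (y * u)).ncard * (fixedBy V (y * u * u)).ncard ≤
      Nat.card V := by
  rw [← Nat.card_coe_set_eq, ← Nat.card_coe_set_eq, ← Nat.card_coe_set_eq, ← Nat.card_prod,
    ← Nat.card_prod]
  refine Nat.card_le_card_of_injective (fun x => x.1.1.1 * x.1.2.1 * x.2.1) ?_
  rintro ⟨⟨⟨a, ha⟩, ⟨b, hb⟩⟩, ⟨c, hd⟩⟩ ⟨⟨⟨a', ha'⟩, ⟨b', hb'⟩⟩, ⟨c', hd'⟩⟩ e
  rw [mem_fixedBy] at ha hb hd ha' hb' hd'
  have e' : a * b * c = a' * b' * c' := e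
  obtain ⟨k1, k2, k3⟩ := indep3 hc h1 h2 (a := a / a') (b := b / b') (c := c / c')
    (by rw [smul_div', ha, ha']) (by rw [smul_div', hb, hb']) (by rw [smul_div', hd, hd'])
    (by rw [← mul_div_mul_comm, ← mul_div_mul_comm, e', div_self'])
  rw [div_eq_one] at k1 k2 k3
  subst k1 k2 k3
  rfl

/-- **LINO** -/
theorem linO (pc : PCStmt.{u}) : LinOStmt.{u} := by
  intro M V _ _ _ _ _ E U R r lc bs hr
  obtain ⟨z, hz, oz, zc, zf, -, hy⟩ := bs
  have hne : (ISet V R).Nonempty := by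
    obtain ⟨y, h1, h2, h3⟩ := lc.ns
    exact ⟨y, h1, h2, h3⟩
  obtain ⟨y, hyI, hmax⟩ := Set.exists_max_image (ISet V R) (fun w => (fixedBy V w).ncard)
    (Set.toFinite _) hne
  obtain ⟨s, hs, s2, -, hle⟩ := pc M V E U R r _ lc hmax
  obtain ⟨g, hg, u, hu, u1, e⟩ := hy y hyI.1 hyI.2.1 hyI.2.2
  have uc : ∀ x ∈ R, x * u = u * x := fun x hx => by
    obtain ⟨n, rfl⟩ := hu
    exact (Commute.zpow_right (zc x hx) n).eq
  have hp := lc.pr
  have uu : u * u ≠ 1 := fun h => by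
    have a1 : orderOf u ∣ r := oz ▸ orderOf_dvd_of_mem_zpowers hu
    have a2 : orderOf u ∣ 2 := orderOf_dvd_of_pow_eq_one (by rw [pow_two, h])
    rcases hp.eq_one_or_self_of_dvd _ a1 with a3 | a3
    · exact u1 (orderOf_eq_one_iff.1 a3)
    · exact hr ((Nat.prime_dvd_prime_iff_eq hp Nat.prime_two).1 (a3 ▸ a2))
  have cube := cube_le (V := V) (uc y hyI.1) (zf u hu u1) (zf _ (mul_mem hu hu) uu)
  have e2 : g * (g * y * g⁻¹) * g⁻¹ = y * u * u := by
    calc _ = g * y * (u * g⁻¹) := by rw [e]; group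
      _ = g * y * g⁻¹ * u := by rw [← uc _ (inv_mem hg), mul_assoc (g * y)]
      _ = _ := by rw [e]
  rw [← e2, ← e, ncard_conj, ncard_conj g (g * y * g⁻¹), ncard_conj] at cube
  generalize (fixedBy V y).ncard = c at cube hle
  have s3 : 3 ≤ s := by
    by_contra h3
    have s4 : s = 2 := by omega
    have := Fact.mk hp
    obtain ⟨n, hn⟩ := lc.pg.exists_card_eq
    rw [s4, hn] at hs
    exact hr ((Nat.prime_dvd_prime_iff_eq Nat.prime_two hp).1
      (Nat.prime_two.dvd_of_dvd_pow hs)).symm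
  have hI : (ISet V R).ncard ≤ Nat.card R := by
    change _ ≤ Nat.card (R : Set M)
    rw [Nat.card_coe_set_eq]
    exact Set.ncard_le_ncard (fun w hw => hw.1) (Set.toFinite _)
  have hR : 0 < Nat.card R := Nat.card_pos
  have c1 : 1 ≤ c ∨ c = 0 := by omega
  generalize E.index = h at hle ⊢
  obtain ⟨s', rfl⟩ : ∃ s', s = s' + 1 := ⟨s - 1, by omega⟩
  rw [Nat.add_sub_cancel] at hle
  have k1 : h * s' ≤ (s' + 1) * (c - 1) := by
    refine Nat.le_of_mul_le_mul_right ?_ hR
    calc h * s' * Nat.card R = h * Nat.card R * s' := by ring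
      _ ≤ _ := hle
      _ ≤ (s' + 1) * Nat.card R * (c - 1) := by gcongr
      _ = _ := by ring
  have k2 : 2 * h ≤ 3 * (c - 1) := by
    refine Nat.le_of_mul_le_mul_right ?_ (show 0 < s' + 1 by omega)
    have : 2 * (s' + 1) ≤ 3 * s' := by omega
    nlinarith
  have hV : 0 < Nat.card V := Nat.card_pos
  rcases c1 with c1 | rfl
  · obtain ⟨d, rfl⟩ : ∃ d, c = d + 1 := ⟨c - 1, by omega⟩
    rw [Nat.add_sub_cancel] at k2
    refine le_trans ?_ cube
    have : (2 * h + 2) ^ 2 ≤ (3 * d + 2) ^ 2 := by gcongr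
    nlinarith [Nat.zero_le (d ^ 3), Nat.zero_le (d ^ 2)]
  · have : h = 0 := by omega
    subst this
    exact hV

end Cfsg.Agent.H31.DerLin
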