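import Cfsg.Agent.H37.FkKit
import Cfsg.Agent.H90.ThB

/-!
# The 2-fusion system of the Thompson group
-/

set_option autoImplicit false

namespace Cfsg.Agent.H31.FkTh

open Cfsg Subgroup Cfsg.Agent.H37.FK

theorem nsc2_of_nsc {K : Type*} [Group K] [IsSimpleGroup K] (h : NSC K) : NSC2 K := by
  intro S T hT h0
  obtain rfl := (h S T hT).resolve_left h0
  refine ⟨by simp, le_top.trans (Eq.ge ?_)⟩
  exact (IsSimpleGroup.eq_bot_or_eq_top_of_normal _ inferInstance).resolve_left fun e =>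
    h0 (le_bot_iff.1 (e ▸ le_normalClosure))

theorem nas_of {K : Type*} [Group K] (h : IsSimpleGroup K) (hc : ¬ (Nat.card K).Prime) : NAS K :=
  ⟨h, fun k => hc (@IsSimpleGroup.prime_card K
    { (inferInstance : Group K) with mul_comm := k.is_comm.comm } h)⟩

theorem exists_odd {K : Type*} [Group K] [Finite K] (h : 3 ∣ Nat.card K) :
    ∃ g : K, g ≠ 1 ∧ Odd (orderOf g) := by
  have : Fact (Nat.Prime 3) := ⟨Nat.prime_three⟩
  obtain ⟨g, hg⟩ := exists_prime_orderOf_dvd_card' 3 h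
  exact ⟨g, fun e => by simp [e] at hg, by rw [hg]; decide⟩

open Cfsg.Agent.H90 Cfsg.Agent.H90.ThQ Cfsg.Agent.H90.ThB in
/-- **Th** -/
theorem th : ThStmt := by
  intro T
  have : Finite Spor.Th := inferInstance
  obtain ⟨_, ⟨e⟩⟩ := quot
  have c : Nat.card (Cz ⧸ Qz) = 181440 := by
    rw [Nat.card_congr e.toEquiv, nat_card_alternatingGroup]
    simp [Nat.factorial]
  refine T.lx _ (nas_of ThS.simple (by rw [ThO.card]; norm_num)) (ThP.gm 1) Qz
    ⟨orderOf_a, pQz, fun x hx => ?_, fun x hx h _ => ?_, fun x hx => ?_, exists_odd ?_⟩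
    (by rw [index_eq_card, c]; decide) (nsc2_of_nsc (T.sm1.2.1.congr e))
  · exact xsQ.sq_mem (mem_Qz.1 hx)
  · exact xsQ.mem_Z.2 (cent_Q (z := x) fun y hy => congrArg Subtype.val
      (h ⟨y, Q_le hy⟩ (mem_Qz.2 hy)))
  · rcases cent_Q (z := x) (fun y hy => congrArg Subtype.val
      (hx ⟨y, Q_le hy⟩ (mem_Qz.2 hy)).symm) with e | e
    · exact mem_Qz.2 (e ▸ one_mem _)
    · exact mem_Qz.2 (e ▸ xsQ.mem)
  · exact Dvd.dvd.trans (by rw [c]; decide) (card_quotient_dvd_card Qz)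

end Cfsg.Agent.H31.FkTh
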