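import Cfsg.Agent.H78.G40A

/-! Identification of the amalgam with a model whose centre is trivial. -/

set_option autoImplicit false

namespace Cfsg.Agent.H31.G40Id

open Subgroup Cfsg.Agent.H46.L40 Cfsg.Agent.H78.G40

universe u

theorem half {G : Type*} [Group G] [Finite G] {K H : Subgroup G} (h : K < H) :
    2 * Nat.card K ≤ Nat.card H := by
  obtain ⟨m, hm⟩ := card_dvd_of_le h.le
  have h1 : m ≠ 1 := fun h1 => h.ne (eq_of_le_of_card_ge h.le (by rw [hm, h1, mul_one]))
  have h0 : m ≠ 0 := fun h0 => by rw [h0, mul_zero] at hm; exact Nat.card_pos.ne' hm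
  rw [hm, mul_comm]
  exact Nat.mul_le_mul_left _ (by omega)

theorem inj_of_card {D E : Type*} [Group D] [Finite D] [Group E] (p : D →* E)
    (h : Nat.card D ≤ Nat.card p.range) : Function.Injective p := by
  have k := p.ker.card_mul_index
  rw [index_ker] at k
  have h0 : 0 < Nat.card D := Nat.card_pos
  rw [← p.ker_eq_bot_iff, ← card_le_one_iff_eq_bot]
  by_contra n
  have := Nat.mul_le_mul_right (Nat.card p.range) (not_le.1 n)
  omega

theorem idS : IdS.{u} := by
  intro _ X _ e σ τ θ act n M ce hn G _ _ d hd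
  have := M.fin
  have := M.simple
  have : Finite (MulAut X) := Finite.of_injective _ DFunLike.coe_injective
  let c : X →* MulAut X := MulAut.conj
  have ci : Function.Injective c := by
    rw [← c.ker_eq_bot_iff]
    refine (c.normal_ker.eq_bot_or_eq_top).resolve_right fun h => M.nc ⟨⟨fun x y => ?_⟩⟩
    exact mul_inv_eq_iff_eq_mul.1 (DFunLike.congr_fun (show c x = 1 from h.ge (mem_top x)) y)
  have ext : ∀ {Y : Type u} [Group Y] (f g : X →* Y), (∀ m, f (e m) = g (e m)) → f σ = g σ →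
      ∀ x, f x = g x := fun f g h1 h2 => DFunLike.congr_fun (MonoidHom.eq_of_eqOn_dense M.gen (by
        rintro _ (⟨m, rfl⟩ | rfl)
        exacts [h1 m, h2]))
  have tc : ∀ x, τ * c x = c (τ x) * τ := fun x => MulEquiv.ext fun y => by simp [c]
  have tt : τ * τ = 1 := MulEquiv.toMonoidHom_injective (MonoidHom.eq_of_eqOn_dense M.gen (by
    rintro _ (⟨m, rfl⟩ | rfl) <;> simp [M.τe, M.τs]))
  have r : Rl d.φ (d.φ2 w0) d.t act := hd ▸ d.rl
  let φ : S3 →* G × MulAut X := d.φ.prod (c.comp e)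
  have cj : ∀ {x y z : X}, x * y * x⁻¹ = z → c x * c y * (c x)⁻¹ = c z := fun h => by
    rw [← h, map_mul, map_mul, map_inv]
  have hD := ce (G × MulAut X) φ (d.φ2 w0, c σ) (d.t, τ)
    { tt := Prod.ext r.tt tt
      tL := fun m => Prod.ext (r.tL m) ((tc _).trans (by rw [M.τe]; rfl))
      ss := Prod.ext r.ss ((map_mul c σ σ).symm.trans (congrArg c M.ss))
      st := Prod.ext r.st (show c σ * τ * (c σ)⁻¹ = τ * c (e z0) by
        rw [mul_assoc, ← map_inv, tc, tc, map_inv τ, M.τs, inv_inv, M.τe, ← M.ss, map_mul,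
          mul_assoc])
      sa := Prod.ext r.sa (cj M.sa)
      s12 := Prod.ext r.s12 (cj M.s12)
      s21 := Prod.ext r.s21 (cj M.s21)
      br := Prod.ext r.br (show c σ * c (e n23) * c σ = c (e n23) * c σ * c (e n23) by
        simp only [← map_mul, M.br]) }
  set D := Gn φ {(d.φ2 w0, c σ), (d.t, τ)}
  have m1 : ∀ m, (d.φ m, c (e m)) ∈ D := fun m => subset_closure (.inl ⟨m, rfl⟩)
  have m2 : (d.φ2 w0, c σ) ∈ D := subset_closure (.inr (.inl rfl))
  have m3 : (d.t, τ) ∈ D := subset_closure (.inr (.inr rfl))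
  let p : D →* MulAut X := (MonoidHom.snd _ _).comp D.subtype
  have ex : ∀ x, c x ∈ p.range := fun x => (show ⊤ ≤ p.range.comap c from M.gen ▸
    (closure_le _).2 (by
      rintro _ (⟨m, rfl⟩ | rfl)
      exacts [⟨⟨_, m1 m⟩, rfl⟩, ⟨⟨_, m2⟩, rfl⟩])) (mem_top x)
  have hp : Function.Injective p := by
    have lt : c.range < p.range := lt_of_le_not_ge (by rintro _ ⟨x, rfl⟩; exact ex x) fun h => by
      obtain ⟨x, hx⟩ := h ⟨⟨_, m3⟩, rfl⟩
      exact M.τo ⟨x, hx.symm⟩
    have := half lt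
    rw [← Nat.card_congr (MonoidHom.ofInjective ci).toEquiv] at this
    exact inj_of_card p (by omega)
  have un : ∀ {g g' α α'}, (g, α) ∈ D → (g', α') ∈ D → α = α' → g = g' := fun h h' k =>
    congrArg (fun x => x.1.1) (hp (a₁ := ⟨_, h⟩) (a₂ := ⟨_, h'⟩) k)
  have ex' : ∀ x, ∃ g, (g, c x) ∈ D := fun x => by
    obtain ⟨y, hy⟩ := ex x
    exact ⟨y.1.1, hy ▸ y.2⟩
  choose f hf using ex'
  let ψ : X →* G := MonoidHom.mk' f fun x y => un (hf _) (mul_mem (hf x) (hf y)) (map_mul c x y)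
  have he : ∀ m, ψ (e m) = d.φ m := fun m => un (hf _) (m1 m) rfl
  have hs : ψ σ = d.φ2 w0 := un (hf _) m2 rfl
  refine ⟨ψ, ?_, he, hs, ?_, fun x => un (mul_mem (mul_mem m3 (hf x)) m3) (hf _) ?_,
    d.gam.act.imp_right fun h => ext ((MulAut.conj d.γ).toMonoidHom.comp ψ) (ψ.comp θ.toMonoidHom)
      (fun m => ?_) ?_⟩
  · rw [← ψ.ker_eq_bot_iff]
    refine (ψ.normal_ker.eq_bot_or_eq_top).resolve_right fun h => ?_
    have : ψ (e z0) = 1 := h.ge (mem_top _)
    rw [he, map_eq_one_iff _ d.inj] at this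
    exact absurd this (by decide)
  · rw [MonoidHom.range_eq_map, ← M.gen, MonoidHom.map_closure, Set.image_union, ← Set.range_comp,
      Set.image_singleton, hs, show ψ ∘ e = d.φ from funext he]
  · change τ * c x * τ = _
    rw [tc, mul_assoc, tt, mul_one]
  · change d.γ * ψ (e m) * d.γ⁻¹ = ψ (θ (e m))
    rw [M.θe, he, he, h]
  · change d.γ * ψ σ * d.γ⁻¹ = ψ (θ σ)
    rw [M.θs, hs, d.gs, mul_inv_cancel_right]

end Cfsg.Agent.H31.G40Id
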