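import Cfsg.Agent.H31.U3Dat
import Cfsg.Agent.H76.HBDefs

/-! Project HB (S2208), piece ModU3: the rank one structure of `U₃(2^m)`. -/

set_option autoImplicit false

namespace Cfsg.Agent.H31.HbU3

open Module Subgroup Cfsg.Agent.H31.U3B Cfsg.Agent.H76.HB
open scoped Cfsg.Agent.H63

universe u

section
variable {K : Type*} [Field K] {σ : K →+* K} {G : Type*} [Group G]

theorem stab_dg (h : IsInvol σ) (c : Kˣ) : Stab (dg h c).1 :=
  ⟨c, by
    change diag3 σ c c.ne_zero _ = _
    rw [diag3_vec, smul_vec3, vec3_inj]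
    exact ⟨rfl, by ring, by ring⟩⟩

theorem stab_wdg (h : IsInvol σ) (c : Kˣ) : Stab (wy σ * dg h c * wy σ).1 :=
  ⟨(σ c)⁻¹, by
    change weyl3 K (diag3 σ c c.ne_zero (weyl3 K _)) = _
    rw [weyl3_vec, diag3_vec, weyl3_vec, smul_vec3, vec3_inj]
    exact ⟨rfl, by ring, by ring⟩⟩

theorem dg_inj (h : IsInvol σ) : Function.Injective (dg h) := by
  intro c c' e
  have e1 : diag3 σ c c.ne_zero ![1, 0, 0] = diag3 σ c' c'.ne_zero ![1, 0, 0] :=
    LinearEquiv.congr_fun (congrArg Subtype.val e) _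
  rw [diag3_vec, diag3_vec, vec3_inj] at e1
  exact Units.ext (by simpa using e1.1)

theorem zz_top {H : Type*} [Group H] : zz (⊤ : Subgroup H) = center H := by
  ext x
  simp only [mem_inf, mem_top, true_and, mem_centralizer_iff, mem_center_iff, coe_top,
    Set.mem_univ, forall_const]

theorem zz_psi [Finite K] (h : IsInvol σ) {φ : sisom (hyp3 σ) →* G}
    (hφ : φ.ker ≤ center (sisom (hyp3 σ))) :
    zz (psi h φ).range = (center (Heis h)).map (psi h φ) := by
  rw [MonoidHom.range_eq_map, map_C _ (psi_inj h hφ), zz_top]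

theorem mem_zz [Finite K] (h : IsInvol σ) {φ : sisom (hyp3 σ) →* G}
    (hφ : φ.ker ≤ center (sisom (hyp3 σ))) (p : Heis h) :
    psi h φ p ∈ zz (psi h φ).range ↔ p.x = 0 := by
  rw [zz_psi h hφ, mem_map_iff_mem (psi_inj h hφ), Heis.mem_center_iff]

theorem dd_eq [Finite K] [Finite G] (h : IsInvol σ) (h2 : (2 : K) = 0)
    {φ : sisom (hyp3 σ) →* G} (hφ : φ.ker ≤ center (sisom (hyp3 σ))) :
    dd φ.range (psi h φ).range (H83.cj (φ (wy σ)) (psi h φ).range) = (φ.comp (dg h)).range := by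
  have hww : φ (wy σ) * φ (wy σ) = 1 := by rw [← map_mul, wy_sq, map_one]
  have hwi : (φ (wy σ))⁻¹ = φ (wy σ) := inv_eq_of_mul_eq_one_right hww
  ext g
  simp only [mem_inf]
  rw [← H83.cj_normalizer, H83.mem_cj, hwi]
  constructor
  · rintro ⟨⟨⟨M, rfl⟩, e1⟩, e2⟩
    rw [← map_mul, ← map_mul] at e2
    obtain ⟨d, hd, e⟩ := eq_diag3 h M.2
      (stab_of_nrm h h2 hφ fun s hs => (mem_normalizer_iff.mp e1 s).mp hs)
      (stab_of_nrm h h2 hφ fun s hs => (mem_normalizer_iff.mp e2 s).mp hs)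
    exact ⟨Units.mk0 d hd, congrArg φ (Subtype.ext e.symm)⟩
  · rintro ⟨c, rfl⟩
    refine ⟨⟨⟨_, rfl⟩, H86.mem_normalizer_of_conj_le (nrm_of_stab h φ (stab_dg h c))⟩, ?_⟩
    have := H86.mem_normalizer_of_conj_le (nrm_of_stab h φ (stab_wdg h c))
    rwa [map_mul, map_mul] at this

theorem card_ker [Finite K] (h : IsInvol σ) {φ : sisom (hyp3 σ) →* G}
    (hφ : φ.ker = center (sisom (hyp3 σ))) :
    Nat.card (φ.comp (dg h)).ker = Nat.card (center (sisom (hyp3 σ))) := by
  rw [← card_map' (dg h) (dg_inj h), ← MonoidHom.comap_ker, hφ, map_comap_eq, inf_eq_right.mpr]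
  intro M hM
  obtain ⟨a, ha⟩ := ((isHerm_hyp3 h).mem_center_sisom_iff (by simp)).mp hM
  obtain ⟨d, hd, e⟩ := eq_diag3 h M.2 ⟨a, ha _⟩ ⟨a, by
    change weyl3 K (M.1 (weyl3 K _)) = _
    rw [ha, map_smul, ← LinearEquiv.mul_apply, weyl3_sq]
    rfl⟩
  exact ⟨Units.mk0 d hd, Subtype.ext e.symm⟩

theorem card_cent [Finite K] (h : IsInvol σ) (h2 : (2 : K) = 0) {p : Heis h} (hp : p.x ≠ 0) :
    Nat.card (centralizer ({p} : Set (Heis h))) ≤ Nat.card {x : K // σ x = x} ^ 2 := by
  have h0 : σ p.x ≠ 0 := (map_ne_zero σ).mpr hp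
  have key : ∀ r : centralizer ({p} : Set (Heis h)), σ (r.1.x / p.x) = r.1.x / p.x := by
    intro r
    have := congrArg Heis.y (mem_centralizer_singleton_iff.mp r.2)
    rw [Heis.mul_y, Heis.mul_y] at this
    rw [map_div₀, div_eq_div_iff h0 hp]
    linear_combination -this
  have key2 : ∀ r : centralizer ({p} : Set (Heis h)),
      σ (r.1.y - (r.1.x / p.x) ^ 2 * p.y) = r.1.y - (r.1.x / p.x) ^ 2 * p.y := by
    intro r
    have e1 := key r
    have e2 : r.1.x = r.1.x / p.x * p.x := by field_simp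
    have e3 := r.1.eq
    have e4 := p.eq
    rw [map_sub, map_mul, map_pow, e1]
    generalize r.1.x / p.x = a at e1 e2
    rw [e2, map_mul, e1] at e3
    linear_combination e3 - a ^ 2 * e4 - (r.1.y - a ^ 2 * p.y) * h2
  rw [sq, ← Nat.card_prod]
  refine Nat.card_le_card_of_injective
    (fun r => ((⟨_, key r⟩, ⟨_, key2 r⟩) : {x : K // σ x = x} × {x : K // σ x = x})) ?_
  intro r r' e
  simp only [Prod.mk.injEq, Subtype.mk.injEq] at e
  obtain ⟨e1, e2⟩ := e
  rw [e1] at e2
  refine Subtype.ext (Heis.ext ?_ (by linear_combination e2))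
  rwa [div_left_inj' hp] at e1

end

theorem bs_of_phi {K : Type*} [Field K] {G : Type u} [Group G] [Fintype K] [Finite G] {n : ℕ}
    (hn : 2 ≤ n) (hF : Fintype.card K = (2 ^ n) ^ 2) (φ : sisom (hyp3 (frobQ hF)) →* G)
    (hφ' : φ.ker = center (sisom (hyp3 (frobQ hF)))) (hs : IsSimpleGroup φ.range) :
    BS φ.range (2 ^ n) 3 := by
  classical
  have hφ := hφ'.le
  have h := isInvol_frobQ hF
  have hq2 : 2 ∣ 2 ^ n := dvd_pow_self 2 (by omega)
  have h2 : (2 : K) = 0 := by
    have h0 : ((Fintype.card K : ℕ) : K) = 0 := FiniteField.cast_card_eq_zero K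
    rw [hF] at h0
    push_cast at h0
    exact pow_eq_zero_iff (n := n) (by omega) |>.mp (pow_eq_zero_iff two_ne_zero |>.mp h0)
  have hinj := psi_inj h hφ
  have hodd : Odd ((2 ^ n) ^ 2 - 1) :=
    Nat.Even.sub_odd (Nat.one_le_pow _ _ (by positivity))
      (even_iff_two_dvd.mpr (dvd_pow hq2 two_ne_zero)) odd_one
  have hww : φ (wy _) * φ (wy _) = 1 := by rw [← map_mul, wy_sq, map_one]
  have hcS : Nat.card (psi h φ).range = (2 ^ n) ^ 3 := by
    rw [← Heis.card (h := h) hF (fun _ => rfl)]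
    exact (Nat.card_congr (MonoidHom.ofInjective hinj).toEquiv).symm
  have hle : (psi h φ).range ≤ φ.range := by rintro _ ⟨p, rfl⟩; exact ⟨_, rfl⟩
  have hw' : φ (wy _) ∉ N[(psi h φ).range] := fun e =>
    not_stab_weyl (stab_of_nrm h h2 hφ fun s hs => (mem_normalizer_iff.mp e s).mp hs)
  have hsq : ∀ p : Heis h, (p * p).x = 0 := fun p => by
    rw [Heis.mul_x]; linear_combination p.x * h2
  refine BS.of_pair (T := (psi h φ).range) (w := φ (wy _)) hs (fun hc => hw' ?_) ⟨n, hn, rfl⟩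
    (Or.inr (Or.inr rfl)) (fun e => absurd e (by norm_num)) ?_ ⟨_, rfl⟩ hw' ?_ ?_ ?_
  · refine H86.mem_normalizer_of_conj_le fun s hs => ?_
    have := congrArg Subtype.val (hc.is_comm.comm (⟨φ (wy _), ⟨_, rfl⟩⟩ : φ.range) ⟨s, hle hs⟩)
    change φ (wy _) * s = s * φ (wy _) at this
    rwa [this, mul_inv_cancel_right]
  · refine H83.isSylowIn_of_not_dvd_relIndex hle
      (IsPGroup.of_card (n := n * 3) (by rw [hcS, pow_mul])) ?_
    intro hd
    have h1 := (isHerm_hyp3 h).card_sisom hF (fun _ => rfl) (by simp)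
    rw [finrank_fin, ordGU_three] at h1
    have h3 : Nat.card (sisom (hyp3 (frobQ hF))) =
        (2 ^ n) ^ 3 * (((2 ^ n) ^ 2 - 1) * ((2 ^ n) ^ 3 + 1)) := by
      apply Nat.eq_of_mul_eq_mul_left (show 0 < 2 ^ n + 1 by positivity)
      linear_combination h1
    have h4 := card_range_dvd φ
    have h5 : Nat.card (psi h φ).range * (psi h φ).range.relIndex φ.range = Nat.card φ.range := by
      rw [relIndex, ← Nat.card_congr (subgroupOfEquivOfLe hle).toEquiv, card_mul_index]
    rw [h3, ← h5, hcS] at h4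
    have h6 := hd.trans (Nat.dvd_of_mul_dvd_mul_left (by positivity) h4)
    have h7 : Odd ((2 ^ n) ^ 3 + 1) :=
      (even_iff_two_dvd.mpr (dvd_pow hq2 (by norm_num))).add_one
    exact (Nat.not_even_iff_odd.mpr (hodd.mul h7)) (even_iff_two_dvd.mpr h6)
  · rintro _ ⟨p, rfl⟩ hm
    by_contra hne
    exact not_stab_weyl (stab_of_mem h hφ (fun e => hne (by rw [e, map_one])) hm)
  · rintro _ ⟨M, rfl⟩
    rcases bruhat3 h M with e | ⟨p, e⟩
    · exact Or.inl (H86.mem_normalizer_of_conj_le (nrm_of_stab h φ e))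
    · refine Or.inr ⟨_, ⟨p, rfl⟩, _, H86.mem_normalizer_of_conj_le (nrm_of_stab h φ e), ?_⟩
      rw [map_mul, map_mul, map_inv, psi, MonoidHom.comp_apply]
      calc φ M = φ (Heis.toSisom h p) * (φ (wy _) * φ (wy _)) * (φ (Heis.toSisom h p))⁻¹ * φ M := by
            rw [hww]; group
        _ = _ := by group
  · refine ⟨hcS, ?_, ?_, ?_, ?_, fun e => absurd rfl e, fun _ => ?_, ?_, ?_,
      fun e => absurd e (by norm_num), fun _ => ?_⟩
    · rintro _ ⟨p, rfl⟩
      rw [mem_zz h hφ, ← map_mul, map_eq_one_iff _ hinj]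
      constructor
      · intro e
        have e1 := congrArg Heis.y e
        rw [Heis.mul_y, Heis.one_y] at e1
        have e2 : frobQ hF p.x * p.x = 0 := by linear_combination -e1 + p.y * h2
        rcases mul_eq_zero.mp e2 with e3 | e3
        · exact (map_eq_zero _).mp e3
        · exact e3
      · intro e
        refine Heis.ext (hsq p) ?_
        rw [Heis.mul_y, Heis.one_y, e]
        linear_combination p.y * h2
    · rw [zz_psi h hφ, card_map' _ hinj, Heis.card_center hF fun _ => rfl]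
    · rintro _ ⟨p, rfl⟩
      rw [← map_mul, mem_zz h hφ]
      exact hsq p
    · rw [dd_eq h h2 hφ]
      exact isCyclic_of_surjective _ (φ.comp (dg h)).rangeRestrict_surjective
    · rw [dd_eq h h2 hφ]
      have e1 := card_eq_card_quotient_mul_card_subgroup (φ.comp (dg h)).ker
      rw [Nat.card_congr (QuotientGroup.quotientKerEquivRange _).toEquiv, card_ker h hφ',
        (isHerm_hyp3 h).card_center_sisom hF (fun _ => rfl) (by simp), finrank_fin,
        Nat.card_units, Nat.card_eq_fintype_card, hF] at e1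
      have : 1 ≤ (2 ^ n) ^ 2 := Nat.one_le_pow _ _ (by positivity)
      rw [mul_comm, ← e1]
      omega
    · rw [dd_eq h h2 hφ]
      rintro _ ⟨c, rfl⟩ hd _ ⟨p, rfl⟩ hc
      rw [mem_zz h hφ]
      by_contra hx
      apply hd
      have e1 := psi_tw h φ c p
      rw [MonoidHom.comp_apply] at hc
      rw [hc, mul_inv_cancel_right] at e1
      have e2 : p.x = frobQ hF c ^ 2 / c * p.x := congrArg Heis.x (hinj e1)
      have e3 : frobQ hF c ^ 2 / c = 1 := mul_right_cancel₀ hx (by rw [← e2, one_mul])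
      have e5 : dg h c ∈ center _ :=
        ((isHerm_hyp3 h).mem_center_sisom_iff (by simp)).mpr ⟨c, diag3_scalar h c.ne_zero e3⟩
      rw [← hφ'] at e5
      exact e5
    · rw [dd_eq h h2 hφ, zz_psi h hφ]
      rintro _ ⟨p, hp, rfl⟩ _ ⟨p', hp', rfl⟩ h1 h1'
      have hx : p.x = 0 := Heis.mem_center_iff.mp hp
      have hx' : p'.x = 0 := Heis.mem_center_iff.mp hp'
      have hy : p.y ≠ 0 := fun e => h1 (by rw [Heis.ext (y := 1) hx e, map_one])
      have hy' : p'.y ≠ 0 := fun e => h1' (by rw [Heis.ext (y := 1) hx' e, map_one])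
      have f1 : frobQ hF p.y = p.y := by
        have := p.eq
        rw [hx] at this
        linear_combination this - p.y * h2
      have f2 : frobQ hF p'.y = p'.y := by
        have := p'.eq
        rw [hx'] at this
        linear_combination this - p'.y * h2
      obtain ⟨c, hc⟩ := h.exists_norm_eq (a := p'.y / p.y) (by rw [map_div₀, f1, f2])
      have hc0 : c ≠ 0 := by
        rintro rfl
        rw [zero_mul] at hc
        exact div_ne_zero hy' hy hc.symm
      refine ⟨_, ⟨Units.mk0 c hc0, rfl⟩, ?_⟩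
      rw [MonoidHom.comp_apply, psi_tw]
      refine congrArg _ (Heis.ext ?_ ?_)
      · change _ * p.x = p'.x
        rw [hx, hx', mul_zero]
      · change c * frobQ hF c * p.y = p'.y
        rw [hc]; field_simp
    · rintro _ ⟨p, rfl⟩ hp
      rw [mem_zz h hφ] at hp
      have e1 : (psi h φ).range ⊓ C1[psi h φ p] = (centralizer ({p} : Set (Heis h))).map (psi h φ) := by
        ext g
        simp only [mem_inf, mem_map, mem_centralizer_singleton_iff]
        constructor
        · rintro ⟨⟨r, rfl⟩, e⟩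
          exact ⟨r, hinj (by rwa [map_mul, map_mul]), rfl⟩
        · rintro ⟨r, e, rfl⟩
          exact ⟨⟨r, rfl⟩, by rw [← map_mul, ← map_mul, e]⟩
      rw [e1, card_map' _ hinj]
      have := card_cent h h2 hp
      rwa [card_fixed hF fun _ => rfl] at this

theorem modU3 : ModU3Stmt.{u} := by
  intro G _ _ N K _ _ m hF hm ⟨e⟩
  obtain ⟨e0⟩ := nonempty_psu3_equiv hF
  let φ0 : sisom (hyp3 (frobQ hF)) →* N :=
    (e0.trans e.symm).toMonoidHom.comp (QuotientGroup.mk' _)
  have hs : Function.Surjective φ0 :=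
    (e0.trans e.symm).surjective.comp (QuotientGroup.mk'_surjective _)
  have hr : (N.subtype.comp φ0).range = N := by
    rw [MonoidHom.range_comp, MonoidHom.range_eq_top.mpr hs, ← MonoidHom.range_eq_map,
      range_subtype]
  have hq4 : 4 ≤ 2 ^ m := le_trans (by norm_num) (Nat.pow_le_pow_right two_pos hm)
  have hsimp : IsSimpleGroup N := by
    have := isSimpleGroup_PSU hF (n := 3) le_rfl (by omega)
    exact e.isSimpleGroup
  have := bs_of_phi hm hF (N.subtype.comp φ0) (by
    ext x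
    rw [← MonoidHom.comap_ker, ker_subtype, MonoidHom.comap_bot, MonoidHom.mem_ker,
      ← QuotientGroup.eq_one_iff]
    exact map_eq_one_iff _ (e0.trans e.symm).injective) (by rw [hr]; exact hsimp)
  rwa [hr] at this

end Cfsg.Agent.H31.HbU3
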