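import Cfsg.Agent.H56.HLDefs

/-!
# Project HL: the two point stabiliser in `SS F`
-/

set_option autoImplicit false

namespace Cfsg.Agent.H31.HlP5

open MulAction Subgroup Cfsg.Agent.H83 Cfsg.Agent.H56.TT Cfsg.Agent.H56.HL
open scoped Cfsg.Agent.H63

universe u v

variable {G : Type u} [Group G] {Ω : Type v} [MulAction G Ω] {F R : Subgroup G}

theorem rt_comm (hR : RT Ω F R) {a : Ω} (ha : a ∈ Fx Ω F) {r h : G} (hr : r ∈ R) (hh : h ∈ N[F])
    (h1 : h • a = a) (h2 : h • r • a = r • a) {x : Ω} (hx : x ∈ Fx Ω F) :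
    h • r • x = r • h • x := by
  have a1 : r⁻¹ * (h * r * h⁻¹) ∈ R :=
    mul_mem (inv_mem hr) ((mem_normalizer_iff.1 (hR.nrm hh) r).1 hr)
  have a2 := hR.reg _ a1 a ha (by
    rw [mul_smul, mul_smul, mul_smul, inv_smul_eq_iff.2 h1.symm, h2, inv_smul_smul])
  have a3 := mem_JJ.1 a2 _ (smul_mem_Fx_of hh hx)
  rwa [mul_smul, mul_smul, mul_smul, inv_smul_smul, inv_smul_eq_iff] at a3

/-- **P5b** -/
theorem p5b : P5bStmt.{u, v} := by
  intro G Ω _ _ _ _ _ NN q EE k pg a b F R hab hA hR g hg hgb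
  have st := pg.pl.st
  have ln := pg.pl.ln
  have K := st.kit a
  have hP : Pln NN q EE a F := ⟨b, hab, hA⟩
  have sF : SS (NN a) q F ≤ N[F] := SS_le fun X hX => le_sup_left.trans (K.ka.nE hX)
  have sa : ∀ s ∈ SS (NN a) q F, s • a = a := fun s hs => st.fix a (SS_le_N hs)
  have aF : a ∈ Fx Ω F := hP.mem st
  have bF : b ∈ Fx Ω F := (pg.p2a.fixF hP b hab).2 hA
  have bE : b ∈ Fx Ω (EE a b) := ln.right st hab
  have gE : g ∈ N[EE a b] := ln.norm hab (sa g hg) hgb
  obtain ⟨E', hE', hne, -⟩ := K.ka.third hA hA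
  have a1 : Adj (NN a) q (cj g E') F := by
    have := hE'.cj (st.norm (sa g hg))
    rwa [cj_eq_self (sF hg)] at this
  obtain ⟨e, he, a2⟩ := (K.l3.fc hA).trE _ _ a1 hE'
    (fun h => hne (cj_inj.1 (h.trans (cj_eq_self gE).symm))) hne
  have g1 : e * g ∈ SS (NN a) q F := mul_mem (hA.le_SS he) hg
  have g2 : e * g ∈ N[E'] := cj_eq_self_iff.1 (by rw [cj_mul, a2])
  have g3 : e * g ∈ N[EE a b] := mul_mem (le_normalizer he) gE
  have g4 : (e * g) • b = b := by rw [mul_smul, hgb]; exact bE he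
  suffices h : e * g ∈ F by
    have := mul_mem (mem_sup_left (T := F) (inv_mem he)) (mem_sup_right h)
    rwa [inv_mul_cancel_left] at this
  generalize e * g = g' at g1 g2 g3 g4
  obtain ⟨w, hw, w1, w2⟩ := (K.l3.fd hA).swap g' g1 E' hE' hne g3 g2
  have wa := sa w hw
  have hab' : a ≠ w • b := fun h => hab (MulAction.injective w (wa.trans h))
  have b'F : w • b ∈ Fx Ω F := smul_mem_Fx_of (sF hw) bF
  have eE' : EE a (w • b) = E' := by rw [← w1, ← ln.smul w hab, wa]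
  have g5 : g' • w • b = w • b := by
    have h1 : (w * g' * w⁻¹ * g') • w • b = w • b := b'F w2
    have h2 : (w * g' * w⁻¹) • w • b = w • b := by rw [mul_smul, mul_smul, inv_smul_smul, g4]
    rw [mul_smul] at h1
    exact MulAction.injective _ (h1.trans h2.symm)
  generalize w • b = b' at hab' b'F eE' g5
  subst eE'
  obtain ⟨r, hr, ra⟩ := hR.tr a aF b bF
  obtain ⟨r', hr', ra'⟩ := hR.tr a aF b' b'F
  have cF : r • b' ∈ Fx Ω F := smul_mem_Fx_of (hR.le hr) b'F
  have hac : a ≠ r • b' := fun h => by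
    have h1 := mem_JJ.1 (hR.sq r hr) b' b'F
    rw [mul_smul, ← h, ra] at h1
    exact hne (by rw [h1])
  have cc : r • b' = r' • b := by
    have h1 := mem_JJ.1 (hR.comm r hr r' hr') _ (smul_mem_Fx_of (hR.le hr') bF)
    rw [mul_smul, mul_smul, mul_smul, inv_smul_smul, ← ra, inv_smul_smul, ra', ra] at h1
    exact h1
  have key : ∀ {x y : Ω} {s : G}, a ≠ x → a ≠ y → Adj (NN a) q (EE a x) F → y ∈ Fx Ω F → s ∈ R →
      s • a = x → a ≠ s • y → EE a (s • y) = EE a x → EE a y = EE a x := by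
    intro x y s hx hy hX yF hs sx hc h
    refine ln.fixl hx hy fun e he => ?_
    have h1 : e • s • y = s • y := (h ▸ ln.right st hc : s • y ∈ Fx Ω (EE a x)) he
    rw [rt_comm hR aF hs (sF (hX.le_SS he)) (ln.left st hx he)
      (by rw [sx]; exact ln.right st hx he) yF] at h1
    exact MulAction.injective s h1
  refine (K.l3.fd hA).three g' g1 (EE a (r • b')) (EE a b') ((pg.p2a.fixF hP _ hac).1 cF) hE'
    (fun h => hne (key hab hab' hA b'F hr ra hac h)) hne
    (fun h => hne (key hab' hab hE' bF hr' ra' (cc ▸ hac) (cc ▸ h)).symm) g3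
    (ln.norm hac (sa _ g1) ?_) g2
  rw [rt_comm hR aF hr (sF g1) (sa _ g1) (by rw [ra, g4]) b'F, g5]

end Cfsg.Agent.H31.HlP5
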