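import Mathlib

/-! Arithmetic for principal blocks with four characters. -/

set_option autoImplicit false

namespace Cfsg.Agent.H31.K4Ar

theorem res : ∀ a b c : Fin 8, (a.1 + b.1 + c.1) % 2 = 0 → ∃ j : Fin 5,
    ((4 - (j.1 : ℤ) * a.1) % 8 - 4) ^ 2 + ((4 - (j.1 : ℤ) * b.1) % 8 - 4) ^ 2 +
      ((4 - (j.1 : ℤ) * c.1) % 8 - 4) ^ 2 < j.1 * (8 - j.1) := by
  decide +kernel

theorem dv (j x : ℤ) : ∃ a, (4 - j * (x % 8)) % 8 - 4 = 8 * a - j * x := by
  refine ⟨j * (x / 8) - (4 - j * (x % 8)) / 8, ?_⟩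
  have h1 := Int.emod_add_mul_ediv x 8
  have h2 := Int.emod_add_mul_ediv (4 - j * (x % 8)) 8
  linear_combination h2 - j * h1

theorem le16 {q x y z : ℤ} (hq : q = 1 + x ^ 2 + y ^ 2 + z ^ 2) (ho : (x + y + z) % 2 = 0)
    (K : ∀ a b c : ℤ, (a * x + b * y + c * z) ^ 2 + (a * x + b * y + c * z) ≤
      q * (a ^ 2 + b ^ 2 + c ^ 2)) : q ≤ 16 := by
  obtain ⟨j, hj⟩ := res ⟨(x % 8).toNat, by omega⟩ ⟨(y % 8).toNat, by omega⟩
    ⟨(z % 8).toNat, by omega⟩ (by simp only; omega)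
  simp only [Int.toNat_of_nonneg (Int.emod_nonneg _ (by decide : (8 : ℤ) ≠ 0))] at hj
  generalize (j.1 : ℤ) = j at hj
  obtain ⟨a, ha⟩ := dv j x
  obtain ⟨b, hb⟩ := dv j y
  obtain ⟨c, hc⟩ := dv j z
  rw [ha, hb, hc] at hj
  have k := K a b c
  have q0 : 0 ≤ q := by rw [hq]; positivity
  have h := mul_le_mul_of_nonneg_left (Int.add_one_le_iff.2 hj) q0
  have s := sq_nonneg ((8 * a - j * x) * x + (8 * b - j * y) * y + (8 * c - j * z) * z - j + 4)
  subst hq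
  linarith [h, s, k, show (1 + x ^ 2 + y ^ 2 + z ^ 2) * ((8 * a - j * x) ^ 2 + (8 * b - j * y) ^ 2 +
    (8 * c - j * z) ^ 2 + 1) - (1 + x ^ 2 + y ^ 2 + z ^ 2) * (j * (8 - j)) =
    64 * ((1 + x ^ 2 + y ^ 2 + z ^ 2) * (a ^ 2 + b ^ 2 + c ^ 2) -
      ((a * x + b * y + c * z) ^ 2 + (a * x + b * y + c * z))) +
    ((8 * a - j * x) * x + (8 * b - j * y) * y + (8 * c - j * z) * z - j + 4) ^ 2 - 16 +
    (1 + x ^ 2 + y ^ 2 + z ^ 2) by ring]

theorem m8 : ∀ a b c : ZMod 8, 1 + a ^ 2 + b ^ 2 + c ^ 2 ≠ 0 := by decide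

theorem ar' (p n : ℕ) (hp : p.Prime) (q x y z : ℤ) (hn : q = (p : ℤ) ^ n)
    (hq : q = 1 + x ^ 2 + y ^ 2 + z ^ 2) (hx : x ≠ 0) (hy : y ≠ 0) (hz : z ≠ 0)
    (K : ∀ a b c : ℤ, (a * x + b * y + c * z) ^ 2 + (a * x + b * y + c * z) ≤
      q * (a ^ 2 + b ^ 2 + c ^ 2)) : q = 4 ∨ q = 7 := by
  have x1 : 0 < x ^ 2 := by positivity
  have y1 : 0 < y ^ 2 := by positivity
  have z1 : 0 < z ^ 2 := by positivity
  rcases hp.eq_two_or_odd' with rfl | ho
  · rcases n with _ | _ | _ | n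
    · simp at hn; omega
    · simp at hn; omega
    · exact .inl hn
    · refine absurd ?_ (m8 x y z)
      have : ((q : ℤ) : ZMod 8) = 0 := by
        rw [ZMod.intCast_zmod_eq_zero_iff_dvd, hn]
        exact ⟨2 ^ n, by push_cast; ring⟩
      rw [hq] at this
      push_cast at this
      exact this
  · have qo : Odd q := hn ▸ ((Int.odd_coe_nat p).2 ho).pow
    have e : (x + y + z) % 2 = 0 := by
      obtain ⟨k, hk⟩ := qo
      obtain ⟨a, ha⟩ := Int.even_mul_succ_self x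
      obtain ⟨b, hb⟩ := Int.even_mul_succ_self y
      obtain ⟨c, hc⟩ := Int.even_mul_succ_self z
      have : x + y + z = 2 * (a + b + c - k) := by linear_combination ha + hb + hc + hq - hk
      omega
    have l := le16 hq e K
    have k := K (x / 2) (y / 2) (z / 2)
    have : q = 7 ∨ q = 15 := by
      have a1 : x ≤ 3 := by nlinarith
      have a2 : -3 ≤ x := by nlinarith
      have b1 : y ≤ 3 := by nlinarith
      have b2 : -3 ≤ y := by nlinarith
      have c1 : z ≤ 3 := by nlinarith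
      have c2 : -3 ≤ z := by nlinarith
      subst hq
      clear x1 y1 z1 K hn qo
      interval_cases x <;> interval_cases y <;> interval_cases z <;> omega
    refine .inr (this.resolve_right fun h => ?_)
    have h' : p ^ n = 15 := by exact_mod_cast hn.symm.trans h
    have d3 := (Nat.prime_dvd_prime_iff_eq Nat.prime_three hp).1
      (Nat.prime_three.dvd_of_dvd_pow (n := n) (h' ▸ by decide))
    have d5 := (Nat.prime_dvd_prime_iff_eq Nat.prime_five hp).1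
      (Nat.prime_five.dvd_of_dvd_pow (n := n) (h' ▸ by decide))
    omega

theorem ar (p n : ℕ) (hp : p.Prime) (q x y z : ℤ) (hn : q = (p : ℤ) ^ n)
    (hq : q = 1 + x ^ 2 + y ^ 2 + z ^ 2) (hx : x ≠ 0) (hy : y ≠ 0) (hz : z ≠ 0)
    (H : ∀ u m0 m1 m2 m3 : ℤ, q * (u + q * m0) ≤
      (u + q * m0) ^ 2 + (u * x + q * m1) ^ 2 + (u * y + q * m2) ^ 2 + (u * z + q * m3) ^ 2) :
    q = 4 ∨ q = 7 := by
  refine ar' p n hp q x y z hn hq hx hy hz fun a b c => ?_
  have q0 : 0 < q := by rw [hq]; positivity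
  refine le_of_mul_le_mul_left ?_ q0
  have h := H (-(1 + (a * x + b * y + c * z))) 1 a b c
  subst hq
  linarith [h]

end Cfsg.Agent.H31.K4Ar
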