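import Cfsg.Agent.H35.L3Defs

/-! Project L3Q (S3127), piece STB. -/

set_option autoImplicit false

namespace Cfsg.Agent.H31.L3Stb

open Cfsg.Agent.H63 Cfsg.Agent.H63.SL Cfsg.Agent.H35.L3 Subgroup
open scoped commutatorElement

universe u v

theorem lin {F : Type v} [Field F] (two : (2 : F) = 0) (S : F → (F → F) → Prop)
    (add : ∀ ζ f ζ' g, S ζ f → S ζ' g → S (ζ + ζ') fun r => f r + g r)
    (z : ∀ f, S 0 f → ∃ κ, ∀ r, f r = κ * r)
    (ad : ∀ ζ f, S ζ f → ∀ r r', f (r + r') = f r + f r')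
    (t1 : ∀ y, y ≠ 0 → ∀ ζ f, S ζ f → S ζ fun r => f (y ^ 3 * r))
    (t2 : ∀ k, k ≠ 0 → ∀ ζ f, S ζ f → S (k * k * ζ) fun r => k * k * f (k⁻¹ * r))
    {ω : F} (h0 : ω ≠ 0) (h1 : ω ≠ 1) {ζ : F} {f : F → F} (h : S ζ f) :
    ∃ κ, ∀ r, f r = κ * r := by
  by_cases hy : ∃ y : F, y ≠ 0 ∧ y ^ 3 ≠ 1
  · obtain ⟨y, hy0, hy1⟩ := hy
    have e := add _ _ _ _ h (t1 y hy0 _ _ h)
    rw [show ζ + ζ = 0 by linear_combination ζ * two] at e
    obtain ⟨κ, hκ⟩ := z _ e
    have hne : 1 + y ^ 3 ≠ 0 := fun e => hy1 (by linear_combination e - two)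
    refine ⟨κ / (1 + y ^ 3), fun r => ?_⟩
    have e1 := hκ (r / (1 + y ^ 3))
    rw [← ad _ _ h, show r / (1 + y ^ 3) + y ^ 3 * (r / (1 + y ^ 3)) = r by field_simp] at e1
    rw [e1]; ring
  · push Not at hy
    have h3 := hy ω h0
    have hq : ω * ω + ω + 1 = 0 := by
      apply mul_left_cancel₀ (sub_ne_zero.mpr h1)
      linear_combination h3
    have hi : ω⁻¹ = ω + 1 := by
      field_simp
      linear_combination -hq + two
    have h0' : ω + 1 ≠ 0 := hi ▸ inv_ne_zero h0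
    have hi' : (ω + 1)⁻¹ = ω := by rw [← hi, inv_inv]
    have e := add _ _ _ _ (add _ _ _ _ h (t2 ω h0 _ _ h)) (t2 (ω + 1) h0' _ _ h)
    rw [show ζ + ω * ω * ζ + (ω + 1) * (ω + 1) * ζ = 0 by
      linear_combination (ζ + ω * ω * ζ + ω * ζ) * two] at e
    obtain ⟨κ, hκ⟩ := z _ e
    simp only [hi, hi'] at hκ
    have hβ : ∀ r, f (ω * r) = ω * f r := by
      intro r
      have e1 := hκ r
      have e2 := hκ (ω * r)
      have a1 : f ((ω + 1) * r) = f (ω * r) + f r := by rw [← ad _ _ h]; congr 1; ring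
      have a2 : f ((ω + 1) * (ω * r)) = f r := by
        congr 1; linear_combination r * hq - r * two
      have a3 : f (ω * (ω * r)) = f (ω * r) + f r := by
        rw [← ad _ _ h]; congr 1; linear_combination r * hq - (ω * r + r) * two
      rw [a1] at e1
      rw [a2, a3] at e2
      linear_combination ω * e1 - e2 + (-(ω - 1) * f r - f (ω * r)) * hq +
        (ω ^ 2 * f r + (2 + ω - ω ^ 3) * f (ω * r)) * two
    have f0 : f 0 = 0 := by
      have := ad _ _ h 0 0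
      rw [add_zero] at this
      linear_combination -this
    refine ⟨f 1, fun r => ?_⟩
    by_cases r0 : r = 0
    · rw [r0, f0, mul_zero]
    have h4 : (r - 1) * ((r - ω) * (r - (ω + 1))) = 0 := by
      linear_combination hy r r0 + (r - 1) * hq - (ω * r * r + r * r - ω * r - 1) * two
    have hω := hβ 1
    rw [mul_one] at hω
    rcases mul_eq_zero.mp h4 with e | e
    · rw [sub_eq_zero.mp e, mul_one]
    rcases mul_eq_zero.mp e with e | e
    · rw [sub_eq_zero.mp e, hω, mul_comm]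
    · rw [sub_eq_zero.mp e, ad _ _ h, hω]; ring

section
variable {F : Type v} [Field F] {G : Type u} [Group G] {L : Subgroup G}
  {x : Fin 3 → Fin 3 → F → G} {t : G}

/-- the data -/
structure Cx (L : Subgroup G) (x : Fin 3 → Fin 3 → F → G) (t : G) : Prop where
  m : M3 L x
  P : Pin3 x
  A : KA L x
  T : Tc L t

/-- the element with coordinates `r, s, e` -/
def el (x : Fin 3 → Fin 3 → F → G) (r s e : F) : G := x 0 1 r * x 1 2 s * x 0 2 e

/-- coordinates modulo the centre of `J` -/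
def Co (x : Fin 3 → Fin 3 → F → G) (t j : G) (r s : F) : Prop :=
  ∃ e, j = el x r s e ∨ j = t * el x r s e

/-- the action of a torus element -/
structure To (x : Fin 3 → Fin 3 → F → G) (t h : G) (c1 c2 : F) : Prop where
  t : h * t * h⁻¹ = t
  a : ∀ r, h * x 0 1 r * h⁻¹ = x 0 1 (c1 * r)
  b : ∀ r, h * x 1 2 r * h⁻¹ = x 1 2 (c2 * r)
  c : ∀ r, h * x 0 2 r * h⁻¹ = x 0 2 (c1 * c2 * r)

/-- the action of an element of `N₁` -/
structure Dn (x : Fin 3 → Fin 3 → F → G) (t n : G) (ζ : F) (f f' : F → F) : Prop where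
  t : n * t * n⁻¹ = t * x 0 2 ζ
  a : ∀ r, n * x 0 1 r * n⁻¹ = x 0 1 r * x 0 2 (f r)
  b : ∀ r, n * x 1 2 r * n⁻¹ = x 1 2 r * x 0 2 (f' r)
  c : ∀ r, n * x 0 2 r * n⁻¹ = x 0 2 r

theorem cmul (g a b : G) : g * (a * b) * g⁻¹ = g * a * g⁻¹ * (g * b * g⁻¹) := by group

theorem To.el {h : G} {c1 c2 : F} (H : To x t h c1 c2) (r s e : F) :
    h * el x r s e * h⁻¹ = el x (c1 * r) (c2 * s) (c1 * c2 * e) := by
  rw [L3Stb.el, cmul, cmul, H.a, H.b, H.c, L3Stb.el]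

theorem To.co {h j : G} {c1 c2 r s : F} (H : To x t h c1 c2) (hj : Co x t j r s) :
    Co x t (h * j * h⁻¹) (c1 * r) (c2 * s) := by
  obtain ⟨e, rfl | rfl⟩ := hj
  · exact ⟨_, Or.inl (H.el r s e)⟩
  · exact ⟨_, Or.inr (by rw [cmul, H.t, H.el])⟩

namespace Cx
variable (C : Cx L x t)
include C

theorem two : (2 : F) = 0 := C.m.st.two

theorem x0 (i j : Fin 3) (h : i ≠ j) : x i j 0 = 1 := by
  have := C.m.st.add i j h 0 0
  rw [add_zero] at this
  exact left_eq_mul.mp this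

theorem xL (i j : Fin 3) (h : i ≠ j) (r : F) : x i j r ∈ L :=
  C.m.gen ▸ subset_closure ⟨i, j, h, r, rfl⟩

theorem tt : t * t = 1 := by rw [← sq, ← C.T.t2, pow_orderOf_eq_one]

theorem tL {l : G} (hl : l ∈ L) : l * t = t * l := mem_centralizer_iff.mp C.T.tc l hl

theorem elL (r s e : F) : el x r s e ∈ L :=
  mul_mem (mul_mem (C.xL _ _ (by decide) _) (C.xL _ _ (by decide) _)) (C.xL _ _ (by decide) _)

theorem memU {g : G} : g ∈ U3 x ↔ ∃ r s e, g = el x r s e :=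
  C.P.memY 0 1 2 (by decide) (by decide) (by decide) g

theorem el_mul (r s e r' s' e' : F) :
    el x r s e * el x r' s' e' = el x (r + r') (s + s') (e + e' + r' * s) :=
  C.P.mul 0 1 2 (by decide) (by decide) (by decide) r s e r' s' e'

theorem el_inj {r s e r' s' e' : F} (h : el x r s e = el x r' s' e') : r = r' ∧ s = s' ∧ e = e' :=
  C.P.uniq 0 1 2 (by decide) (by decide) (by decide) r s e r' s' e' h

theorem el_a (r : F) : x 0 1 r = el x r 0 0 := by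
  rw [el, C.x0 1 2 (by decide), C.x0 0 2 (by decide), mul_one, mul_one]

theorem el_b (r : F) : x 1 2 r = el x 0 r 0 := by
  rw [el, C.x0 0 1 (by decide), C.x0 0 2 (by decide), mul_one, one_mul]

theorem el_c (r : F) : x 0 2 r = el x 0 0 r := by
  rw [el, C.x0 0 1 (by decide), C.x0 1 2 (by decide), mul_one, one_mul]

theorem c_add (r s : F) : x 0 2 r * x 0 2 s = x 0 2 (r + s) := (C.m.st.add 0 2 (by decide) r s).symm

theorem c_inj {r s : F} (h : x 0 2 r = x 0 2 s) : r = s := by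
  rw [C.el_c, C.el_c] at h
  exact (C.el_inj h).2.2

theorem el_cc (r s e e' : F) : el x r s e * x 0 2 e' = el x r s (e + e') := by
  rw [C.el_c, C.el_mul]; congr 1 <;> ring

theorem cc_el (r s e e' : F) : x 0 2 e' * el x r s e = el x r s (e + e') := by
  rw [C.el_c, C.el_mul]; congr 1 <;> ring

theorem el_comm (r s e r' s' e' : F) :
    el x r s e * el x r' s' e' = el x r' s' e' * el x r s e * x 0 2 (r * s' + r' * s) := by
  rw [C.el_mul, C.el_mul, C.el_cc]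
  congr 1
  · ring
  · ring
  · linear_combination (-(r * s')) * C.two

theorem co_ex {j : G} (hj : j ∈ zpowers t ⊔ U3 x) : ∃ r s, Co x t j r s := by
  let J : Subgroup G :=
    { carrier := {j | j ∈ U3 x ∨ t * j ∈ U3 x}
      one_mem' := Or.inl (one_mem _)
      mul_mem' := by
        have hU : ∀ u ∈ U3 x, u * t = t * u := fun u hu => C.tL (C.m.syl.le hu)
        rintro a b (ha | ha) (hb | hb)
        · exact Or.inl (mul_mem ha hb)
        · exact Or.inr (by rw [← mul_assoc, ← hU a ha, mul_assoc]; exact mul_mem ha hb)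
        · exact Or.inr (by rw [← mul_assoc]; exact mul_mem ha hb)
        · refine Or.inl ?_
          have := mul_mem ha hb
          rwa [← mul_assoc, hU _ ha, ← mul_assoc, C.tt, one_mul] at this
      inv_mem' := by
        have hU : ∀ u ∈ U3 x, u * t = t * u := fun u hu => C.tL (C.m.syl.le hu)
        rintro a (ha | ha)
        · exact Or.inl (inv_mem ha)
        · refine Or.inr ?_
          have h1 := inv_mem ha
          have h2 : t * a⁻¹ = (t * a)⁻¹ := by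
            have h3 := hU _ ha
            have h4 : a * t = t * a := mul_left_cancel (a := t) (by rw [← mul_assoc, h3])
            rw [← h4, mul_inv_rev, inv_eq_of_mul_eq_one_right C.tt]
          rwa [h2] }
  have : zpowers t ⊔ U3 x ≤ J :=
    sup_le (zpowers_le.mpr (Or.inr (by rw [C.tt]; exact one_mem _))) fun u hu => Or.inl hu
  rcases this hj with h | h
  · obtain ⟨r, s, e, h⟩ := C.memU.mp h
    exact ⟨r, s, e, Or.inl h⟩
  · obtain ⟨r, s, e, h⟩ := C.memU.mp h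
    exact ⟨r, s, e, Or.inr (by rw [← h, ← mul_assoc, C.tt, one_mul])⟩

theorem co_mem {j : G} {r s : F} (h : Co x t j r s) : j ∈ zpowers t ⊔ U3 x := by
  obtain ⟨e, rfl | rfl⟩ := h
  · exact mem_sup_right (C.memU.mpr ⟨_, _, _, rfl⟩)
  · exact mul_mem (mem_sup_left (mem_zpowers t)) (mem_sup_right (C.memU.mpr ⟨_, _, _, rfl⟩))

theorem co_comm {j j' : G} {r s r' s' : F} (h : Co x t j r s) (h' : Co x t j' r' s') :
    j * j' = j' * j * x 0 2 (r * s' + r' * s) := by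
  obtain ⟨e, rfl | rfl⟩ := h <;> obtain ⟨e', rfl | rfl⟩ := h'
  · exact C.el_comm ..
  · rw [← mul_assoc, C.tL (C.elL ..), mul_assoc, C.el_comm]; group
  · rw [mul_assoc, C.el_comm, ← mul_assoc (el x r' s' e'), C.tL (C.elL ..)]; group
  · calc t * el x r s e * (t * el x r' s' e') = t * (el x r s e * t) * el x r' s' e' := by group
      _ = t * t * (el x r s e * el x r' s' e') := by rw [C.tL (C.elL ..)]; group
      _ = t * (t * el x r' s' e') * el x r s e * x 0 2 (r * s' + r' * s) := by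
        rw [C.el_comm]; group
      _ = t * (el x r' s' e' * t) * el x r s e * x 0 2 (r * s' + r' * s) := by
        rw [C.tL (C.elL r' s' e')]
      _ = _ := by group

theorem co_mul {j j' : G} {r s r' s' : F} (h : Co x t j r s) (h' : Co x t j' r' s') :
    Co x t (j * j') (r + r') (s + s') := by
  obtain ⟨e, rfl | rfl⟩ := h <;> obtain ⟨e', rfl | rfl⟩ := h'
  · exact ⟨_, Or.inl (C.el_mul ..)⟩
  · exact ⟨_, Or.inr (by rw [← mul_assoc, C.tL (C.elL ..), mul_assoc, C.el_mul])⟩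
  · exact ⟨_, Or.inr (by rw [mul_assoc, C.el_mul])⟩
  · refine ⟨e + e' + r' * s, Or.inl ?_⟩
    calc t * el x r s e * (t * el x r' s' e') = t * (el x r s e * t) * el x r' s' e' := by group
      _ = t * t * (el x r s e * el x r' s' e') := by rw [C.tL (C.elL ..)]; group
      _ = _ := by rw [C.tt, one_mul, C.el_mul]

theorem co_a (r : F) : Co x t (x 0 1 r) r 0 := ⟨0, Or.inl (C.el_a r)⟩

theorem co_b (r : F) : Co x t (x 1 2 r) 0 r := ⟨0, Or.inl (C.el_b r)⟩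

theorem co_zero {j j' : G} {r s r' s' : F} (h : Co x t j r s) (h' : Co x t j' r' s')
    (hc : j * j' = j' * j) : r * s' + r' * s = 0 := by
  have := C.co_comm h h'
  rw [hc, left_eq_mul, ← C.x0 0 2 (by decide)] at this
  exact C.c_inj this

theorem tor {c1 c2 y : F} (h1 : c1 ≠ 0) (hy : y ≠ 0) (h2 : c2 = y ^ 3 * c1) :
    ∃ h, To x t h c1 c2 := by
  have h3 : c2 ≠ 0 := h2 ▸ mul_ne_zero (pow_ne_zero _ hy) h1
  obtain ⟨h, hh, H⟩ := C.P.tor ![Units.mk0 (c1 * y) (mul_ne_zero h1 hy), Units.mk0 y hy,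
    Units.mk0 (y / c2) (div_ne_zero hy h3)] (by
      apply Units.ext
      change c1 * y * y * (y / c2) = 1
      field_simp
      rw [h2]; ring)
  refine ⟨h, by rw [C.tL (C.m.gen ▸ hh), mul_inv_cancel_right], fun r => ?_, fun r => ?_,
    fun r => ?_⟩
  · rw [H 0 1 (by decide)]
    congr 1
    change c1 * y * y⁻¹ * r = _
    field_simp
  · rw [H 1 2 (by decide)]
    congr 1
    change y * (y / c2)⁻¹ * r = _
    field_simp
  · rw [H 0 2 (by decide)]
    congr 1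
    change c1 * y * (y / c2)⁻¹ * r = _
    field_simp

/-- an element normalising `J` normalises `Z` -/
theorem nZ {g : G} (hg : ∀ j ∈ zpowers t ⊔ U3 x, g * j * g⁻¹ ∈ zpowers t ⊔ U3 x) (e : F) :
    ∃ e', g * x 0 2 e * g⁻¹ = x 0 2 e' := by
  obtain ⟨r, s, h⟩ := C.co_ex (hg _ (C.co_mem (C.co_a e)))
  obtain ⟨r', s', h'⟩ := C.co_ex (hg _ (C.co_mem (C.co_b 1)))
  have e1 := C.co_comm h h'
  have e2 := congrArg (fun z => g * z * g⁻¹) (C.co_comm (C.co_a e) (C.co_b 1))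
  simp only [cmul] at e2
  rw [e1, mul_one, mul_zero, add_zero] at e2
  exact ⟨_, (mul_left_cancel e2).symm⟩

/-- an element `m` normalising `J` such that `j` commutes with `m j m⁻¹` acts as a scalar -/
theorem scal {m : G} (hm : ∀ j ∈ zpowers t ⊔ U3 x, m * j * m⁻¹ ∈ zpowers t ⊔ U3 x)
    (hc : ∀ j ∈ zpowers t ⊔ U3 x, j * (m * j * m⁻¹) = m * j * m⁻¹ * j) :
    ∃ κ, κ ≠ 0 ∧ (∀ r, Co x t (m * x 0 1 r * m⁻¹) (κ * r) 0) ∧
      (∀ r, Co x t (m * x 1 2 r * m⁻¹) 0 (κ * r)) ∧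
      ∀ r, m * x 0 2 r * m⁻¹ = x 0 2 (κ * κ * r) := by
  have h1 : ∀ r, ∃ r1, Co x t (m * x 0 1 r * m⁻¹) r1 0 := by
    intro r
    by_cases hr : r = 0
    · subst hr
      rw [C.x0 0 1 (by decide), mul_one, mul_inv_cancel, ← C.x0 0 1 (by decide)]
      exact ⟨_, C.co_a 0⟩
    obtain ⟨r1, s1, h⟩ := C.co_ex (hm _ (C.co_mem (C.co_a r)))
    have := C.co_zero (C.co_a r) h (hc _ (C.co_mem (C.co_a r)))
    rw [mul_zero, add_zero] at this
    exact ⟨r1, (mul_eq_zero.mp this).resolve_left hr ▸ h⟩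
  have h2 : ∀ r, ∃ r1, Co x t (m * x 1 2 r * m⁻¹) 0 r1 := by
    intro r
    by_cases hr : r = 0
    · subst hr
      rw [C.x0 1 2 (by decide), mul_one, mul_inv_cancel, ← C.x0 1 2 (by decide)]
      exact ⟨_, C.co_b 0⟩
    obtain ⟨r1, s1, h⟩ := C.co_ex (hm _ (C.co_mem (C.co_b r)))
    have := C.co_zero (C.co_b r) h (hc _ (C.co_mem (C.co_b r)))
    rw [zero_mul, zero_add] at this
    exact ⟨s1, (mul_eq_zero.mp this).resolve_right hr ▸ h⟩
  choose f1 h1 using h1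
  choose f2 h2 using h2
  have h3 : ∀ r s, r * f2 s = f1 r * s := by
    intro r s
    have a1 := C.co_mul (C.co_a r) (C.co_b s)
    have a2 := C.co_mul (h1 r) (h2 s)
    rw [← cmul] at a2
    have := C.co_zero a1 a2 (hc _ (C.co_mem a1))
    linear_combination this - f1 r * s * C.two
  have h4 : ∀ r, f1 r = f2 1 * r := fun r => by linear_combination -h3 r 1
  have h5 : ∀ r, f2 r = f2 1 * r := fun r => by linear_combination h3 1 r + r * h4 1
  have h6 : ∀ r, m * x 0 2 r * m⁻¹ = x 0 2 (f2 1 * f2 1 * r) := by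
    intro e
    have e1 := C.co_comm (h1 e) (h2 1)
    have e2 := congrArg (fun z => m * z * m⁻¹) (C.co_comm (C.co_a e) (C.co_b 1))
    simp only [cmul] at e2
    rw [e1, mul_one, mul_zero, add_zero, add_zero] at e2
    rw [← mul_left_cancel e2, h4]
    congr 1; ring
  refine ⟨f2 1, fun e => ?_, fun r => h4 r ▸ h1 r, fun r => h5 r ▸ h2 r, h6⟩
  have := h6 1
  rw [e, zero_mul, zero_mul, C.x0 0 2 (by decide), mul_inv_eq_one, mul_eq_left] at this
  exact one_ne_zero (C.m.st.inj 0 2 (by decide) 1 this)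

theorem exists_ω [Finite F] : ∃ ω : F, ω ≠ 0 ∧ ω ≠ 1 := by
  classical
  by_contra h
  push Not at h
  have := Fintype.ofFinite F
  have h1 : (Finset.univ : Finset F) ⊆ {0, 1} := fun a _ => by
    by_cases ha : a = 0
    · simp [ha]
    · simp [h a ha]
  have h2 := (Finset.card_le_card h1).trans Finset.card_le_two
  have h3 := C.m.four
  rw [Nat.card_eq_fintype_card, ← Finset.card_univ] at h3
  omega

/-- step A -/
theorem stepA [Finite F] (h : Start0 x t) : ∃ n ζ, ζ ≠ 0 ∧ n * t * n⁻¹ = t * x 0 2 ζ ∧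
    (∀ r, Co x t (n * x 0 1 r * n⁻¹) r 0) ∧ (∀ r, Co x t (n * x 1 2 r * n⁻¹) 0 r) ∧
    ∀ r, n * x 0 2 r * n⁻¹ = x 0 2 r := by
  obtain ⟨g, hg, ζ, hζ, e⟩ := h
  obtain ⟨k, k0, k1⟩ := C.exists_ω
  obtain ⟨h, H⟩ := C.tor (c1 := k) (c2 := k) k0 one_ne_zero (by ring)
  have g1 : ∀ j ∈ zpowers t ⊔ U3 x, g * j * g⁻¹ ∈ zpowers t ⊔ U3 x :=
    fun j hj => (mem_normalizer_iff.mp hg j).mp hj
  have g2 : ∀ j ∈ zpowers t ⊔ U3 x, g⁻¹ * j * g⁻¹⁻¹ ∈ zpowers t ⊔ U3 x :=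
    fun j hj => (mem_normalizer_iff.mp (inv_mem hg) j).mp hj
  have e0 : ∀ j, g⁻¹ * h * g * j * (g⁻¹ * h * g)⁻¹ = g⁻¹ * (h * (g * j * g⁻¹) * h⁻¹) * g⁻¹⁻¹ :=
    fun j => by group
  obtain ⟨κ, κ0, a1, a2, a3⟩ := C.scal (m := g⁻¹ * h * g) (fun j hj => by
    obtain ⟨r, s, hrs⟩ := C.co_ex (g1 j hj)
    rw [e0]
    exact g2 _ (C.co_mem (H.co hrs))) (fun j hj => by
    obtain ⟨r, s, hrs⟩ := C.co_ex (g1 j hj)
    have := C.co_comm hrs (H.co hrs)
    rw [show r * (k * s) + k * r * s = 0 by linear_combination k * r * s * C.two,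
      C.x0 0 2 (by decide), mul_one] at this
    rw [e0]
    calc j * (g⁻¹ * (h * (g * j * g⁻¹) * h⁻¹) * g⁻¹⁻¹)
        = g⁻¹ * (g * j * g⁻¹ * (h * (g * j * g⁻¹) * h⁻¹)) * g := by group
      _ = _ := by rw [this]; group)
  obtain ⟨h', H'⟩ := C.tor (c1 := κ⁻¹) (c2 := κ⁻¹) (inv_ne_zero κ0) one_ne_zero (by ring)
  obtain ⟨e', he'⟩ := C.nZ g2 (ζ + k * k * ζ)
  have e1 : ∀ j, h' * (g⁻¹ * h * g) * j * (h' * (g⁻¹ * h * g))⁻¹ =
      h' * (g⁻¹ * h * g * j * (g⁻¹ * h * g)⁻¹) * h'⁻¹ := fun j => by group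
  refine ⟨h' * (g⁻¹ * h * g), κ⁻¹ * κ⁻¹ * e', ?_, ?_, fun r => ?_, fun r => ?_, fun r => ?_⟩
  · refine mul_ne_zero (mul_ne_zero (inv_ne_zero κ0) (inv_ne_zero κ0)) ?_
    rintro rfl
    rw [C.x0 0 2 (by decide), mul_inv_eq_one, mul_eq_left] at he'
    have h1 := C.m.st.inj 0 2 (by decide) _ he'
    have h2 : (k - 1) * (k - 1) * ζ = 0 := by linear_combination h1 - k * ζ * C.two
    exact mul_ne_zero (mul_ne_zero (sub_ne_zero.mpr k1) (sub_ne_zero.mpr k1)) hζ h2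
  · rw [e1, e0, e, cmul h, H.t, H.c, show k * k * ζ = ζ + (ζ + k * k * ζ) by
      linear_combination (-ζ) * C.two, ← C.c_add, ← mul_assoc t, ← e, cmul g⁻¹, he',
      show g⁻¹ * (g * t * g⁻¹) * g⁻¹⁻¹ = t by group, cmul h', H'.t, H'.c]
  · have := H'.co (a1 r)
    rwa [← e1, inv_mul_cancel_left₀ κ0, mul_zero] at this
  · have := H'.co (a2 r)
    rwa [← e1, inv_mul_cancel_left₀ κ0, mul_zero] at this
  · rw [e1, a3, H'.c]
    congr 1
    field_simp

theorem tc (r : F) : x 0 2 r * t = t * x 0 2 r := C.tL (C.xL _ _ (by decide) r)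

theorem dn_el {n : G} {ζ : F} {f f' : F → F} (D : Dn x t n ζ f f') (r s e : F) :
    n * el x r s e * n⁻¹ = el x r s (e + f r + f' s) := by
  rw [el, cmul, cmul, D.a, D.b, D.c, C.el_a, C.el_b, C.el_cc, C.el_cc, C.el_mul, C.el_cc]
  congr 1 <;> ring

theorem dn_mul {n n' : G} {ζ ζ' : F} {f f' g g' : F → F} (D : Dn x t n ζ f f')
    (D' : Dn x t n' ζ' g g') :
    Dn x t (n * n') (ζ + ζ') (fun r => f r + g r) fun r => f' r + g' r := by
  have e : ∀ j, n * n' * j * (n * n')⁻¹ = n * (n' * j * n'⁻¹) * n⁻¹ := fun j => by group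
  refine ⟨?_, fun r => ?_, fun r => ?_, fun r => ?_⟩
  · rw [e, D'.t, cmul, D.t, D.c, mul_assoc, C.c_add]
  · rw [e, D'.a, cmul, D.a, D.c, mul_assoc, C.c_add]
  · rw [e, D'.b, cmul, D.b, D.c, mul_assoc, C.c_add]
  · rw [e, D'.c, D.c]

omit C in
theorem dn_conj {n h : G} {ζ c1 c2 : F} {f f' : F → F} (D : Dn x t n ζ f f') (H : To x t h c1 c2)
    (h1 : c1 ≠ 0) (h2 : c2 ≠ 0) : Dn x t (h * n * h⁻¹) (c1 * c2 * ζ)
      (fun r => c1 * c2 * f (c1⁻¹ * r)) fun r => c1 * c2 * f' (c2⁻¹ * r) := by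
  have e : ∀ j, h * n * h⁻¹ * (h * j * h⁻¹) * (h * n * h⁻¹)⁻¹ = h * (n * j * n⁻¹) * h⁻¹ :=
    fun j => by group
  refine ⟨?_, fun r => ?_, fun r => ?_, fun r => ?_⟩
  · have := e t
    rwa [D.t, cmul h t, H.t, H.c] at this
  · have := e (x 0 1 (c1⁻¹ * r))
    rwa [D.a, cmul h (x 0 1 _), H.a, H.c, mul_inv_cancel_left₀ h1] at this
  · have := e (x 1 2 (c2⁻¹ * r))
    rwa [D.b, cmul h (x 1 2 _), H.b, H.c, mul_inv_cancel_left₀ h2] at this
  · have := e (x 0 2 ((c1 * c2)⁻¹ * r))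
    rwa [D.c, H.c, mul_inv_cancel_left₀ (mul_ne_zero h1 h2)] at this

theorem dn_add {n : G} {ζ : F} {f f' : F → F} (D : Dn x t n ζ f f') (r r' : F) :
    f (r + r') = f r + f r' ∧ f' (r + r') = f' r + f' r' := by
  constructor
  · have := D.a (r + r')
    rw [C.m.st.add 0 1 (by decide), cmul, D.a, D.a, ← C.m.st.add 0 1 (by decide)] at this
    simp only [C.el_a, C.el_cc, C.el_mul] at this
    linear_combination -(C.el_inj this).2.2
  · have := D.b (r + r')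
    rw [C.m.st.add 1 2 (by decide), cmul, D.b, D.b, ← C.m.st.add 1 2 (by decide)] at this
    simp only [C.el_b, C.el_cc, C.el_mul] at this
    linear_combination -(C.el_inj this).2.2

theorem dn_u (r0 s0 e0 : F) : Dn x t (el x r0 s0 e0) 0 (fun r => s0 * r) fun s => r0 * s := by
  refine ⟨?_, fun r => ?_, fun r => ?_, fun r => ?_⟩
  · rw [C.tL (C.elL ..), C.x0 0 2 (by decide), mul_inv_cancel_right, mul_one]
  · rw [mul_inv_eq_iff_eq_mul, C.el_a, C.el_cc, C.el_mul, C.el_mul]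
    congr 1 <;> ring
  · rw [mul_inv_eq_iff_eq_mul, C.el_b, C.el_cc, C.el_mul, C.el_mul]
    congr 1
    · ring
    · ring
    · linear_combination (-(r0 * r)) * C.two
  · rw [mul_inv_eq_iff_eq_mul, C.el_cc, C.cc_el]

theorem dn_zero {n : G} {f f' : F → F} (D : Dn x t n 0 f f') :
    (∃ κ, ∀ r, f r = κ * r) ∧ ∃ κ, ∀ r, f' r = κ * r := by
  have h1 : n ∈ N[L] := C.T.cN (mem_centralizer_singleton_iff.mpr (by
    have := D.t
    rwa [C.x0 0 2 (by decide), mul_one, mul_inv_eq_iff_eq_mul] at this))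
  obtain ⟨u, hu, k, hk, rfl⟩ := C.A.c2 n h1 fun u hu => by
    obtain ⟨r, s, e, rfl⟩ := C.memU.mp hu
    rw [C.P.memX 0 2 (by decide), commutatorElement_def, C.dn_el D]
    refine ⟨f r + f' s, ?_⟩
    rw [mul_inv_eq_iff_eq_mul, C.cc_el, add_assoc]
  obtain ⟨r0, s0, e0, rfl⟩ := C.memU.mp hu
  have e : ∀ l ∈ L, el x r0 s0 e0 * k * l * (el x r0 s0 e0 * k)⁻¹ =
      el x r0 s0 e0 * l * (el x r0 s0 e0)⁻¹ := fun l hl => by
    rw [mul_assoc _ k, ← mem_centralizer_iff.mp hk l hl]; group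
  refine ⟨⟨s0, fun r => ?_⟩, r0, fun r => ?_⟩
  · have := D.a r
    rw [e _ (C.xL _ _ (by decide) _), (C.dn_u r0 s0 e0).a] at this
    exact (C.c_inj (mul_left_cancel this)).symm
  · have := D.b r
    rw [e _ (C.xL _ _ (by decide) _), (C.dn_u r0 s0 e0).b] at this
    exact (C.c_inj (mul_left_cancel this)).symm

theorem sq_aux {n y : G} {ζ : F} (h1 : n * t * n⁻¹ = t * x 0 2 ζ)
    (h2 : ∀ r, n * x 0 2 r * n⁻¹ = x 0 2 r) (hc : ∀ r, x 0 2 r * y = y * x 0 2 r)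
    (h : ∃ e, n * y * n⁻¹ = y * x 0 2 e ∨ n * y * n⁻¹ = t * (y * x 0 2 e)) :
    ∃ e, n * n * y * (n * n)⁻¹ = y * x 0 2 e ∧
      (((∃ e', n * y * n⁻¹ = y * x 0 2 e') ∧ e = 0) ∨ e = ζ) := by
  have e0 : n * n * y * (n * n)⁻¹ = n * (n * y * n⁻¹) * n⁻¹ := by group
  obtain ⟨e, h | h⟩ := h
  · refine ⟨0, ?_, Or.inl ⟨⟨e, h⟩, rfl⟩⟩
    rw [e0, h, cmul, h, h2, mul_assoc, C.c_add]
    congr 2
    linear_combination e * C.two
  · refine ⟨ζ, ?_, Or.inr rfl⟩
    rw [e0, h, cmul, cmul, h, h1, h2]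
    calc t * x 0 2 ζ * (t * (y * x 0 2 e) * x 0 2 e)
        = t * (x 0 2 ζ * t) * y * (x 0 2 e * x 0 2 e) := by group
      _ = t * t * (x 0 2 ζ * y) * x 0 2 (e + e) := by rw [C.tc, C.c_add]; group
      _ = _ := by
        rw [C.tt, one_mul, hc, show e + e = 0 by linear_combination e * C.two,
          C.x0 0 2 (by decide), mul_one]

/-- step B: `N₁` normalises `U` -/
theorem stepB [Finite F] {n : G} {ζ : F} (hζ : ζ ≠ 0) (h1 : n * t * n⁻¹ = t * x 0 2 ζ)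
    (ha : ∀ r, Co x t (n * x 0 1 r * n⁻¹) r 0) (hb : ∀ r, Co x t (n * x 1 2 r * n⁻¹) 0 r)
    (h2 : ∀ r, n * x 0 2 r * n⁻¹ = x 0 2 r) : ∃ f f', Dn x t n ζ f f' := by
  obtain ⟨k, k0, k1⟩ := C.exists_ω
  have a1 := fun r => C.sq_aux (y := x 0 1 r) h1 h2
    (fun s => by rw [C.el_a, C.cc_el, C.el_cc]) (by
      simpa only [Co, C.el_a, C.el_cc, zero_add] using ha r)
  have b1 := fun r => C.sq_aux (y := x 1 2 r) h1 h2
    (fun s => by rw [C.el_b, C.cc_el, C.el_cc]) (by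
      simpa only [Co, C.el_b, C.el_cc, zero_add] using hb r)
  choose f a1 a2 using a1
  choose f' b1 b2 using b1
  have D : Dn x t (n * n) 0 f f' := by
    have e0 : ∀ y, n * n * y * (n * n)⁻¹ = n * (n * y * n⁻¹) * n⁻¹ := fun y => by group
    refine ⟨?_, a1, b1, fun r => by rw [e0, h2, h2]⟩
    rw [e0, h1, cmul, h1, h2, mul_assoc, C.c_add]
    congr 2
    linear_combination ζ * C.two
  have key : ∀ (f : F → F) (p : F → Prop), (∃ κ, ∀ r, f r = κ * r) →
      (∀ r, (p r ∧ f r = 0) ∨ f r = ζ) → ∀ r, p r := by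
    rintro f p ⟨κ, hκ⟩ h r
    rcases h r with e | e
    · exact e.1
    exfalso
    have e1 : f (k * r) = k * ζ := by rw [← e, hκ, hκ]; ring
    rcases h (k * r) with e' | e'
    · exact mul_ne_zero k0 hζ (e1.symm.trans e'.2)
    · exact k1 (mul_right_cancel₀ hζ (by rw [← e1, e', one_mul]))
  have a3 := key _ _ (C.dn_zero D).1 a2
  have b3 := key _ _ (C.dn_zero D).2 b2
  choose g a3 using a3
  choose g' b3 using b3
  exact ⟨g, g', h1, a3, b3, h2⟩

theorem dn_lin [Finite F] {n : G} {ζ : F} {f f' : F → F} (D : Dn x t n ζ f f') :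
    (∃ κ, ∀ r, f r = κ * r) ∧ ∃ κ, ∀ r, f' r = κ * r := by
  obtain ⟨k, k0, k1⟩ := C.exists_ω
  constructor
  · refine lin C.two (fun ζ f => ∃ n f', Dn x t n ζ f f') ?_ ?_ ?_ ?_ ?_ k0 k1 ⟨n, f', D⟩
    · rintro ζ f ζ' g ⟨n, f', D⟩ ⟨n', g', D'⟩
      exact ⟨_, _, C.dn_mul D D'⟩
    · rintro f ⟨n, f', D⟩
      exact (C.dn_zero D).1
    · rintro ζ f ⟨n, f', D⟩ r r'
      exact (C.dn_add D r r').1
    · rintro y hy ζ f ⟨n, f', D⟩
      have h3 := pow_ne_zero 3 hy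
      obtain ⟨h, H⟩ := C.tor (c1 := (y ^ 3)⁻¹) (c2 := y ^ 3) (y := y ^ 2) (inv_ne_zero h3)
        (pow_ne_zero 2 hy) (by field_simp)
      have := dn_conj D H (inv_ne_zero h3) h3
      simp only [inv_mul_cancel₀ h3, one_mul, inv_inv] at this
      exact ⟨_, _, this⟩
    · rintro k hk ζ f ⟨n, f', D⟩
      obtain ⟨h, H⟩ := C.tor (c1 := k) (c2 := k) hk one_ne_zero (by ring)
      exact ⟨_, _, dn_conj D H hk hk⟩
  · refine lin C.two (fun ζ f' => ∃ n f, Dn x t n ζ f f') ?_ ?_ ?_ ?_ ?_ k0 k1 ⟨n, f, D⟩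
    · rintro ζ f ζ' g ⟨n, f', D⟩ ⟨n', g', D'⟩
      exact ⟨_, _, C.dn_mul D D'⟩
    · rintro f ⟨n, f', D⟩
      exact (C.dn_zero D).2
    · rintro ζ f ⟨n, f', D⟩ r r'
      exact (C.dn_add D r r').2
    · rintro y hy ζ f ⟨n, f', D⟩
      have h3 := pow_ne_zero 3 hy
      obtain ⟨h, H⟩ := C.tor (c1 := y ^ 3) (c2 := (y ^ 3)⁻¹) (y := (y ^ 2)⁻¹) h3
        (inv_ne_zero (pow_ne_zero 2 hy)) (by field_simp)
      have := dn_conj D H h3 (inv_ne_zero h3)
      simp only [mul_inv_cancel₀ h3, one_mul, inv_inv] at this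
      exact ⟨_, _, this⟩
    · rintro k hk ζ f ⟨n, f', D⟩
      obtain ⟨h, H⟩ := C.tor (c1 := k) (c2 := k) hk one_ne_zero (by ring)
      exact ⟨_, _, dn_conj D H hk hk⟩

theorem start3 [Finite F] (h : Start0 x t) : Start3 x t := by
  obtain ⟨n, ζ, hζ, h1, ha, hb, hc⟩ := C.stepA h
  obtain ⟨f, f', D⟩ := C.stepB hζ h1 ha hb hc
  obtain ⟨⟨κ, hκ⟩, κ', hκ'⟩ := C.dn_lin D
  have D' := C.dn_mul (C.dn_u κ' κ 0) D
  refine ⟨_, mem_centralizer_iff.mpr fun u hu => ?_, ζ, hζ, zero_add ζ ▸ D'.t⟩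
  obtain ⟨r, s, e, rfl⟩ := C.memU.mp hu
  symm
  rw [← mul_inv_eq_iff_eq_mul, C.dn_el D', hκ, hκ']
  congr 1
  linear_combination (κ * r + κ' * s) * C.two

theorem r2 (h : Start3 x t) : R2 L t := by
  obtain ⟨p, hp, e, he, h1⟩ := h
  have hcU : ∀ r, x 0 2 r ∈ U3 x := fun r => C.memU.mpr ⟨_, _, _, C.el_c r⟩
  have h2 : p⁻¹ * t * p = t * x 0 2 e := by
    have h3 : p * (t * x 0 2 e) * p⁻¹ = t := by
      rw [cmul, h1, ← mem_centralizer_iff.mp hp _ (hcU e), mul_inv_cancel_right, mul_assoc,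
        C.c_add, show e + e = 0 by linear_combination e * C.two, C.x0 0 2 (by decide), mul_one]
    conv_lhs => rw [← h3]
    group
  have key : ∀ k ∈ C[L], Commute k t → k * k ≠ t := by
    intro k hk hkt hkk
    have hkc := mem_centralizer_iff.mp hk _ (C.xL 0 2 (by decide) e)
    have h3 : p⁻¹ * k * p ∈ N[L] := by
      refine C.T.cN (mem_centralizer_singleton_iff.mpr ?_)
      calc p⁻¹ * k * p * t = p⁻¹ * (k * (p * t * p⁻¹)) * p := by group
        _ = p⁻¹ * ((p * t * p⁻¹) * k) * p := by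
          rw [h1, ← mul_assoc k, hkt.eq, mul_assoc t, ← hkc, mul_assoc t]
        _ = _ := by group
    have h4 : p⁻¹ * k * p ∈ C[Y3 x 0 2] :=
      mul_mem (mul_mem (inv_mem hp) (centralizer_le C.m.syl.le hk)) hp
    obtain ⟨c, k0, hk0, h5⟩ := C.A.cY 0 2 (by decide) _ h3 h4
    have h6 : t * x 0 2 e = k0 * k0 := by
      calc t * x 0 2 e = (p⁻¹ * k * p) * (p⁻¹ * k * p) := by rw [← h2, ← hkk]; group
        _ = x 0 2 c * (k0 * x 0 2 c) * k0 := by rw [h5]; group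
        _ = x 0 2 c * x 0 2 c * k0 * k0 := by
          rw [← mem_centralizer_iff.mp hk0 _ (C.xL 0 2 (by decide) c)]; group
        _ = _ := by
          rw [C.c_add, show c + c = 0 by linear_combination c * C.two, C.x0 0 2 (by decide),
            one_mul]
    have h7 : x 0 2 e ∈ U3 x ⊓ C[L] :=
      ⟨hcU e, by
        have := mul_mem (inv_mem C.T.tc) (mul_mem hk0 hk0)
        rwa [← h6, inv_mul_cancel_left] at this⟩
    rw [C.A.UK, mem_bot] at h7
    exact he (C.m.st.inj 0 2 (by decide) e h7)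
  rintro k hk hkt ⟨n, hn⟩
  induction n generalizing k with
  | zero => exact Or.inl (by simpa using hn)
  | succ n ih =>
    rcases ih (k * k) (mul_mem hk hk) (hkt.mul_left hkt) (by rw [← sq, ← pow_mul, ← pow_succ', hn])
      with h | h
    · exact C.T.one k hk hkt h
    · exact absurd h (key k hk hkt)

end Cx

end

theorem stb (hP : PinStmt3.{u, v}) (hA : KAStmt.{u, v}) : StBStmt.{u, v} := by
  intro F _ _ G _ _ L x m t T _ h
  have C : Cx L x t := ⟨m, hP x m.st, hA L x m, T⟩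
  exact ⟨C.start3 h, C.r2 (C.start3 h)⟩

end Cfsg.Agent.H31.L3Stb
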