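import Cfsg.Agent.H48.M2Defs

/-! Two distinct lines through a common point. -/

set_option autoImplicit false

namespace Cfsg.Agent.H31.M2Bl

open Cfsg Subgroup Cfsg.Agent.H48 Cfsg.Agent.H48.Rec Cfsg.Agent.H49 Cfsg.Agent.H95.Par
open Cfsg.Agent.H48.M2
open Cfsg.Agent.H97.Gr (DD ZZ)
open Cfsg.Agent.H97.Yt (M)

theorem inf_le {G : Type*} [Group G] [Finite G] {W W' : Subgroup G} (h : Nat.card W = 4)
    (h' : Nat.card W' = 4) (ne : W ≠ W') {b : G} (hb : b ∈ W) (hb' : b ∈ W') (b1 : b ≠ 1)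
    (bb : b * b = 1) : W ⊓ W' ≤ zpowers b := by
  refine (eq_of_le_of_card_ge (zpowers_le.2 (show b ∈ W ⊓ W' from ⟨hb, hb'⟩)) ?_).ge
  have h1 : Nat.card (W ⊓ W' : Subgroup G) ∣ 4 := h ▸ card_dvd_of_le inf_le_left
  have h2 : Nat.card (W ⊓ W' : Subgroup G) ≠ 4 := fun e => ne
    ((eq_of_le_of_card_ge inf_le_left (h.trans e.symm).le).symm.trans
      (eq_of_le_of_card_ge inf_le_right (h'.trans e.symm).le))
  rw [card_zpowers_invol b1 bb]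
  have h3 := Nat.le_of_dvd four_pos h1
  generalize Nat.card (W ⊓ W' : Subgroup G) = n at *
  interval_cases n <;> omega

theorem key {G : Type*} [Group G] {y y' a a' b : G} (h : y * y' = y' * y) (h' : a * a' = a' * a)
    (he : Commute y (a * y' * a⁻¹ * y'⁻¹)) (hf : Commute y' (a' * y * a'⁻¹ * y⁻¹))
    (hb : Commute (y * y' * (a * a')) b)
    (k : y * a * (y' * a') = y' * a' * (y * a) ∨ y * a * (y' * a') = y' * a' * (y * a) * b) :
    a * y' * a⁻¹ * y'⁻¹ = a' * y * a'⁻¹ * y⁻¹ ∨ a * y' * a⁻¹ * y'⁻¹ = a' * y * a'⁻¹ * y⁻¹ * b := by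
  have e1 : y * a * (y' * a') = a * y' * a⁻¹ * y'⁻¹ * (y * y' * (a * a')) := by
    rw [← mul_assoc _ (y * y'), ← mul_assoc _ y, ← he.eq]
    group
  have e2 : y' * a' * (y * a) = a' * y * a'⁻¹ * y⁻¹ * (y * y' * (a * a')) := by
    rw [h, h', ← mul_assoc _ (y' * y), ← mul_assoc _ y', ← hf.eq]
    group
  rw [e1, e2] at k
  refine k.imp mul_right_cancel fun k => mul_right_cancel (b := y * y' * (a * a')) ?_
  rw [k, mul_assoc _ _ b, hb.eq, mul_assoc _ b]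

theorem dec (pf : PfStmt) {A : Subgroup M} (hA : Ark A) {b y : M} (hb : b ∈ A) (hz : b ∈ ZZ)
    (hy : y ∈ Qz b ⊔ A) : ∃ a ∈ A, y * a ∈ Qz b := by
  have hn : A ≤ NN (Qz b) := fun a ha => n_Qz hz ((pf A hA).el.cm ha hb)
  have := (coe_mul_of_right_le_normalizer_left _ _ hn).le hy
  obtain ⟨q, hq, a, ha, rfl⟩ := this
  exact ⟨a⁻¹, inv_mem ha, by simpa using hq⟩

theorem bl (bu : BuStmt) (bc : BcStmt) (bw : BwStmt) (b5 : B5Stmt) (pf : PfStmt) : BlStmt := by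
  intro w w' y y' h l l' c ne b hb hb' b1
  obtain ⟨-, j1, -, -, u1, sg, -⟩ := bu w w' h
  obtain ⟨-, j2, -, -, u2, -⟩ := bu w' w h.symm
  obtain ⟨c1, m1, -⟩ := bw w w' y h l
  obtain ⟨c2, m2, -⟩ := bw w' w y' h.symm l'
  have hz := (sg b hb.1 b1).1
  obtain ⟨a, ha, k1⟩ := dec pf h.t1.ark (u1 hb.1) hz ((m1 b hb.1 b1).1 hb)
  obtain ⟨a', ha', k2⟩ := dec pf h.t2.ark (u2 hb'.1) hz ((m2 b hb'.1 b1).1 hb')
  obtain ⟨e1, e2⟩ := b5 w' w y' h.symm l' a (mem_sup_left ha)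
  have f1 := (b5 w w' y h l a' (mem_sup_left ha')).1
  have cy : ∀ u ∈ U0 w w', Commute y u := fun u hu => (j1 l.mem u (u1 hu)).symm
  have cy' : ∀ u ∈ U0 w' w, Commute y' u := fun u hu => (j2 l'.mem u (u2 hu)).symm
  have k := key c (bc w w' h a (mem_sup_left ha) a' (mem_sup_left ha'))
    (cy _ (U0_comm w w' ▸ e1.1)) (cy' _ (U0_comm w' w ▸ f1.1))
    (((cy b hb.1).mul_left (cy' b hb'.1)).mul_left (Commute.mul_left
      ((pf _ h.t1.ark).el.cm ha (u1 hb.1)) ((pf _ h.t2.ark).el.cm ha' (u2 hb'.1))))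
    ((lx hz).comm _ k1 _ k2)
  have e3 : a * y' * a⁻¹ * y'⁻¹ ∈ WW w w' y := by
    rcases k with k | k <;> rw [k]
    exacts [f1, mul_mem f1 hb]
  exact ((Qz b).mul_mem_cancel_right
    (e2 b hb' b1 (inf_le c1 c2 ne hb hb' b1 (ZZ_sq hz) ⟨e3, e1⟩))).1 k1

end Cfsg.Agent.H31.M2Bl
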