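import Cfsg.Agent.H31.OuFlag
import Cfsg.Agent.H30.OUDefs

/-! Project ORESU (S2446), piece BIG, part two. -/

set_option autoImplicit false

namespace Cfsg.Agent.H31.OuBig

open Module Polynomial Cfsg.Agent.H76 Cfsg.Agent.H22.Lev Cfsg.Agent.H30.OU Matrix

universe u

theorem comm2 {F W : Type*} [Field F] [AddCommGroup W] [Module F W] [FiniteDimensional F W]
    [Finite F] {g : End F W} (h3 : 3 ≤ finrank F W) (hns : ∀ c : F, g ≠ c • 1)
    (hq : ∀ t δ : F, g * g = t • g + δ • 1 → ∃ c : F, c * c = t * c + δ)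
    (hg : LinearMap.det g = 1) {f' f'' : F[X]} {t δ : F} (hf'' : f'' = X ^ 2 - C t * X + C δ)
    (h' : f'.Monic) (hm2 : (f'' * f').Monic) (hd2 : (f'' * f').natDegree = finrank F W)
    (hd' : f'.natDegree + 2 = finrank F W) (hc : IsCoprime f' f'')
    (h0 : (-1) ^ finrank F W * (f'' * f').eval 0 = 1) {c₀ : F}
    (hgen : ∀ d : F, d ≠ 0 → ∃ i : ℕ, d * (f'' * f').eval c₀ ^ i = 1) :
    ∃ E M₁ M₂ : End F W, LinearMap.det E = 1 ∧ LinearMap.det M₂ = 1 ∧ g = M₁ * M₂ ∧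
      M₁ * E * M₂ = E ∧ M₂.charpoly = f'' * f' := by
  obtain ⟨H, U, hHU, hU, hH, hgU, hgH⟩ := flag h3 hns hq
  obtain ⟨f₂, hf₂⟩ : ∃ f₂, f₂ = f'' * f' := ⟨_, rfl⟩
  rw [← hf₂] at h0 hgen ⊢
  have hm2' : f₂.Monic := hf₂ ▸ hm2
  have := finite_adjoinRoot hm2'.ne_zero
  have hr : finrank F (AdjoinRoot f₂) = finrank F W := by rw [finrank_adjoinRoot, hf₂, hd2]
  have hdx : LinearMap.det (cyc f₂) = 1 := by rw [det_eq_charpoly, charpoly_cyc hm2', hr, h0]
  obtain ⟨x', hx'⟩ := ((LinearMap.isUnit_iff_isUnit_det (cyc f₂)).2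
    (hdx ▸ isUnit_one)).exists_left_inv
  have hdx' : LinearMap.det x' = 1 := by
    have := congrArg LinearMap.det hx'
    rwa [map_mul, hdx, mul_one, map_one] at this
  have h4 : ((-1 : F) ^ finrank F W) * (-1) ^ finrank F W = 1 := by
    rw [← mul_pow]; simp
  obtain ⟨M₁, M₂, v₁, v₂, a1, a2, a3, a4, a5⟩ := lev2 hHU hU hH hgU hgH hf'' x'.charpoly_monic
    (x'.charpoly_natDegree.trans hr) h' hm2 hd2 (by omega) hc (hg ▸ one_ne_zero) (by
      rw [det_eq_charpoly, hr] at hdx'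
      rw [hg, ← hf₂]
      linear_combination (-eval 0 f₂ * (-1) ^ finrank F W) * hdx' - h0 +
        eval 0 f₂ * eval 0 x'.charpoly * h4)
  rw [← hf₂] at a5
  obtain ⟨e₁, he₁⟩ := ((gen_cyc f₂).inv hx').sim_of_charpoly a2 a3.symm
  obtain ⟨e₂, he₂⟩ := (gen_cyc f₂).sim_of_charpoly a4 (by rw [charpoly_cyc hm2', a5])
  set E₀ : W ≃ₗ[F] W := e₂.symm.trans e₁ with hE₀
  have hE : M₁ * (E₀ : End F W) * M₂ = E₀ := LinearMap.ext fun x => by
    obtain ⟨y, rfl⟩ := e₂.surjective x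
    change M₁ (e₁ (e₂.symm (M₂ (e₂ y)))) = e₁ (e₂.symm (e₂ y))
    rw [← he₂, e₂.symm_apply_apply, e₂.symm_apply_apply, ← he₁, ← Module.End.mul_apply, hx']
    rfl
  obtain ⟨i, hi⟩ := hgen _ E₀.isUnit_det'.ne_zero
  have hz : Commute ((algebraMap F (End F W) c₀ - M₂) ^ i) M₂ :=
    ((Algebra.commute_algebraMap_left c₀ M₂).sub_left (Commute.refl M₂)).pow_left i
  refine ⟨E₀ * (algebraMap F (End F W) c₀ - M₂) ^ i, M₁, M₂, ?_, ?_, a1, ?_, a5⟩
  · rw [map_mul, map_pow, ← LinearMap.eval_charpoly, a5, hi]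
  · rw [det_eq_charpoly, a5, h0]
  · rw [← mul_assoc, mul_assoc _ _ M₂, hz.eq, ← mul_assoc, hE]

section ring
variable {R : Type*} [CommRing R] {X W : R} (hW : W ^ 2 + W + 1 = 0) (h2 : (2 : R) = 0)
include hW h2

theorem cop_main : IsCoprime
    ((X ^ 2 + W * X + W) * (X ^ 2 + 1 * X + (W + 1)) * (X ^ 2 + W * X + 1) *
      (X ^ 3 + W * X ^ 2 + 1 * X + (W + 1)))
    (((W + 1) * X ^ 2 + (W + 1) * X + 1) * (W * X ^ 2 + 1 * X + 1) *
      (1 * X ^ 2 + (W + 1) * X + 1) * (W * X ^ 3 + 1 * X ^ 2 + (W + 1) * X + 1)) :=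
  ⟨1 + W * X ^ 5 + X ^ 6 + X ^ 7,
    W + X + X ^ 2 + W * X ^ 2 + X ^ 3 + W * X ^ 3 + X ^ 4 + W * X ^ 4 + X ^ 5 + X ^ 7
    + W * X ^ 7, by
  linear_combination (1 + W + 5 * X + 2 * W * X + W ^ 2 * X + 12 * X ^ 2 + 8 * W * X ^ 2 + W ^ 2 * X ^ 2
    + 24 * X ^ 3 + 16 * W * X ^ 3 + 2 * W ^ 2 * X ^ 3 + 44 * X ^ 4 + 22 * W * X ^ 4
    + 6 * W ^ 2 * X ^ 4 + 56 * X ^ 5 + 42 * W * X ^ 5 + 8 * W ^ 2 * X ^ 5 + W ^ 3 * X ^ 5
    + 79 * X ^ 6 + 53 * W * X ^ 6 + 17 * W ^ 2 * X ^ 6 + 2 * W ^ 3 * X ^ 6 + 78 * X ^ 7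
    + 74 * W * X ^ 7 + 25 * W ^ 2 * X ^ 7 + 3 * W ^ 3 * X ^ 7 + 74 * X ^ 8 + 81 * W * X ^ 8
    + 32 * W ^ 2 * X ^ 8 + 4 * W ^ 3 * X ^ 8 + 66 * X ^ 9 + 83 * W * X ^ 9
    + 30 * W ^ 2 * X ^ 9 + 4 * W ^ 3 * X ^ 9 + 68 * X ^ 10 + 65 * W * X ^ 10
    + 27 * W ^ 2 * X ^ 10 + 3 * W ^ 3 * X ^ 10 + 51 * X ^ 11 + 58 * W * X ^ 11
    + 18 * W ^ 2 * X ^ 11 + 2 * W ^ 3 * X ^ 11 + 39 * X ^ 12 + 41 * W * X ^ 12
    + 12 * W ^ 2 * X ^ 12 + 2 * W ^ 3 * X ^ 12 + 22 * X ^ 13 + 22 * W * X ^ 13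
    + 11 * W ^ 2 * X ^ 13 + W ^ 3 * X ^ 13 + 5 * X ^ 14 + 12 * W * X ^ 14
    + 6 * W ^ 2 * X ^ 14 + W ^ 3 * X ^ 14 + 3 * W * X ^ 15 + 3 * W ^ 2 * X ^ 15
    + W ^ 3 * X ^ 15 - X ^ 16 + W * X ^ 16 + W ^ 2 * X ^ 16) * hW +
    (-1 - 2 * X - 3 * X ^ 2 - 4 * X ^ 3 + W * X ^ 3 - 7 * X ^ 4 + 5 * W * X ^ 4 - 6 * X ^ 5
    + 7 * W * X ^ 5 - 14 * X ^ 6 + 4 * W * X ^ 6 - 13 * X ^ 7 - 14 * X ^ 8 - 3 * W * X ^ 8
    - 13 * X ^ 9 - 7 * W * X ^ 9 - 18 * X ^ 10 - 7 * W * X ^ 10 - 13 * X ^ 11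
    - 6 * W * X ^ 11 - 11 * X ^ 12 - 6 * W * X ^ 12 - 6 * X ^ 13 - 3 * W * X ^ 13 + X ^ 15
    + W * X ^ 15 + X ^ 16) * h2⟩

theorem cop_B : IsCoprime (X ^ 2 + 1 * X + (W + 1)) (X ^ 2 + W * X + W) :=
  ⟨X, 1 + W + X, by
    linear_combination (1 + X) * hW + (-1 + W * X + X ^ 2 + W * X ^ 2 + X ^ 3) * h2⟩

theorem cop_C : IsCoprime (X ^ 2 + W * X + 1) (X ^ 2 + W * X + W) :=
  ⟨W, W, by linear_combination (1 + 2 * X) * hW + (-1 - X - W * X + W * X ^ 2) * h2⟩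

theorem cop_D : IsCoprime (X ^ 3 + W * X ^ 2 + 1 * X + (W + 1)) (X ^ 2 + W * X + W) :=
  ⟨1 + W * X, 1 + X + W * X ^ 2, by
    linear_combination (X + X ^ 2 + 2 * X ^ 3) * hW +
      (W + W * X + W * X ^ 2 - W * X ^ 3 + W * X ^ 4) * h2⟩

end ring

section poly
variable {F : Type u} [Field F]

/-- a monic quadratic -/
noncomputable def qd (a b : F) : F[X] := X ^ 2 + C a * X + C b

/-- a monic cubic -/
noncomputable def cu (a b c : F) : F[X] := X ^ 3 + C a * X ^ 2 + C b * X + C c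

theorem qd_monic (a b : F) : (qd a b).Monic := by unfold qd; monicity!

theorem qd_deg (a b : F) : (qd a b).natDegree = 2 := by unfold qd; compute_degree!

theorem cu_monic (a b c : F) : (cu a b c).Monic := by unfold cu; monicity!

theorem cu_deg (a b c : F) : (cu a b c).natDegree = 3 := by unfold cu; compute_degree!

theorem qd_eval (a b x : F) : (qd a b).eval x = x ^ 2 + a * x + b := by simp [qd]

theorem cu_eval (a b c x : F) : (cu a b c).eval x = x ^ 3 + a * x ^ 2 + b * x + c := by simp [cu]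

variable [StarRing F] {ι : Type} [Fintype ι] [DecidableEq ι]

/-- `p'` is the conjugate reciprocal of `p` -/
def Rel (N N' : Matrix ι ι F) (p p' : F[X]) : Prop :=
  ∃ k : ℕ, aeval N' p' = (aeval N p)ᴴ * N' ^ k

variable {N N' : Matrix ι ι F}

theorem Rel.mul {p p' r r' : F[X]} (h : Rel N N' p p') (h' : Rel N N' r r') :
    Rel N N' (p * r) (p' * r') := by
  obtain ⟨k, hk⟩ := h
  obtain ⟨l, hl⟩ := h'
  refine ⟨k + l, ?_⟩
  have hc : N' ^ l * aeval N' p' = aeval N' p' * N' ^ l := by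
    have := ((Commute.all (X ^ l) p').map (aeval N')).eq
    rwa [map_pow, aeval_X] at this
  rw [mul_comm p', map_mul, map_mul, hl, Matrix.mul_assoc, hc, hk, conjTranspose_mul, pow_add]
  simp only [Matrix.mul_assoc]

theorem Rel.pow {p p' : F[X]} (h : Rel N N' p p') (k : ℕ) : Rel N N' (p ^ k) (p' ^ k) := by
  induction k with
  | zero => exact ⟨0, by simp⟩
  | succ k ih => rw [pow_succ, pow_succ]; exact ih.mul h

theorem rel_qd (h : Nᴴ * N' = 1) (a b : F) :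
    Rel N N' (qd a b) (C (star b) * X ^ 2 + C (star a) * X + 1) := by
  refine ⟨2, ?_⟩
  have c : ∀ Y : Matrix ι ι F, Nᴴ * (N' * Y) = Y := fun Y => by
    rw [← Matrix.mul_assoc, h, Matrix.one_mul]
  simp only [qd, map_add, map_mul, aeval_X, aeval_C, map_one, Algebra.algebraMap_eq_smul_one,
    conjTranspose_add, conjTranspose_mul, conjTranspose_smul, conjTranspose_one, sq,
    Matrix.add_mul, Matrix.smul_mul, Matrix.one_mul, Matrix.mul_assoc, c, h]
  abel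

theorem rel_cu (h : Nᴴ * N' = 1) (a b c : F) :
    Rel N N' (cu a b c) (C (star c) * X ^ 3 + C (star b) * X ^ 2 + C (star a) * X + 1) := by
  refine ⟨3, ?_⟩
  have c : ∀ Y : Matrix ι ι F, Nᴴ * (N' * Y) = Y := fun Y => by
    rw [← Matrix.mul_assoc, h, Matrix.one_mul]
  simp only [cu, map_add, map_mul, aeval_X, aeval_C, map_one, Algebra.algebraMap_eq_smul_one,
    conjTranspose_add, conjTranspose_mul, conjTranspose_smul, conjTranspose_one, pow_succ,
    pow_zero, Matrix.add_mul, Matrix.smul_mul, Matrix.one_mul, Matrix.mul_assoc, c, h]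
  abel

theorem fp_of {w : F} (hw : w ^ 2 + w + 1 = 0) (h2 : (2 : F) = 0) (hs : star w = w + 1)
    (hd : N.det = 1) {χ : F[X]} (h0 : aeval N χ = 0) {k : ℕ}
    (hk : χ ∣ (qd w w * qd 1 (w + 1) * qd w 1 * cu w 1 (w + 1)) ^ k) : FP N := by
  have hu : IsUnit Nᴴ.det := by rw [det_conjTranspose, hd, star_one]; exact isUnit_one
  have h1 := Matrix.mul_nonsing_inv _ hu
  have hs' : star (w + 1) = w := by rw [star_add, hs, star_one]; linear_combination h2
  have hW : (C w : F[X]) ^ 2 + C w + 1 = 0 := by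
    rw [← map_pow, ← map_add, ← C_1, ← map_add, hw, map_zero]
  have h2' : (2 : F[X]) = 0 := by rw [← map_ofNat C 2, h2, map_zero]
  have e1 : aeval N ((qd w w * qd 1 (w + 1) * qd w 1 * cu w 1 (w + 1)) ^ k) = 0 := by
    obtain ⟨r, hr⟩ := hk
    rw [hr, map_mul, h0, Matrix.zero_mul]
  obtain ⟨l, hl⟩ := ((((rel_qd h1 w w).mul (rel_qd h1 1 (w + 1))).mul (rel_qd h1 w 1)).mul
    (rel_cu h1 w 1 (w + 1))).pow k
  rw [e1, conjTranspose_zero, Matrix.zero_mul] at hl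
  refine fp_of_coprime (IsCoprime.pow ?_) h1 e1 hl
  simp only [qd, cu, hs, hs', star_one, map_add, map_one]
  exact cop_main hW h2'

end poly

theorem big : BigStmt.{u} := by
  intro F _ _ _ hst hF m hm M hM hns hq
  obtain ⟨q, hq1, hq2⟩ := exists_q hst
  obtain rfl : q = 2 := by
    rw [hF] at hq1
    exact (Nat.pow_left_injective two_ne_zero (show 2 ^ 2 = q ^ 2 from hq1)).symm
  have h2 : (2 : F) = 0 := by
    have h0 : ((Fintype.card F : ℕ) : F) = 0 := FiniteField.cast_card_eq_zero F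
    rw [hF] at h0
    exact pow_eq_zero_iff (n := 2) two_ne_zero |>.mp (by push_cast at h0; linear_combination h0)
  have h3 : ∀ a : F, a ≠ 0 → a ^ 3 = 1 := fun a ha => by
    have := FiniteField.pow_card_sub_one_eq_one a ha
    rwa [hF] at this
  have hroot : ∀ a : F, a ≠ 0 → a ≠ 1 → a ^ 2 + a + 1 = 0 := fun a h0 h1 => by
    apply mul_left_cancel₀ (sub_ne_zero.mpr h1)
    linear_combination h3 a h0
  obtain ⟨w, hw0⟩ := hst
  rw [hq2] at hw0
  have w0 : w ≠ 0 := by rintro rfl; simp at hw0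
  have w1 : w ≠ 1 := by rintro rfl; simp at hw0
  have hw := hroot w w0 w1
  have hs : star w = w + 1 := by rw [hq2]; linear_combination hw - (w + 1) * h2
  have hW : (C w : F[X]) ^ 2 + C w + 1 = 0 := by
    rw [← map_pow, ← map_add, ← C_1, ← map_add, hw, map_zero]
  have h2' : (2 : F[X]) = 0 := by rw [← map_ofNat C 2, h2, map_zero]
  have hgen : ∀ a : F, a ≠ 0 → a ≠ 1 → ∀ d : F, d ≠ 0 → ∃ i : ℕ, d * a ^ i = 1 := by
    intro a a0 a1 d d0
    have e : (d - 1) * ((d - a) * (d - a ^ 2)) = 0 := by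
      linear_combination h3 d d0 + (d - d ^ 2) * hroot a a0 a1 + (d - 1) * h3 a a0
    rcases mul_eq_zero.mp e with e | e
    · exact ⟨0, by linear_combination e⟩
    rcases mul_eq_zero.mp e with e | e
    · exact ⟨2, by linear_combination a ^ 2 * e + h3 a a0⟩
    · exact ⟨1, by linear_combination a * e + h3 a a0⟩
  have cC : IsCoprime (qd w 1) (qd w w) := by
    simp only [qd, map_one]; exact cop_C hW h2'
  have eC : (qd w 1).eval w = 1 := by rw [qd_eval]; linear_combination w ^ 2 * h2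
  have eA : (qd w w).eval w = w := by rw [qd_eval]; linear_combination w ^ 2 * h2
  obtain ⟨f, j, hf, hfd, hc, hf0, a0, a1, hdv⟩ : ∃ (f : F[X]) (j : ℕ), f.Monic ∧
      f.natDegree + 2 * j + 2 = m ∧ IsCoprime f (qd w w) ∧ f.eval 0 = w + 1 ∧
      w * f.eval w ≠ 0 ∧ w * f.eval w ≠ 1 ∧ f ∣ qd 1 (w + 1) * cu w 1 (w + 1) := by
    rcases Nat.even_or_odd' m with ⟨j, hj | hj⟩
    · have e : w * (qd 1 (w + 1)).eval w = w + 1 := by
        rw [qd_eval]; linear_combination (w + 1) * hw - (w + 1) * h2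
      refine ⟨qd 1 (w + 1), j - 2, qd_monic _ _, by rw [qd_deg]; omega, ?_, by simp [qd_eval],
        ?_, ?_, dvd_mul_right _ _⟩
      · simp only [qd, map_add, map_one]; exact cop_B hW h2'
      · rw [e]; exact fun e => w1 (by linear_combination e - h2)
      · rw [e]; exact fun e => w0 (by linear_combination e)
    · have e : w * (cu w 1 (w + 1)).eval w = w := by
        rw [cu_eval]; linear_combination (w ^ 4 + w ^ 2) * h2
      refine ⟨cu w 1 (w + 1), j - 2, cu_monic _ _ _, by rw [cu_deg]; omega, ?_, by simp [cu_eval],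
        e.symm ▸ w0, e.symm ▸ w1, dvd_mul_left _ _⟩
      simp only [qd, cu, map_add, map_one]; exact cop_D hW h2'
  have hm' : (f * qd w 1 ^ j).Monic := hf.mul ((qd_monic _ _).pow j)
  have hd' : (f * qd w 1 ^ j).natDegree + 2 = m := by
    rw [hf.natDegree_mul ((qd_monic _ _).pow j), natDegree_pow, qd_deg]; omega
  have hn : finrank F (Fin m → F) = m := by simp
  obtain ⟨E, M₁, M₂, b1, b2, b3, b4, b5⟩ := comm2 (g := Matrix.toLinAlgEquiv' M) (by omega)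
    (fun c hc => hns c (Matrix.toLinAlgEquiv'.injective (by rw [hc, map_smul, map_one])))
    (fun t δ e => by
      by_contra hne
      push Not at hne
      exact hq ⟨t, δ, Matrix.toLinAlgEquiv'.injective (by
        rw [map_mul, e, map_add, map_smul, map_smul, map_one]), hne⟩)
    ((LinearMap.det_toLin' M).trans hM) (f' := f * qd w 1 ^ j) (f'' := qd w w) (t := -w) (δ := w)
    (by rw [qd, map_neg]; ring) hm' ((qd_monic _ _).mul hm')
    (by rw [(qd_monic _ _).natDegree_mul hm', qd_deg]; omega) (by omega)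
    (hc.mul_left cC.pow_left) (by
      rw [neg_eq_of_add_eq_zero_left (show (1 : F) + 1 = 0 by linear_combination h2), one_pow,
        eval_mul, eval_mul, eval_pow, qd_eval, qd_eval, hf0]
      simp only [ne_eq, OfNat.ofNat_ne_zero, not_false_eq_true, zero_pow, mul_zero, add_zero,
        zero_add, one_pow]
      linear_combination hw - h2) (c₀ := w) (by
      rw [eval_mul, eval_mul, eval_pow, eA, eC, one_pow, mul_one]
      exact hgen _ a0 a1)
  obtain ⟨E, rfl⟩ := Matrix.toLinAlgEquiv'.surjective E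
  obtain ⟨M₁, rfl⟩ := Matrix.toLinAlgEquiv'.surjective M₁
  obtain ⟨N, rfl⟩ := Matrix.toLinAlgEquiv'.surjective M₂
  have c1 : E.det = 1 := (LinearMap.det_toLin' E).symm.trans b1
  have c2 : N.det = 1 := (LinearMap.det_toLin' N).symm.trans b2
  have c3 : M = M₁ * N := Matrix.toLinAlgEquiv'.injective (by rw [map_mul, b3])
  have c4 : M₁ * E * N = E := Matrix.toLinAlgEquiv'.injective (by rw [map_mul, map_mul, b4])
  have c5 : N.charpoly = qd w w * (f * qd w 1 ^ j) := (Matrix.charpoly_toLin' N).symm.trans b5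
  have u1 : IsUnit E.det := c1 ▸ isUnit_one
  have u2 : IsUnit N.det := c2 ▸ isUnit_one
  refine ⟨E, E⁻¹, N, N⁻¹, Matrix.mul_nonsing_inv _ u1, c1, c2,
    fp_of hw h2 hs c2 N.aeval_self_charpoly (k := j + 1) ?_,
    Or.inl (Matrix.nonsing_inv_mul _ u2), ?_⟩
  · rw [c5, pow_succ', ← mul_assoc]
    refine mul_dvd_mul ?_ (pow_dvd_pow_of_dvd ((dvd_mul_left _ _).mul_right _) j)
    refine (mul_dvd_mul_left _ hdv).trans ⟨qd w 1, by ring⟩
  · rw [c3]
    congr 1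
    rw [show E * N⁻¹ = M₁ * E * N * N⁻¹ by rw [c4], Matrix.mul_nonsing_inv_cancel_right _ _ u2,
      Matrix.mul_nonsing_inv_cancel_right _ _ u1]

end Cfsg.Agent.H31.OuBig
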