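import Cfsg.Agent.H22.Lev

/-! Project ORESU (S2446), piece BIG, part one: flags and Lev's theorem in codimension two. -/

set_option autoImplicit false

namespace Cfsg.Agent.H31.OuBig

open Module Polynomial Submodule Cfsg.Agent.H76 Cfsg.Agent.H22.Lev

variable {F W : Type*} [Field F] [AddCommGroup W] [Module F W]

theorem scal_mod {T : End F W} {φ : W} (h0 : T φ ∈ span F {φ})
    (h : ∀ ψ, ψ ∉ span F {φ} → T ψ ∈ span F {φ, ψ}) : ∃ c : F, ∀ x, T x - c • x ∈ span F {φ} := by
  have hle : span F {φ} ≤ (span F {φ}).comap T := by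
    rw [span_singleton_le_iff_mem]; exact h0
  obtain ⟨c, hc⟩ := LinearMap.exists_eq_smul_id_of_forall_notLinearIndependent
    (f := (span F {φ}).mapQ (span F {φ}) T hle) fun v => by
      obtain ⟨x, rfl⟩ := (span F {φ}).mkQ_surjective v
      by_cases hx : x ∈ span F {φ}
      · exact fun h1 => h1.ne_zero 0 ((Quotient.mk_eq_zero _).mpr hx)
      · obtain ⟨a, b, e⟩ := mem_span_pair.mp (h x hx)
        rw [mkQ_apply, LinearIndependent.pair_iff' (fun e => hx ((Quotient.mk_eq_zero _).mp e))]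
        push Not
        refine ⟨b, ?_⟩
        rw [mapQ_apply, ← e, ← Quotient.mk_smul, eq_comm, Submodule.Quotient.eq,
          add_sub_cancel_right]
        exact smul_mem _ _ (mem_span_singleton_self φ)
  refine ⟨c, fun x => ?_⟩
  have := LinearMap.congr_fun hc (Submodule.Quotient.mk x)
  rwa [mapQ_apply, LinearMap.smul_apply, Module.End.one_apply, ← Quotient.mk_smul,
    Submodule.Quotient.eq] at this

theorem finrank_pair_le (x y : W) : finrank F (span F {x, y}) ≤ 2 := by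
  classical
  exact (finrank_span_le_card _).trans (by simpa using Finset.card_le_two)

variable [FiniteDimensional F W]

theorem flag_dual {T : End F W} (h3 : 3 ≤ finrank F W) (hns : ∀ c : F, T ≠ c • 1)
    (hq : ∀ t δ : F, T * T = t • T + δ • 1 → ∃ c : F, c * c = t * c + δ) :
    ∃ φ ψ : W, φ ≠ 0 ∧ ψ ∉ span F {φ} ∧ T φ ∈ span F {φ, ψ} ∧ T ψ ∉ span F {φ, ψ} := by
  by_contra hcon
  push Not at hcon
  have hle : ∀ φ ψ : W, span F {φ} ≤ span F {φ, ψ} := fun φ ψ => span_mono (by simp)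
  by_cases he : ∃ φ : W, φ ≠ 0 ∧ T φ ∈ span F {φ}
  · obtain ⟨φ, h0, h1⟩ := he
    obtain ⟨c, hc⟩ := scal_mod h1 fun ψ hψ => hcon φ ψ h0 hψ (hle _ _ h1)
    have hr : LinearMap.range (T - c • 1) ≤ span F {φ} := by
      rintro _ ⟨x, rfl⟩
      exact hc x
    have e1 := LinearMap.finrank_range_add_finrank_ker (T - c • (1 : End F W))
    have e2 := finrank_mono hr
    have e3 := finrank_span_singleton (K := F) h0
    obtain ⟨φ', k1, k2⟩ := exists_notMem (W := span F {φ}) (K := LinearMap.ker (T - c • 1))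
      (by omega)
    have k3 : T φ' = c • φ' := sub_eq_zero.mp k1
    have k0 : φ' ≠ 0 := fun e => k2 (e ▸ zero_mem _)
    have k4 : T φ' ∈ span F {φ'} := k3 ▸ smul_mem _ _ (mem_span_singleton_self _)
    obtain ⟨c', hc'⟩ := scal_mod k4 fun ψ hψ => hcon φ' ψ k0 hψ (hle _ _ k4)
    have e4 := finrank_pair_le (F := F) φ φ'
    obtain ⟨x, -, hx⟩ := exists_notMem (W := span F {φ, φ'}) (K := ⊤) (by rw [finrank_top]; omega)
    have e5 : c' = c := by
      by_contra hne
      have := sub_mem (hle φ φ' (hc x)) (span_mono (t := {φ, φ'}) (by simp) (hc' x))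
      rw [sub_sub_sub_cancel_left, ← sub_smul, smul_mem_iff _ (sub_ne_zero.mpr hne)] at this
      exact hx this
    subst e5
    refine hns c' (LinearMap.ext fun y => sub_eq_zero.mp ?_)
    obtain ⟨a, ha⟩ := mem_span_singleton.mp (hc' y)
    by_cases a0 : a = 0
    · rw [a0, zero_smul] at ha
      exact ha.symm
    · exact absurd ((smul_mem_iff _ a0).mp (ha ▸ hc y)) k2
  push Not at he
  have h2 : ∀ φ : W, T (T φ) ∈ span F {φ, T φ} := fun φ => by
    by_cases h0 : φ = 0
    · simp [h0]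
    · exact hcon φ (T φ) h0 (he φ h0) (subset_span (by simp))
  have hinv : ∀ φ x : W, x ∈ span F {φ, T φ} → T x ∈ span F {φ, T φ} := fun φ x hx => by
    obtain ⟨a, b, rfl⟩ := mem_span_pair.mp hx
    rw [map_add, map_smul, map_smul]
    exact add_mem (smul_mem _ _ (subset_span (by simp))) (smul_mem _ _ (h2 φ))
  have hP : ∀ φ x : W, x ≠ 0 → x ∈ span F {φ, T φ} → span F {x, T x} = span F {φ, T φ} := by
    intro φ x h0 hx
    refine eq_of_le_of_finrank_le (span_le.mpr ?_) ?_
    · rintro _ (rfl | rfl)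
      exacts [hx, hinv φ x hx]
    · have e4 := finrank_pair_le (F := F) φ (T φ)
      have e5 : finrank F (span F {x}) < finrank F (span F {x, T x}) :=
        finrank_lt_finrank_of_lt (lt_of_le_of_ne (hle _ _) fun e =>
          he x h0 (e ▸ subset_span (by simp)))
      rw [finrank_span_singleton h0] at e5
      omega
  have : Nontrivial W := Module.nontrivial_of_finrank_pos (R := F) (by omega)
  obtain ⟨φ, h0⟩ := exists_ne (0 : W)
  obtain ⟨δ, t, e⟩ := mem_span_pair.mp (h2 φ)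
  have hR : ∀ x ∈ span F {φ, T φ}, T (T x) - t • T x - δ • x = 0 := fun x hx => by
    obtain ⟨a, b, rfl⟩ := mem_span_pair.mp hx
    have e' := congrArg T e
    simp only [map_add, map_smul] at e' ⊢
    rw [← e', ← e]
    module
  have hm : ∀ y : W, T (T y) - t • T y - δ • y ∈ span F {y, T y} := fun y =>
    sub_mem (sub_mem (h2 y) (smul_mem _ _ (subset_span (by simp))))
      (smul_mem _ _ (subset_span (by simp)))
  have hall : ∀ y : W, T (T y) - t • T y - δ • y = 0 := by
    intro y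
    by_contra hy
    have a1 := hP y _ hy (hm y)
    have a2 := hP (φ + y) _ hy (by
      have := hm (φ + y)
      have e1 := hR φ (subset_span (by simp))
      convert this using 1
      simp only [map_add, smul_add]
      rw [← zero_add (T (T y) - t • T y - δ • y), ← e1]
      abel)
    have a3 : φ ∈ span F {y, T y} := by
      have b1 : φ + y ∈ span F {y, T y} := by
        rw [← a1, a2]; exact subset_span (by simp)
      simpa using sub_mem b1 (show y ∈ span F {y, T y} from subset_span (by simp))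
    exact hy (hR y (by rw [hP y φ h0 a3]; exact subset_span (by simp)))
  obtain ⟨c, hc⟩ := hq t δ (LinearMap.ext fun y => by
    have := hall y
    rw [sub_sub, sub_eq_zero] at this
    exact this)
  have b0 : T φ - (t - c) • φ ≠ 0 := fun e' => he φ h0 (by
    rw [sub_eq_zero.mp e']; exact smul_mem _ _ (mem_span_singleton_self _))
  refine he _ b0 (mem_span_singleton.mpr ⟨c, ?_⟩)
  rw [map_sub, map_smul, ← e, show δ = c * c - t * c by linear_combination -hc]
  module

theorem flag {g : End F W} (h3 : 3 ≤ finrank F W) (hns : ∀ c : F, g ≠ c • 1)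
    (hq : ∀ t δ : F, g * g = t • g + δ • 1 → ∃ c : F, c * c = t * c + δ) :
    ∃ H U : Submodule F W, H ≤ U ∧ finrank F W = finrank F U + 1 ∧
      finrank F U = finrank F H + 1 ∧ H.map g ≤ U ∧ ¬ H.map g ≤ H := by
  obtain ⟨φ, ψ, h0, h1, h2, h4⟩ := flag_dual (T := g.dualMap) (by rwa [Subspace.dual_finrank_eq])
    (fun c hc => hns c (LinearMap.ext fun x => sub_eq_zero.mp
      ((forall_dual_apply_eq_zero_iff F _).mp fun φ => by
        have := LinearMap.congr_fun (LinearMap.congr_fun hc φ) x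
        simpa [sub_eq_zero] using this)))
    fun t δ e => hq t δ (LinearMap.ext fun x => sub_eq_zero.mp
      ((forall_dual_apply_eq_zero_iff F _).mp fun φ => by
        have := LinearMap.congr_fun (LinearMap.congr_fun e φ) x
        simpa [sub_eq_zero] using this))
  refine ⟨LinearMap.ker φ ⊓ LinearMap.ker ψ, LinearMap.ker φ, inf_le_left,
    (Module.Dual.finrank_ker_add_one_of_ne_zero h0).symm, ?_, ?_, fun h => h4 ?_⟩
  · have e1 := finrank_inf_ker (LinearMap.ker φ) ψ
    have e2 : finrank F (LinearMap.ker φ ⊓ LinearMap.ker ψ : Submodule F W) <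
        finrank F (LinearMap.ker φ) :=
      finrank_lt_finrank_of_lt (lt_of_le_of_ne inf_le_left fun e => h1 (by
        have := mem_span_of_iInf_ker_le_ker (L := fun _ : Unit => φ) (K := ψ) (by
          rw [iInf_const, ← e]; exact inf_le_right)
        rwa [Set.range_const] at this))
    omega
  · rintro _ ⟨x, hx, rfl⟩
    obtain ⟨a, b, e⟩ := mem_span_pair.mp h2
    have := LinearMap.congr_fun e x
    rw [LinearMap.dualMap_apply] at this
    rw [LinearMap.mem_ker, ← this]
    simp [LinearMap.mem_ker.mp hx.1, LinearMap.mem_ker.mp hx.2]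
  · have := mem_span_of_iInf_ker_le_ker (L := ![φ, ψ]) (K := g.dualMap ψ) fun x hx => by
      rw [mem_iInf] at hx
      exact (h ⟨x, ⟨hx 0, hx 1⟩, rfl⟩).2
    rwa [Matrix.range_cons, Matrix.range_cons, Matrix.range_empty, Set.union_empty,
      Set.singleton_union] at this

omit [FiniteDimensional F W] in
theorem gen_two {M : End F W} {H : Submodule F W} {v y : W} (hv : Gen M v H)
    (hsp : ∀ S : Submodule F W, H ≤ S → y ∈ S → M y ∈ S → ⊤ ≤ S) {f' f'' : F[X]}
    (hf : aeval M f' v = 0) (hy : aeval M f'' y ∈ H) (hc : IsCoprime f' f'') :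
    Gen M (v + aeval M f' y) ⊤ ∧ aeval M (f'' * f') (v + aeval M f' y) = 0 := by
  obtain ⟨a, b, hab⟩ := hc
  have hone : ∀ x, aeval M a (aeval M f' x) + aeval M b (aeval M f'' x) = x := fun x => by
    rw [← Module.End.mul_apply, ← Module.End.mul_apply, ← map_mul, ← map_mul,
      ← LinearMap.add_apply, ← map_add, hab, map_one, Module.End.one_apply]
  have hu : aeval M f'' (aeval M f' y) = 0 := by
    rw [← Module.End.mul_apply, ← map_mul, mul_comm, map_mul, Module.End.mul_apply]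
    exact hv.aeval_eq_zero hf hy
  refine ⟨⟨trivial, le_top, fun S hS hM => ?_⟩, ?_⟩
  · have h2 := aeval_mem hM (aeval_mem hM hS f'') b
    rw [map_add, hu, add_zero] at h2
    have h3 : v ∈ S := by
      have := hone v
      rw [hf, map_zero, zero_add] at this
      rwa [this] at h2
    have h4 : H ≤ S := hv.2.2 S h3 hM
    have h5 : aeval M f' y ∈ S := by simpa using S.sub_mem hS h3
    have h6 : y ∈ S := by
      rw [← hone y]
      exact S.add_mem (aeval_mem hM h5 a) (aeval_mem hM (h4 hy) b)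
    exact hsp S h4 h6 (hM ⟨y, h6, rfl⟩)
  · rw [map_add, map_mul, Module.End.mul_apply, hf, map_zero, zero_add, ← map_mul, mul_comm,
      map_mul, Module.End.mul_apply, hu, map_zero]

/-- Lev's theorem in codimension two -/
theorem lev2 [Finite F] {g : End F W} {H U : Submodule F W} (hHU : H ≤ U)
    (hU : finrank F W = finrank F U + 1) (hH : finrank F U = finrank F H + 1) (hgU : H.map g ≤ U)
    (hgH : ¬ H.map g ≤ H) {f₁ f' f'' : F[X]} {t δ : F} (hf'' : f'' = X ^ 2 - C t * X + C δ)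
    (h1 : f₁.Monic) (hd1 : f₁.natDegree = finrank F W) (h' : f'.Monic)
    (hm2 : (f'' * f').Monic) (hd2 : (f'' * f').natDegree = finrank F W)
    (hd' : f'.natDegree = finrank F H) (hc : IsCoprime f' f'') (hg0 : LinearMap.det g ≠ 0)
    (hdet : LinearMap.det g = f₁.eval 0 * (f'' * f').eval 0) :
    ∃ (M₁ M₂ : End F W) (v₁ v₂ : W), g = M₁ * M₂ ∧ Gen M₁ v₁ ⊤ ∧ M₁.charpoly = f₁ ∧
      Gen M₂ v₂ ⊤ ∧ M₂.charpoly = f'' * f' := by
  have hg := injective_of_det hg0
  have hf10 : f₁.eval 0 ≠ 0 := fun h => hg0 (by rw [hdet, h, zero_mul])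
  have hf20 : (f'' * f').eval 0 ≠ 0 := fun h => hg0 (by rw [hdet, h, mul_zero])
  have hδ : δ ≠ 0 := fun h => hf20 (by simp [hf'', h])
  have hK1 := finrank_inf_comap hHU hH hgU
  have hlt : finrank F (H ⊓ H.comap g : Submodule F W) < finrank F H :=
    finrank_lt_finrank_of_lt (lt_of_le_of_ne inf_le_left fun h => hgH (by
      rintro _ ⟨x, hx, rfl⟩
      exact (h.symm ▸ hx : x ∈ H ⊓ H.comap g).2))
  obtain ⟨ξ, a1, a2, a3⟩ := exists_obs hg _ (H ⊓ H.comap g) H inf_le_left rfl (by omega)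
    (by rintro _ ⟨x, hx, rfl⟩; exact hx.2)
  obtain ⟨X₀, v, b1, b2, b3⟩ := place inf_le_left (by omega) a1 a2 h' hd'
  have hgen : ∀ M : End F W, (∀ h ∈ H, M h = X₀ h) → Gen M v H ∧ aeval M f' v = 0 := by
    intro M hM
    have hMH : H.map M ≤ H := by
      rintro _ ⟨x, hx, rfl⟩
      rw [hM x hx]; exact b2.2.1 ⟨x, hx, rfl⟩
    have hp : ∀ i, (M ^ i) v = (X₀ ^ i) v := fun i => by
      induction i with
      | zero => simp
      | succ i ih =>
        rw [pow_succ', pow_succ', Module.End.mul_apply, Module.End.mul_apply, ih,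
          hM _ (pow_mem b2.2.1 b2.1 i)]
    refine ⟨⟨b2.1, hMH, fun S hv hS => ?_⟩, ?_⟩
    · refine (b2.2.2 (S ⊓ H) ⟨hv, b2.1⟩ ?_).trans inf_le_left
      rintro _ ⟨x, hx, rfl⟩
      exact ⟨hM x hx.2 ▸ hS ⟨x, hx.1, rfl⟩, b2.2.1 ⟨x, hx.2, rfl⟩⟩
    · rw [← b3, aeval_eq_sum_range, aeval_eq_sum_range, LinearMap.sum_apply, LinearMap.sum_apply]
      exact Finset.sum_congr rfl fun i _ => by
        rw [LinearMap.smul_apply, LinearMap.smul_apply, hp]
  obtain ⟨h₀, hh₀, he⟩ : ∃ h₀ ∈ H, g h₀ ∉ H := by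
    by_contra h
    push Not at h
    exact hgH (by rintro _ ⟨x, hx, rfl⟩; exact h x hx)
  have heU : g h₀ ∈ U := hgU ⟨h₀, hh₀, rfl⟩
  obtain ⟨y, hy, hgy⟩ : ∃ y, y ∉ U ∧ g y ∉ U := by
    obtain ⟨y₁, -, k1⟩ := exists_notMem (W := U) (K := ⊤) (by rw [finrank_top]; omega)
    obtain ⟨y₂, rfl⟩ := LinearMap.injective_iff_surjective.mp hg y₁
    by_cases k2 : g (g y₂) ∈ U
    · by_cases k3 : y₂ ∈ U
      · refine ⟨g y₂ + y₂, fun h => k1 (by simpa using U.sub_mem h k3), fun h => k1 ?_⟩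
        rw [map_add] at h
        simpa using U.sub_mem h k2
      · exact ⟨y₂, k3, k1⟩
    · exact ⟨g y₂, k1, k2⟩
  obtain ⟨φ₂, p1, p2⟩ := exists_dual hy
  obtain ⟨φ₁, q1, q2, q3⟩ : ∃ φ₁ : Dual F W, (∀ w ∈ H, φ₁ w = 0) ∧ φ₁ (g h₀) = 1 ∧ φ₁ y = 0 := by
    obtain ⟨ψ, k1, k2⟩ := exists_dual he
    exact ⟨ψ - ψ y • φ₂, fun w hw => by simp [k1 w hw, p1 w (hHU hw)], by simp [k2, p1 _ heU],
      by simp [p2]⟩
  generalize hE : g h₀ = e at he heU q2
  have p3 := p1 e heU
  have p4 : ∀ w ∈ H, φ₂ w = 0 := fun w hw => p1 w (hHU hw)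
  have hdec : ∀ x, ∃ w ∈ H, x = w + φ₁ x • e + φ₂ x • y := fun x => by
    obtain ⟨u, hu, c, rfl⟩ := dec (le_top (a := U)) (by rw [finrank_top]; omega) trivial hy
      (mem_top (x := x))
    obtain ⟨w, hw, c', rfl⟩ := dec hHU hH.le heU he hu
    exact ⟨w, hw, by simp [q1 w hw, p4 w hw, q2, q3, p2, p3]⟩
  have hgy' : φ₂ (g y) ≠ 0 := fun h => hgy (by
    obtain ⟨w, hw, e1⟩ := hdec (g y)
    rw [e1, h, zero_smul, add_zero]
    exact U.add_mem (hHU hw) (U.smul_mem _ heU))
  have hext : ∀ A B : End F W, (∀ w ∈ H, A w = B w) → A e = B e → A y = B y → A = B :=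
    fun A B k1 k2 k3 => LinearMap.ext fun x => by
      obtain ⟨w, hw, e1⟩ := hdec x
      rw [e1]
      simp only [map_add, map_smul, k1 w hw, k2, k3]
  have key : ∀ M : End F W, (∀ h ∈ H, M h = X₀ h) → M y - e ∈ H → M e - (t • e - δ • y) ∈ H →
      ∃ u, Gen M u ⊤ ∧ M.charpoly = f'' * f' := by
    intro M k1 k2 k3
    obtain ⟨k4, k5⟩ := hgen M k1
    obtain ⟨k6, k7⟩ := gen_two (y := y) k4 (fun S s1 s2 s3 x _ => by
      obtain ⟨w, hw, e1⟩ := hdec x
      rw [e1]
      exact S.add_mem (S.add_mem (s1 hw) (S.smul_mem _ (by simpa using S.sub_mem s3 (s1 k2))))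
        (S.smul_mem _ s2)) k5 (by
      have := H.sub_mem (H.add_mem (k4.2.1 ⟨_, k2, rfl⟩) k3) (H.smul_mem t k2)
      convert this using 1
      simp only [hf'', map_add, map_sub, map_mul, aeval_X, aeval_C, LinearMap.add_apply,
        LinearMap.sub_apply, Module.End.mul_apply, Module.algebraMap_end_apply, sq, smul_sub]
      abel) hc
    exact ⟨_, k6, k6.charpoly_eq hm2 hd2 k7⟩
  obtain ⟨M', c1, c2, c3⟩ : ∃ M' : End F W, (∀ h ∈ H, M' h = X₀ h) ∧ M' y = e ∧
      M' e = t • e - δ • y :=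
    ⟨X₀ + φ₁.smulRight (t • e - δ • y - X₀ e) + φ₂.smulRight (e - X₀ y),
      fun w hw => by simp [q1 w hw, p4 w hw], by simp [q3, p2], by simp [q2, p3]⟩
  obtain ⟨u', -, c4⟩ := key M' c1 (by simp [c2]) (by simp [c3])
  have hdM' : LinearMap.det M' = (-1) ^ finrank F W * (f'' * f').eval 0 := by
    rw [det_eq_charpoly, c4]
  have hs : ((-1 : F) ^ finrank F W) ≠ 0 := pow_ne_zero _ (neg_ne_zero.2 one_ne_zero)
  have hM'0 : LinearMap.det M' ≠ 0 := by rw [hdM']; exact mul_ne_zero hs hf20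
  have hM'i := injective_of_det hM'0
  have hM'H : ∀ w ∈ H, M' w ∈ H := fun w hw => (hgen M' c1).1.2.1 ⟨w, hw, rfl⟩
  set E' := LinearEquiv.ofInjectiveEndo M' hM'i with hE'
  have hE1 : ∀ x, M' (E'.symm x) = x := fun x => E'.apply_symm_apply x
  have hE2 : ∀ x, E'.symm (M' x) = x := fun x => E'.symm_apply_apply x
  have hE'H : ∀ x ∈ H, E'.symm x ∈ H := fun x hx =>
    mem_of_map_mem hM'i (hgen M' c1).1.2.1 (by rwa [hE1])
  have hE'e : E'.symm e = y := by rw [← c2, hE2]
  have hplace : ∀ k : F, ∃ (M₁ : End F W) (v₁ : W), (∀ w ∈ H, M₁ (M' w) = g w) ∧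
      M₁ e = g y + k • e ∧ Gen M₁ v₁ ⊤ ∧ M₁.charpoly = f₁ := by
    intro k
    obtain ⟨M₁, v₁, d1, d2, d3⟩ := place (T := g ∘ₗ E'.symm.toLinearMap + φ₁.smulRight (k • e))
      (le_top (a := U)) (by rw [finrank_top]; exact hU) le_top (fun S hS hle => by
        have hle0 : ∀ s ∈ S, g (E'.symm s) + φ₁ s • k • e ∈ S := fun s hs => by
          obtain ⟨t, ht, htt⟩ := hle ⟨s, hs, rfl⟩
          have : t = g (E'.symm s) + φ₁ s • k • e := htt
          rwa [← this]
        have h0 : ∀ s ∈ S, φ₁ s = 0 ∧ s ∈ H := fun s hs => by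
          obtain ⟨w, hw, e1⟩ := hdec s
          rw [p1 s (hS hs), zero_smul, add_zero] at e1
          have e2 := p1 _ (hS (hle0 s hs))
          have e3 : E'.symm s = E'.symm w + φ₁ s • y := by
            conv_lhs => rw [e1]
            rw [map_add, map_smul, hE'e]
          rw [e3, map_add, map_add, map_add, p1 _ (hgU ⟨_, hE'H w hw, rfl⟩)] at e2
          simp only [map_smul, p3, smul_eq_mul, mul_zero, zero_add, add_zero] at e2
          have e4 := (mul_eq_zero.mp e2).resolve_right hgy'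
          rw [e4, zero_smul, add_zero] at e1
          exact ⟨e4, e1 ▸ hw⟩
        have hle' : ∀ s ∈ S, g (E'.symm s) ∈ S := fun s hs => by
          simpa [(h0 s hs).1] using hle0 s hs
        have h2 : S.map E'.symm.toLinearMap ≤ H ⊓ H.comap g := by
          rintro _ ⟨s, hs, rfl⟩
          exact ⟨hE'H s (h0 s hs).2, (h0 _ (hle' s hs)).2⟩
        have h3 : (S.map E'.symm.toLinearMap).map g = S := by
          rw [← Submodule.map_comp]
          exact map_eq_of_le (g := g ∘ₗ E'.symm.toLinearMap) (hg.comp E'.symm.injective)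
            (by rintro _ ⟨s, hs, rfl⟩; exact hle' s hs)
        have h4 := a3 _ h2 (by
          rw [h3]
          rintro _ ⟨x, hx, rfl⟩
          rw [← b1 x (h2 hx), ← c1 x (h2 hx).1]
          obtain ⟨s, hs, rfl⟩ := hx
          exact (hE1 s).symm ▸ hs)
        rw [← h3, h4, Submodule.map_bot]) h1 (by rw [finrank_top]; exact hd1)
    refine ⟨M₁, v₁, fun w hw => ?_, ?_, d2, d2.charpoly_eq h1 hd1 d3⟩
    · rw [d1 _ (hHU (hM'H w hw))]
      simp [q1 _ (hM'H w hw), hE2]
    · rw [d1 _ heU]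
      simp [q2, hE'e]
  obtain ⟨N₁, n₁, r1, r2, r3, r4⟩ := hplace 0
  obtain ⟨k, hk⟩ : ∃ k : F, k = (φ₂ (g e) - t * φ₂ (g y)) / δ + φ₂ (N₁ y) := ⟨_, rfl⟩
  obtain ⟨M₁, v₁, d1, d2, d3, hc1⟩ := hplace k
  have htr : k + (φ₂ (M₁ y) - φ₂ (N₁ y)) = 0 := by
    have e1 : M₁ = N₁ + φ₁.smulRight (k • e) + φ₂.smulRight (M₁ y - N₁ y) := by
      refine hext _ _ (fun w hw => ?_) (by simp [q2, p3, d2, r2]) (by simp [q3, p2])
      rw [← hE1 w, d1 _ (hE'H w hw)]
      simp [q1 w hw, p4 w hw, hE1, ← r1 _ (hE'H w hw)]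
    obtain ⟨ε, hε⟩ := (r3.sim_of_charpoly d3 (r4.trans hc1.symm)).conj_eq
    have e2 : LinearMap.trace F W M₁ = LinearMap.trace F W N₁ := by
      rw [← hε, LinearMap.trace_conj']
    have e3 := congrArg (LinearMap.trace F W) e1
    rw [map_add, map_add, LinearMap.trace_smulRight, LinearMap.trace_smulRight, e2, map_smul, q2,
      map_sub, smul_eq_mul, mul_one] at e3
    linear_combination -e3
  have hdM₁ : LinearMap.det M₁ = (-1) ^ finrank F W * f₁.eval 0 := by rw [det_eq_charpoly, hc1]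
  have hM₁i := injective_of_det (M := M₁) (by rw [hdM₁]; exact mul_ne_zero hs hf10)
  set E₁ := LinearEquiv.ofInjectiveEndo M₁ hM₁i with hE₁
  set M₂ : End F W := E₁.symm.toLinearMap ∘ₗ g with hM₂
  have hprod : g = M₁ * M₂ := LinearMap.ext fun x => (E₁.apply_symm_apply (g x)).symm
  have hp' : ∀ x, M₁ (M₂ x) = g x := fun x => by rw [← Module.End.mul_apply, ← hprod]
  clear_value M₂
  have hM₂H : ∀ h ∈ H, M₂ h = M' h := fun h hh => hM₁i (by rw [hp', d1 h hh])
  have hM₂y : M₂ y = e - k • M' h₀ := hM₁i (by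
    rw [hp', map_sub, map_smul, d1 _ hh₀, d2, hE, add_sub_cancel_right])
  obtain ⟨z, hz⟩ : ∃ z, z = E'.symm (M₂ e) := ⟨_, rfl⟩
  have hz' : M' z = M₂ e := by rw [hz, hE1]
  have hτ : M₂ = M' * LinearMap.transvection φ₂ (-(k • h₀)) *
      LinearMap.transvection φ₁ (z - e + φ₂ z • k • h₀) := by
    refine hext _ _ (fun w hw => ?_) ?_ ?_
    · simp [LinearMap.transvection.apply, q1 w hw, p4 w hw, hM₂H w hw]
    · simp [LinearMap.transvection.apply, q2, p3, p4 _ hh₀, hz']
      abel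
    · simp [LinearMap.transvection.apply, q3, p2, c2, hM₂y, sub_eq_add_neg]
  have hdet2 : LinearMap.det M₂ = LinearMap.det M' := by
    have h2 := congrArg LinearMap.det hprod
    rw [map_mul, hdM₁, hdet] at h2
    rw [hdM']
    have h3 : ((-1 : F) ^ finrank F W) * (-1) ^ finrank F W = 1 := by
      rw [← mul_pow]; simp
    apply mul_left_cancel₀ hf10
    linear_combination (-(-1 : F) ^ finrank F W) * h2 - eval 0 f₁ * LinearMap.det M₂ * h3
  have hz1 : φ₁ z = 1 := by
    have h2 := congrArg LinearMap.det hτ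
    rw [map_mul, map_mul, LinearMap.transvection.det, LinearMap.transvection.det, hdet2] at h2
    simp only [map_neg, map_smul, map_add, map_sub, p4 _ hh₀, q1 _ hh₀, q2, smul_eq_mul,
      mul_zero, neg_zero, add_zero, mul_one] at h2
    apply mul_left_cancel₀ hM'0
    linear_combination -h2
  obtain ⟨w, hw, e1⟩ := hdec z
  rw [hz1, one_smul] at e1
  have e2 : M₂ e = M' w + (t • e - δ • y) + φ₂ z • e := by
    rw [← hz']
    conv_lhs => rw [e1]
    rw [map_add, map_add, map_smul, c2, c3]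
  have hz2 : φ₂ z = 0 := by
    have e3 := congrArg φ₂ (hp' e)
    rw [e2] at e3
    simp only [map_add, map_sub, map_smul, d1 w hw, d2, p1 _ (hgU ⟨w, hw, rfl⟩), p3, smul_eq_mul,
      mul_zero, add_zero, zero_add] at e3
    have e4 : δ * k = φ₂ (g e) - t * φ₂ (g y) + δ * φ₂ (N₁ y) := by
      rw [hk]; field_simp
    apply mul_right_cancel₀ hgy'
    linear_combination e3 + δ * htr - e4
  obtain ⟨v₂, k1, k2⟩ := key M₂ (fun h hh => (hM₂H h hh).trans (c1 h hh))
    (by rw [hM₂y, sub_sub_cancel_left]; exact H.neg_mem (H.smul_mem _ (hM'H _ hh₀)))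
    (by rw [e2, hz2, zero_smul, add_zero, add_sub_cancel_right]; exact hM'H w hw)
  exact ⟨M₁, M₂, v₁, v₂, hprod, d3, hc1, k1, k2⟩

end Cfsg.Agent.H31.OuBig
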