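import Cfsg.Agent.H31.PhanLift

/-!
The standard frame of a weak Phan system inside a quotient of `SU₄`.
-/

set_option autoImplicit false

namespace Cfsg.Agent.H31

open Module H73

variable {F : Type*} [Field F] {σ : F →+* F} {V : Type*} [AddCommGroup V] [Module F V]
  {B : V →ₛₗ[σ] V →ₗ[F] F} {V' : Type*} [AddCommGroup V'] [Module F V']
  {B' : V' →ₛₗ[σ] V' →ₗ[F] F} {e f u v w : V} {g g' : V ≃ₗ[F] V} {G : Type*} [Group G]
  {π : (V ≃ₗ[F] V) → G} {φ : (V' ≃ₗ[F] V') → G} {W W₀ W₁ W₂ : Submodule F V}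
  {U U₀ U₁ U₂ : Subgroup G}

/-- `U` is the image of `SU(W)` -/
def IsImg (B : V →ₛₗ[σ] V →ₗ[F] F) (π : (V ≃ₗ[F] V) → G) (W : Submodule F V) (U : Subgroup G) :
    Prop := ∀ x, x ∈ U ↔ ∃ g ∈ suOn B W, π g = x

theorem IsImg.mem (h : IsImg B π W U) (hg : g ∈ suOn B W) : π g ∈ U := (h _).mpr ⟨g, hg, rfl⟩

/-- the image of the stabiliser of a vector -/
noncomputable def Cov.fix (h : Cov B π) (v : V) : Subgroup G :=
  (h.hom.mono (inf_le_left (b := MulAction.stabilizer (V ≃ₗ[F] V) v))).img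

theorem Cov.mem_fix (h : Cov B π) (hg : g ∈ sisom B) (hv : g v = v) : π g ∈ h.fix v :=
  ⟨g, ⟨hg, hv⟩, rfl⟩

theorem Cov.conj_mem_fix (h : Cov B π) (hg : g ∈ sisom B) {x : G} (hx : x ∈ h.fix v) :
    π g * x * (π g)⁻¹ ∈ h.fix (g v) := by
  obtain ⟨a, ha, rfl⟩ := hx
  rw [← h.hom.conj hg ha.1]
  refine h.mem_fix (mul_mem (mul_mem hg ha.1) (inv_mem hg)) ?_
  rw [LinearEquiv.mul_apply, LinearEquiv.mul_apply, inv_apply_apply, show a v = v from ha.2]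

theorem IsImg.le_fix (h : Cov B π) (hU : IsImg B π W U) (hv : v ∈ perp B W) : U ≤ h.fix v := by
  intro x hx
  obtain ⟨g, hg, rfl⟩ := (hU x).mp hx
  exact h.mem_fix hg.1 (hg.2 v hv)

theorem IsHerm.tv_ne_one (h : IsHerm B) {c : F} (hu : B u u = 0) (hc : c + σ c = 0) (hu0 : u ≠ 0)
    (hc0 : c ≠ 0) : tv B u c hu hc ≠ 1 := by
  obtain ⟨f, hp⟩ := h.exists_hypPair hu hu0
  exact (isEich_tv hu hc).ne_one_of_hyp hp hc0

variable [FiniteDimensional F V]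

theorem tv_mem_suOn (h : IsHermSymm B) {c : F} (hu : B u u = 0) (hc : c + σ c = 0) (huW : u ∈ W) :
    tv B u c hu hc ∈ suOn B W := ⟨h.tv_mem_sisom hu hc, tv_mem_fixOn_perp hu hc huW⟩

theorem Cov.eq_one_of_mem_suOn (hπ : Cov B π) (h : IsHerm B) (hW : finrank F W < finrank F V)
    (hg : g ∈ suOn B W) (h1 : π g = 1) : g = 1 := by
  obtain ⟨a, ha⟩ := hπ.ker g hg.1 h1
  obtain ⟨x, hx, hx0⟩ := (perp B W).exists_mem_ne_zero_of_ne_bot fun h0 => by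
    have := h.finrank_perp W
    rw [h0, finrank_bot] at this
    omega
  have h2 : a = 1 := smul_left_injective F hx0 (by simp only [← ha, hg.2 x hx, one_smul])
  exact LinearEquiv.ext fun x => by rw [ha, h2, one_smul]; rfl

variable [Finite F]

theorem Cov.mem_perp_of_le_fix (hπ : Cov B π) (h : IsHerm B) (hW : NondegOn B W)
    (h2 : 2 ≤ finrank F W) (hU : ∀ g ∈ suOn B W, π g ∈ hπ.fix v) : v ∈ perp B W := by
  have hs := h.toIsHermSymm
  obtain ⟨p, _⟩ := CharP.exists F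
  have : Fact p.Prime := ⟨CharP.char_is_prime F p⟩
  by_cases hv : v = 0
  · exact hv ▸ zero_mem _
  obtain ⟨ω, hω0, hω⟩ := h.inv.exists_skew'
  refine fun x hx => hs.flip_zero (mem_perp_span_singleton.mp
    (h.le_of_isotropic_mem hW h2 (fun u hu hu' => mem_perp_span_singleton.mpr ?_) hx))
  have ht := tv_mem_suOn hs hu' hω hu
  obtain ⟨g, hg, h3⟩ := hU _ ht
  obtain ⟨a, ha⟩ := hπ.exists_smul ht.1 hg.1 h3.symm
  have h4 := ha v
  rw [show g v = v from hg.2] at h4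
  rw [eigen_one (p := p) (tr_tv hu' hω).isPElt hv h4, one_smul, tv_apply, add_eq_left,
    smul_eq_zero, mul_eq_zero, or_iff_right hω0] at h4
  rcases h4 with h4 | rfl
  exacts [hs.flip_zero h4, map_zero _]

theorem Cov.mem_stab_of_norm (hπ : Cov B π) (h : IsHerm B) (hW : NondegOn B W)
    (h2 : 2 ≤ finrank F W) (hU : IsImg B π W U) (hg : g ∈ sisom B)
    (hn : ∀ x ∈ U, (π g)⁻¹ * x * π g ∈ U) : g ∈ stab W :=
  (h.mem_stab_perp_iff hg.1).mp (mem_stab_of_le fun v hv =>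
    hπ.mem_perp_of_le_fix h hW h2 fun a ha => by
      simpa [mul_assoc] using hπ.conj_mem_fix hg (hU.le_fix hπ hv (hn _ (hU.mem ha))))

theorem Cov.le_perp_of_comm (hπ : Cov B π) (h : IsHerm B) (hW₀ : NondegOn B W₀)
    (h0 : 2 ≤ finrank F W₀) (hW₂ : NondegOn B W₂) (h2 : 2 ≤ finrank F W₂) (hU₀ : IsImg B π W₀ U₀)
    (hU₂ : IsImg B π W₂ U₂) (hc : ∀ x ∈ U₀, ∀ y ∈ U₂, x * y = y * x) : W₂ ≤ perp B W₀ := by
  have hs := h.toIsHermSymm
  obtain ⟨p, _⟩ := CharP.exists F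
  have : Fact p.Prime := ⟨CharP.char_is_prime F p⟩
  obtain ⟨ω, hω0, hω⟩ := h.inv.exists_skew'
  refine h.le_of_isotropic_mem hW₂ h2 fun u hu hu' x hx => hs.flip_zero
    (mem_perp_span_singleton.mp (h.le_of_isotropic_mem hW₀ h0
      (fun w hw hw' => mem_perp_span_singleton.mpr ?_) hx))
  by_cases hu0 : u = 0
  · rw [hu0, zero_left]
  by_cases hw0 : w = 0
  · rw [hw0, map_zero]
  have h3 := tv_mem_suOn hs hu' hω hu
  have h4 := tv_mem_suOn hs hw' hω hw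
  exact (tr_tv hu' hω).perp_of_comm hs (tr_tv hw' hω) (h.tv_ne_one hu' hω hu0 hω0)
    (h.tv_ne_one hw' hω hw0 hω0) (hπ.comm_of_isPElt (p := p) h3.1 h4.1 (tr_tv hu' hω).isPElt
      (hc _ (hU₀.mem h4) _ (hU₂.mem h3)).symm)

theorem Cov.exists_plane [FiniteDimensional F V'] (hπ : Cov B π) (hφ : Cov B' φ) (h : IsHerm B)
    (h' : IsHerm B') (hK : ∀ b : F, σ b = b → ∃ n : ℕ, b = n)
    (hT : ∀ e₀, B' e₀ e₀ = 0 → e₀ ≠ 0 → ∃ e, ∃ t ∈ sisom B', ∃ t' ∈ sisom B,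
      Tr B' e₀ t ∧ t ≠ 1 ∧ Tr B e t' ∧ t' ≠ 1 ∧ π t' = φ t) {W' : Submodule F V'}
    (hW' : NondegOn B' W') (h2 : finrank F W' = 2) (hU : IsImg B' φ W' U) :
    ∃ W, NondegOn B W ∧ finrank F W = 2 ∧ IsImg B π W U := by
  have hs := h.toIsHermSymm
  have hs' := h'.toIsHermSymm
  obtain ⟨p, _⟩ := CharP.exists F
  have : Fact p.Prime := ⟨CharP.char_is_prime F p⟩
  obtain ⟨x, y, hx, hy, hxy, hW⟩ := h'.exists_hyperbolic_basis hW' h2
  have hxW : x ∈ W' := hW ▸ Submodule.subset_span (by simp)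
  have hyW : y ∈ W' := hW ▸ Submodule.subset_span (by simp)
  obtain ⟨e, s, s1, s', s2, s3, s4, s5, s6, s7⟩ := hT x hx (by rintro rfl; simp at hxy)
  obtain ⟨f, t, t1, t', t2, t3, t4, t5, t6, t7⟩ := hT y hy (by rintro rfl; simp at hxy)
  have hef : B e f ≠ 0 := fun hef => by
    have := s3.perp_of_comm hs' t3 s4 t4 (hφ.comm_of_isPElt (p := p) s1 t1 s3.isPElt (by
      rw [← s7, ← t7, ← hπ.hom _ s2 _ t2, s5.comm_of_perp hs t5 hef, hπ.hom _ t2 _ s2]))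
    rw [hxy] at this
    exact one_ne_zero this
  have hc : Col B e f := by
    rw [Col, s5.1, zero_mul, zero_sub, neg_ne_zero]
    exact mul_ne_zero hef (hs.flip_ne_zero hef)
  have hW1 := hs.nondegOn_span_pair hc
  have hW2 := finrank_span_pair_of_gram hc
  have heW : e ∈ Submodule.span F {e, f} := Submodule.subset_span (by simp)
  have hfW : f ∈ Submodule.span F {e, f} := Submodule.subset_span (by simp)
  refine ⟨_, hW1, hW2, fun z => ⟨fun hz => ?_, ?_⟩⟩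
  · obtain ⟨g, hg, rfl⟩ := (hU z).mp hz
    refine (h'.suOn_le_of_pair hW' h2 hxW hyW hx hy (by rw [hxy]; exact one_ne_zero)
      (K := hφ.hom.comap (hπ.hom.mono suOn_le_sisom).img) (fun c _ hc => ?_) (fun c _ hc => ?_)
      hg).2
    · obtain ⟨n, hn⟩ := s3.exists_pow h' hK s1.1 s4 hx hc
      rw [hn]
      refine Subgroup.pow_mem _ ?_ n
      exact ⟨s1, s', s5.mem_suOn s2 heW, s7⟩
    · obtain ⟨n, hn⟩ := t3.exists_pow h' hK t1.1 t4 hy hc
      rw [hn]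
      refine Subgroup.pow_mem _ ?_ n
      exact ⟨t1, t', t5.mem_suOn t2 hfW, t7⟩
  · rintro ⟨g, hg, rfl⟩
    refine (h.suOn_le_of_pair hW1 hW2 heW hfW s5.1 t5.1 hef (K := hπ.hom.comap U)
      (fun c _ hc => ?_) (fun c _ hc => ?_) hg).2
    · obtain ⟨n, hn⟩ := s5.exists_pow h hK s2.1 s6 s5.1 hc
      rw [hn]
      refine Subgroup.pow_mem _ ?_ n
      exact ⟨s2, s7 ▸ hU.mem (s3.mem_suOn s1 hxW)⟩
    · obtain ⟨n, hn⟩ := t5.exists_pow h hK t2.1 t6 t5.1 hc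
      rw [hn]
      refine Subgroup.pow_mem _ ?_ n
      exact ⟨t2, t7 ▸ hU.mem (t3.mem_suOn t1 hyW)⟩

omit [Finite F] in
theorem ONSeq.Iv_eq {m i k : ℕ} {e : ℕ → V} (he : ONSeq B m e) (hk : i + k ≤ m)
    (hW : finrank F W = k) (h1 : ∀ l, i ≤ l → l < i + k → e l ∈ W) : Iv F e i k = W :=
  Submodule.eq_of_le_of_finrank_eq (Iv_le.mpr h1) (by rw [he.finrank_Iv hk, hW])

theorem IsHerm.exists_un_perp_one (h : IsHerm B) (hW : NondegOn B W) (h2 : 2 ≤ finrank F W)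
    (hv : Un B W v) : ∃ u, Un B W u ∧ B v u = 0 := by
  obtain ⟨u, h1, h3⟩ := h.exists_un_perp hW (nondegOn_span_singleton hv.ne)
    ((Submodule.span_singleton_le_iff_mem v W).mpr hv.1)
    (by rw [finrank_span_singleton (ne_zero_of_norm hv.ne)]; omega)
  exact ⟨u, h1, mem_perp_span_singleton.mp h3⟩

theorem IsHerm.eq_zero_of_fix_plane (h : IsHerm B) (hW : NondegOn B W) (h2 : finrank F W = 2)
    (hg : g ∈ suOn B W) {n : ℕ} (hn : (n : F) ≠ 0) (h1 : g ^ n = 1) (h1' : g ≠ 1) (hw : w ∈ W)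
    (hgw : g w = w) : w = 0 := by
  have hs := h.toIsHermSymm
  by_contra hw0
  by_cases hww : B w w = 0
  · obtain ⟨w', hw', h3, h4⟩ := hs.exists_hyperbolic_of_nondegOn hW hww hw0 hw
    have h4' : B w w' ≠ 0 := by rw [h4]; exact one_ne_zero
    obtain ⟨a, b, h5⟩ := hs.exists_coords_plane h2 hw hw' hww h4' (h.suOn_apply_mem hg hw')
    have h6 : b = 1 := by
      have := hg.1.1 w w'
      rwa [hgw, h5, map_add, smul_right, smul_right, hww, h4, mul_zero, zero_add, mul_one] at this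
    refine h1' (Tr.eq_one_of_pow (B := B) (e := w) ⟨hww, a, fun x => ?_⟩ hn h1)
    obtain ⟨y, hy, z, hz, rfl⟩ := h.exists_add_perp hW x
    obtain ⟨s, t, rfl⟩ := hs.exists_coords_plane h2 hw hw' hww h4' hy
    simp only [map_add, map_smul, hgw, h5, h6, hg.2 z hz, smul_eq_mul, hww, h4, hz w hw]
    module
  obtain ⟨s, -, hw'⟩ := hs.exists_un_of_avoid hw hww
  have hgw' : g (s • w) = s • w := by rw [map_smul, hgw]
  generalize s • w = w at *
  obtain ⟨u, hu, hwu⟩ := h.exists_un_perp_one hW h2.ge hw'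
  have he : ONSeq B 2 (seq4 u w w w) := fun i hi j hj => by
    have := hs.flip_zero hwu
    interval_cases i <;> interval_cases j <;> simp [seq4, hu.2, hw'.2, *]
  rw [← he.Iv_eq (i := 0) le_rfl h2 fun l _ hl => by
    interval_cases l
    exacts [hu.1, hw'.1]] at hg
  obtain ⟨-, h5, -⟩ := he.two_shape h (by omega) hg
  refine h1' (he.two_ext h (by omega) hg (one_mem _) ?_ ?_)
  · change B w (g w) = σ (B u (g u)) at h5
    change B u (g u) = B u u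
    rw [← h.inv.invol (B u (g u)), ← h5, hgw', hw'.2, hu.2, map_one]
  · change B u (g w) = B u w
    rw [hgw']

theorem Cov.exists_frame (hπ : Cov B π) (h : IsHerm B) (h4 : finrank F V = 4)
    (hW₀ : NondegOn B W₀) (h0 : finrank F W₀ = 2) (hW₁ : NondegOn B W₁) (h1 : finrank F W₁ = 2)
    (hW₂ : NondegOn B W₂) (h2 : finrank F W₂ = 2) (hU₀ : IsImg B π W₀ U₀) (hU₁ : IsImg B π W₁ U₁)
    (hU₂ : IsImg B π W₂ U₂) (hc : ∀ x ∈ U₀, ∀ y ∈ U₂, x * y = y * x)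
    (hnc : ¬ ∀ x ∈ U₀, ∀ y ∈ U₁, x * y = y * x) (hne : ¬ U₁ ≤ U₀) {d : G} (hd' : d ∈ U₁)
    (hd1 : d ≠ 1) {n : ℕ} (hn : (n : F) ≠ 0) (hdn : d ^ n = 1) (hd0 : ∀ x ∈ U₀, d⁻¹ * x * d ∈ U₀) :
    ∃ f, ONSeq B 4 f ∧ Iv F f 0 2 = W₀ ∧ Iv F f 1 2 = W₁ ∧ Iv F f 2 2 = W₂ := by
  have hs := h.toIsHermSymm
  have h3 : W₂ = perp B W₀ := Submodule.eq_of_le_of_finrank_eq
    (hπ.le_perp_of_comm h hW₀ h0.ge hW₂ h2.ge hU₀ hU₂ hc) (by rw [h.finrank_perp, h4, h0, h2])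
  obtain ⟨d, hd, rfl⟩ := (hU₁ d).mp hd'
  have h5 := hπ.mem_stab_of_norm h hW₀ h0.ge hU₀ hd.1 hd0
  have h6 : d ∈ stab W₂ := h3 ▸ mem_stab_perp hd.1.1 h5
  have h7 : ∀ x, d x - x ∈ W₁ := fun x => h.perp_perp W₁ ▸ fun z hz => by
    rw [map_sub, isom_adj' hd.1.1, (inv_mem hd).2 z hz, sub_self]
  have h8 : ∀ W, d ∈ stab W → ¬ W ≤ perp B W₁ → ∃ x ∈ W, x ∈ W₁ ∧ x ≠ 0 := fun W hW hW' => by
    by_contra h9
    push Not at h9
    refine hW' fun x hx => ?_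
    obtain ⟨y, hy, z, hz, rfl⟩ := h.exists_add_perp hW₁ x
    have h10 := h9 _ (sub_mem ((hW _).mp hx) hx) (h7 _)
    rw [map_add, hd.2 z hz, add_sub_add_right_eq_sub, sub_eq_zero] at h10
    rw [h.eq_zero_of_fix_plane hW₁ h1 hd hn (hπ.eq_one_of_mem_suOn h (by omega) (pow_mem hd n)
      (by rw [hπ.hom.pow hd.1, hdn])) (fun h11 => hd1 (by rw [h11, hπ.hom.one])) hy h10, zero_add]
    exact hz
  obtain ⟨a, ha0, ha1, ha⟩ := h8 W₀ h5 fun h9 => hnc fun x hx' y hy' => by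
    obtain ⟨x, hx, rfl⟩ := (hU₀ x).mp hx'
    obtain ⟨y, hy, rfl⟩ := (hU₁ y).mp hy'
    rw [← hπ.hom _ hx.1 _ hy.1, ← h.commute_suOn hW₁ hy (suOn_mono h9 hx), hπ.hom _ hy.1 _ hx.1]
  obtain ⟨b, hb2, hb1, hb⟩ := h8 W₂ h6 fun h9 => hne fun x hx' => by
    obtain ⟨x, hx, rfl⟩ := (hU₁ x).mp hx'
    exact hU₀.mem (suOn_mono (h.perp_le_perp_iff.mp (h3 ▸ h9)) hx)
  have h9 : ∀ x ∈ W₀, ∀ y ∈ W₂, B x y = 0 := fun x hx y hy => (h3 ▸ hy : y ∈ perp B W₀) x hx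
  have hab := h9 a ha0 b hb2
  obtain ⟨s, -, ha'⟩ := hs.exists_un_of_avoid (E := W₀ ⊓ W₁) ⟨ha0, ha1⟩ fun haa => by
    obtain ⟨c, rfl⟩ := hs.mem_span_of_perp hW₁ h1 ha1 ha haa hb1 hab
    exact hb (hW₀ _ (W₀.smul_mem c ha0) fun y hy => hs.flip_zero (h9 y hy _ hb2))
  obtain ⟨t, -, hb'⟩ := hs.exists_un_of_avoid (E := W₂ ⊓ W₁) ⟨hb2, hb1⟩ fun hbb => by
    obtain ⟨c, rfl⟩ := hs.mem_span_of_perp hW₁ h1 hb1 hb hbb ha1 (hs.flip_zero hab)
    exact ha (hW₂ _ (W₂.smul_mem c hb2) fun y hy => h9 _ ha0 y hy)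
  generalize s • a = f₁ at ha'
  generalize t • b = f₂ at hb'
  obtain ⟨f₀, k0, k1⟩ := h.exists_un_perp_one hW₀ h0.ge (ha'.mono inf_le_left)
  obtain ⟨f₃, k2, k3⟩ := h.exists_un_perp_one hW₂ h2.ge (hb'.mono inf_le_left)
  have he := hs.onSeq_four k0.2 ha'.2 hb'.2 k2.2 (hs.flip_zero k1) (h9 _ k0.1 _ hb'.1.1)
    (h9 _ k0.1 _ k2.1) (h9 _ ha'.1.1 _ hb'.1.1) (h9 _ ha'.1.1 _ k2.1) k3
  refine ⟨_, he, he.Iv_eq (by omega) h0 fun l _ _ => ?_, he.Iv_eq (by omega) h1 fun l _ _ => ?_,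
    he.Iv_eq (by omega) h2 fun l _ _ => ?_⟩ <;> interval_cases l
  exacts [k0.1, ha'.1.1, ha'.1.2, hb'.1.2, hb'.1.1, k2.1]

/-- `SU(E)` is generated by its `p`-elements when `E` has dimension three -/
theorem IsHerm.suOn_le_of_isPElt (h : IsHerm B) {E : Submodule F V} (hE : NondegOn B E)
    (h3 : finrank F E = 3) {K : Subgroup (V ≃ₗ[F] V)}
    (hK : ∀ g ∈ suOn B E, IsPElt (ringChar F) g → g ∈ K) : suOn B E ≤ K := by
  have hs := h.toIsHermSymm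
  have := Fintype.ofFinite F
  obtain ⟨q, hF, hσ⟩ := h.inv.exists_q
  have hT : ∀ u ∈ E, HasTv B (K ⊓ suOn B E) u := fun u hu c h1 h2 =>
    ⟨hK _ (tv_mem_suOn hs h1 h2 hu) (tr_tv h1 h2).isPElt, tv_mem_suOn hs h1 h2 hu⟩
  obtain ⟨v, hv, -⟩ := h.exists_un_perp hE nondegOn_bot bot_le (by rw [finrank_bot]; omega)
  obtain ⟨h1, h2⟩ := h.nondeg_perp_un hE hv
  intro g hg
  have hw := h.un_map hg hv
  obtain ⟨k, hk, e⟩ : ∃ k ∈ K ⊓ suOn B E, k v = g v := by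
    generalize g v = w at hw
    by_cases hc : Col B v w
    · exact h.exists_map_gram hT hv.1 hw.1 (hv.2.trans hw.2.symm) hv.ne hc
    rw [Col, not_not, hv.2, hw.2, ← hs.symm v w] at hc
    generalize ha : B v w = a at hc
    have hwv : B w v = σ a := by rw [← ha, hs.symm]
    have h4 : a * σ a = 1 := by linear_combination -hc
    obtain ⟨P, hP1, hP2, hP3, hP4⟩ := h.exists_plane hE (by omega) hv.1 hv.ne
    obtain ⟨k, hk, e⟩ := h.exists_map_plane hP3 hP4 (fun u hu => hT u (hP1 hu)) hP2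
      (P.smul_mem a hP2) (by rw [hs.norm_smul, h4, one_mul]) hv.ne
    have h5 : B v (w - a • v) = 0 := by rw [map_sub, smul_right, ha, hv.2, mul_one, sub_self]
    have h6 : B (w - a • v) (w - a • v) = 0 := by
      rw [sub_left, smul_left, h5, map_sub, smul_right, hw.2, hwv, h4, mul_zero, sub_self, sub_zero]
    have h7 : w - a • v ∈ E := sub_mem hw.1 (E.smul_mem a hv.1)
    rw [← sub_add_cancel w (a • v)]
    generalize w - a • v = r at h5 h6 h7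
    by_cases hr : r = 0
    · exact ⟨k, hk, by rw [e, hr, zero_add]⟩
    have h8 : B r (-(a • v)) = 0 := by rw [map_neg, smul_right, hs.flip_zero h5, mul_zero, neg_zero]
    obtain ⟨c, hc⟩ := hs.inv.exists_trace_eq (a := -B (-(a • v)) (-(a • v)))
      (by rw [map_neg, hs.norm_fixed])
    obtain ⟨k', hk', h9⟩ := hs.exists_isEich h6 h8 (c := c) (by rw [hc, neg_add_cancel])
    have h10 : k' ∈ suOn B E := ⟨hk'.1, fun x hx => by
      rw [h9, hx r h7, hx _ (neg_mem (E.smul_mem a hv.1))]; simp⟩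
    refine ⟨k' * k, mul_mem ⟨hK _ h10 (.of_mem (isPGroup_uniRad hF hσ h h6 hr) hk'), h10⟩ hk, ?_⟩
    rw [LinearEquiv.mul_apply, e, h9.apply_of_perp (by rw [smul_right, hs.flip_zero h5, mul_zero]),
      neg_left, hs.norm_smul, h4, hv.2, add_comm]
    simp
  have h4 : k⁻¹ * g ∈ suFix B E v := ⟨(suOn B E).mul_mem ((suOn B E).inv_mem hk.2) hg, by
    change (k⁻¹ * g) v = v
    rw [LinearEquiv.mul_apply, ← e, inv_apply_apply]⟩
  rw [h.suFix_eq hv.1] at h4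
  simpa using mul_mem hk.1 (h.mem_of_hasTv hE h1 inf_le_left hT (Or.inr (Or.inr (by omega)))
    h4.1 h4.2).1

omit [Finite F] in
theorem ONSeq.hasTv_three {m i : ℕ} {e : ℕ → V} (h : IsHerm B) (he : ONSeq B m e) (hi : i + 3 ≤ m)
    (hq : ∀ a : F, σ a = a → a = 0 ∨ a = 1) {K : Subgroup (V ≃ₗ[F] V)}
    (h1 : suOn B (Iv F e i 2) ≤ K) (h2 : suOn B (Iv F e (i + 1) 2) ≤ K) :
    ∀ u ∈ Iv F e i 3, HasTv B K u := by
  have hs := h.toIsHermSymm
  intro u hu c huu hc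
  have h3 := he.expand hi hu
  have h4 := form_sum_sum (he.isON hi) (fun r => B (e (i + r)) u) fun r => B (e (i + r)) u
  rw [← h3, huu] at h4
  simp only [Fin.sum_univ_three, Fin.val_zero, Fin.val_one, Fin.val_two, add_zero] at h3 h4
  generalize B (e i) u = x at h3 h4
  generalize B (e (i + 1)) u = y at h3 h4
  generalize B (e (i + 2)) u = z at h3 h4
  have h5 : ∀ a : F, a ≠ 0 → σ a * a = 1 := fun a ha =>
    (hq _ (by rw [map_mul, hs.inv.invol, mul_comm])).resolve_left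
      (mul_ne_zero ((map_ne_zero σ).mpr ha) ha)
  have m0 : e i ∈ Iv F e i 2 := mem_Iv le_rfl (by omega)
  have m1 : e (i + 1) ∈ Iv F e i 2 := mem_Iv (by omega) (by omega)
  by_cases hx : x = 0
  · refine hasTv_of_suOn hs h2 ?_ c huu hc
    rw [h3, hx, zero_smul, zero_add]
    exact add_mem (Submodule.smul_mem _ _ (mem_Iv (by omega) (by omega)))
      (Submodule.smul_mem _ _ (mem_Iv (by omega) (by omega)))
  by_cases hz : z = 0
  · refine hasTv_of_suOn hs h1 ?_ c huu hc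
    rw [h3, hz, zero_smul, add_zero]
    exact add_mem (Submodule.smul_mem _ _ m0) (Submodule.smul_mem _ _ m1)
  by_cases hy : y = 0
  · obtain ⟨s, s0, s1, -⟩ := he.exists_swap h (i := i + 1) (by omega)
    have := (hasTv_of_suOn hs h1 (add_mem (Submodule.smul_mem _ x m0)
      (Submodule.smul_mem _ z m1))).map s0.1.1 (h2 s0)
    rw [map_add, map_smul, map_smul, s1, he.fix (by omega) s0 (by omega) (by omega)] at this
    rw [hy, zero_smul, add_zero] at h3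
    subst h3
    exact this c huu hc
  rw [h5 x hx, h5 y hy, h5 z hz, one_add_one_of_fixed hq, zero_add] at h4
  exact (zero_ne_one h4).elim

end Cfsg.Agent.H31
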