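import Cfsg.Agent.H58.Q4K
import Cfsg.Agent.H85.Basic

/-!
# At most two elementary abelian subgroups of index four
-/

set_option autoImplicit false
set_option linter.unusedSectionVars false

namespace Cfsg.Agent.H31.Q4E8a

open Subgroup Cfsg.Agent.H58.Q4 Cfsg.Agent.H85

universe u

variable {G : Type u} [Group G] [Finite G]

theorem cimr (H K : Subgroup G) : Nat.card ↥(H ⊓ K) * H.relIndex K = Nat.card K := by
  rw [← card_mul_index (H.subgroupOf K), ← inf_subgroupOf_right,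
    Nat.card_congr (subgroupOfEquivOfLe inf_le_right).toEquiv, inf_subgroupOf_right]
  rfl

/-- An element of order three fixes a point of an invariant set of size prime to three. -/
theorem exists_fixed {c : G} (hc : c ^ 3 = 1) (S : Set G) (hS : ∀ x ∈ S, c * x * c⁻¹ ∈ S)
    (h3 : ¬ 3 ∣ Nat.card S) : ∃ x ∈ S, Commute c x := by
  classical
  have := Fintype.ofFinite S
  have : Fact (Nat.Prime 3) := ⟨Nat.prime_three⟩
  let f : S → S := fun x => ⟨c * x * c⁻¹, hS _ x.2⟩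
  have hf : ∀ x, f (f (f x)) = x := fun x => Subtype.ext (by
    change c * (c * (c * x * c⁻¹) * c⁻¹) * c⁻¹ = x
    calc _ = c ^ 3 * x * (c ^ 3)⁻¹ := by simp only [pow_succ, pow_zero]; group
      _ = x := by rw [hc]; group)
  let σ : Equiv.Perm S := ⟨f, fun x => f (f x), hf, hf⟩
  obtain ⟨a, ha⟩ := Equiv.Perm.exists_fixed_point_of_prime (p := 3) (n := 1) (σ := σ)
    (by rwa [← Nat.card_eq_fintype_card]) (Equiv.ext fun x => hf x)
  exact ⟨a, a.2, mul_inv_eq_iff_eq_mul.1 (congrArg Subtype.val ha)⟩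

/-- An elementary abelian subgroup of `P` of order `|Q|`, different from `Q`. -/
structure Oth (P Q A : Subgroup G) : Prop where
  le : A ≤ P
  comm : ∀ a ∈ A, ∀ b ∈ A, Commute a b
  sq : ∀ a ∈ A, a * a = 1
  card : Nat.card A = Nat.card Q
  ne : A ≠ Q

theorem Oth.inf_le {P Q Z A : Subgroup G} (hC : ∀ a ∈ P, a ∉ Q → Q ⊓ Ce a = Z) (h : Oth P Q A) :
    Q ⊓ A ≤ Z := by
  obtain ⟨a, ha, haQ⟩ := SetLike.not_le_iff_exists.1 fun k : A ≤ Q =>
    h.ne (eq_of_le_of_card_ge k h.card.ge)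
  rw [← hC a (h.le ha) haQ]
  exact fun x hx => ⟨hx.1, mem_Ce.2 (h.comm _ hx.2 _ ha)⟩

theorem uniq {P Q Z A B : Subgroup G} (hQ : Q ≤ P) (hn : P ≤ Nm Q) (sq : ∀ a ∈ Q, a * a = 1)
    (idx : Q.relIndex P = 4) (hZ : Nat.card Z ^ 2 = Nat.card Q) (h4 : 4 ≤ Nat.card Z)
    (hC : ∀ a ∈ P, a ∉ Q → Q ⊓ Ce a = Z) (hA : Oth P Q A) (hB : Oth P Q B) : B = A := by
  have a1 := hA.inf_le hC
  have a2 := card_le_of_le a1
  have a3 := cimr Q A
  have a4 : Q.relIndex A ≤ 4 := idx ▸ relIndex_le_of_le_right hA.le (by omega)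
  rw [hA.card, ← hZ] at a3
  have a5 : Nat.card Z ≤ Nat.card ↥(Q ⊓ A) := by nlinarith
  have a6 : 4 ≤ Q.relIndex A := by nlinarith
  have a7 : Q ⊓ A = Z := eq_of_le_of_card_ge a1 a5
  have a8 := relIndex_mul_relIndex Q (Q ⊔ A) P le_sup_left (sup_le hQ hA.le)
  have a9 : Q.relIndex A ≤ Q.relIndex (Q ⊔ A) := relIndex_le_of_le_right le_sup_right fun h => by
    rw [h] at a8; omega
  have b1 : (Q ⊔ A).relIndex P = 1 := by
    rw [idx] at a8
    have : (Q ⊔ A).relIndex P ≠ 0 := fun h => by rw [h] at a8; omega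
    nlinarith [Nat.pos_of_ne_zero this]
  have b2 : P ≤ Q ⊔ A := relIndex_eq_one.1 b1
  refine eq_of_le_of_card_ge (fun x hx => ?_) (hA.card.trans hB.card.symm).le
  by_cases hq : x ∈ Q
  · exact (a7.symm.le (hB.inf_le hC ⟨hq, hx⟩)).2
  · obtain ⟨q, hq', a, ha, rfl⟩ := (mem_sup_of_le_normalizer (hA.le.trans hn)).1 (b2 (hB.le hx))
    have c1 : a ∉ Q := fun h => hq (mul_mem hq' h)
    have c2 : Commute q a := by
      change q * a = a * q
      rw [← inv_eq_of_mul_eq_one_right (hB.sq _ hx), mul_inv_rev,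
        inv_eq_of_mul_eq_one_right (sq q hq'), inv_eq_of_mul_eq_one_right (hA.sq a ha)]
    have c3 : q ∈ Z := hC a (hA.le ha) c1 ▸ ⟨hq', mem_Ce.2 c2⟩
    exact mul_mem (a7.symm.le c3).2 ha

theorem oth_cj {P Q : Subgroup G} (hQ : Q ≤ P) (comm : ∀ a ∈ Q, ∀ b ∈ Q, Commute a b)
    (sq : ∀ a ∈ Q, a * a = 1) {g : G} (hg : g ∈ Nm P) (hn : g ∉ Nm Q) : Oth P Q (cj g Q) where
  le := cj_le_of_mem_normalizer hQ hg
  comm := by
    rintro _ ⟨a, ha, rfl⟩ _ ⟨b, hb, rfl⟩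
    exact (comm a ha b hb).map _
  sq := by
    rintro _ ⟨a, ha, rfl⟩
    rw [← map_mul, sq a ha, map_one]
  card := card_cj g Q
  ne := fun h => hn (cj_eq_iff_mem_normalizer.1 h)

/-- **E8A** -/
theorem e8a : E8aStmt.{u} := by
  intro G _ _ P Q Z C c hP hQP hne comm sq idx hZ hC c3 cP cQ fpf oC CP
  have qn : Q ≤ Nm Q := le_normalizer
  have hQ : Q ≤ Nm Q ⊓ P := le_inf qn hQP
  have cN : c ∈ Nm (Nm Q ⊓ P) :=
    inf_normalizer_le_normalizer_inf ⟨le_normalizer cQ, cP⟩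
  obtain ⟨a, ha, haQ⟩ := SetLike.not_le_iff_exists.1 fun k : Nm Q ⊓ P ≤ Q => by
    rw [relIndex_eq_one.2 k] at idx; omega
  have ZQ : Z ≤ Q := hC a ha haQ ▸ inf_le_left
  have cZ : ∀ z ∈ Z, c * z * c⁻¹ ∈ Z := fun z hz => by
    rw [← hC (c * a * c⁻¹) (conj_mem_of_Nm cN ha) fun h => haQ ((mem_Nm_iff.1 cQ a).2 h)]
    rw [← hC a ha haQ] at hz
    exact ⟨conj_mem_of_Nm cQ hz.1, mem_Ce.2 ((mem_Ce.1 hz.2).map (MulAut.conj c))⟩
  have h4 : 4 ≤ Nat.card Z := by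
    have z1 : Nat.card Z ≠ 1 := fun h => hne (card_eq_one.1 (by rw [← hZ, h]; rfl))
    have z2 : 0 < Nat.card Z := Nat.card_pos
    have z3 : Nat.card ↥((Z : Set G) \ {1}) = Nat.card Z - 1 := by
      rw [Nat.card_coe_set_eq, Set.ncard_sdiff_singleton_of_mem (one_mem Z)]
      rfl
    by_contra h
    obtain ⟨x, hx, hc⟩ := exists_fixed c3 ((Z : Set G) \ {1})
      (fun x hx => ⟨cZ x hx.1, fun e => hx.2 (conj_eq_one_iff.1 e)⟩) (by omega)
    exact hx.2 (fpf x (hQP (ZQ hx.1)) hc)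
  have key : ∀ g ∈ Nm (Nm Q ⊓ P), ∀ h ∈ Nm (Nm Q ⊓ P), g ∉ Nm Q → h ∉ Nm Q → g⁻¹ * h ∈ Nm Q :=
    fun g hg h hh gn hn => by
      rw [← cj_eq_iff_mem_normalizer, cj_mul, uniq hQ inf_le_left sq idx hZ h4 hC
        (oth_cj hQ comm sq hg gn) (oth_cj hQ comm sq hh hn), cj_inv_cj]
  have hPP : Nm Q ⊓ P = P := by
    by_contra hlt
    obtain ⟨g, hg, gn⟩ := SetLike.exists_of_lt
      (lt_inf_normalizer_of_lt hP (lt_of_le_of_ne inf_le_right hlt))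
    have gq : g ∉ Nm Q := fun h => gn ⟨h, hg.1⟩
    have k1 : g⁻¹ * (c * g * c⁻¹) ∈ Nm Q ⊓ P :=
      ⟨key g hg.2 _ (mul_mem (mul_mem cN hg.2) (inv_mem cN)) gq fun h =>
        gq ((mul_mem_cancel_left cQ).1 ((mul_mem_cancel_right (inv_mem cQ)).1 h)),
        P.mul_mem (P.inv_mem hg.1) (conj_mem_of_Nm cP hg.1)⟩
    obtain ⟨x, hx, hc⟩ := exists_fixed c3 {x | g⁻¹ * x ∈ Nm Q ⊓ P} (fun x hx => by
      have : g⁻¹ * (c * x * c⁻¹) = g⁻¹ * (c * g * c⁻¹) * (c * (g⁻¹ * x) * c⁻¹) := by group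
      change g⁻¹ * (c * x * c⁻¹) ∈ Nm Q ⊓ P
      rw [this]
      exact mul_mem k1 (conj_mem_of_Nm cN hx)) (by
      have e : Nat.card {x | g⁻¹ * x ∈ Nm Q ⊓ P} = Nat.card ↥(Nm Q ⊓ P) :=
        Nat.card_congr ((Equiv.mulLeft g⁻¹).subtypeEquiv fun _ => Iff.rfl)
      obtain ⟨k, hk⟩ := IsPGroup.iff_card.1 (hP.to_le (inf_le_right : Nm Q ⊓ P ≤ P))
      rw [e, hk]
      exact fun h => absurd (Nat.prime_three.dvd_of_dvd_pow h) (by decide))
    have xP : x ∈ P := (P.mul_mem_cancel_left (P.inv_mem hg.1)).1 hx.2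
    have hx' : g⁻¹ * x ∈ Nm Q ⊓ P := hx
    rw [fpf x xP hc, mul_one] at hx'
    exact gn (inv_mem_iff.1 hx')
  rw [hPP] at key
  intro g hg
  by_contra gn
  have k1 := key g⁻¹ (inv_mem (CP hg)) g (CP hg) (fun h => gn (inv_mem_iff.1 h)) gn
  rw [inv_inv, ← pow_two] at k1
  obtain ⟨m, hm⟩ := exists_pow_eq_self_of_coprime (x := g) (n := 2)
    (Nat.coprime_two_left.2 (oC.of_dvd_nat (C.orderOf_dvd_natCard hg)))
  exact gn (hm ▸ pow_mem k1 m)

end Cfsg.Agent.H31.Q4E8a
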