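import Cfsg.Agent.H46.J1Defs
import Cfsg.Agent.H15.S94Pu

/-!
# Piece JN2b of S3094: the group of order 256
-/

set_option autoImplicit false
open scoped Pointwise commutatorElement
open Subgroup

namespace Cfsg.Agent.H31.S94Jn2b
open Cfsg.Agent.H46.S94

universe u

local notation "C[" A "]" => Subgroup.centralizer (SetLike.coe A)
local notation "N[" A "]" => Subgroup.normalizer (SetLike.coe A)

theorem a5p : ∀ s : alternatingGroup (Fin 5), s ^ 2 = 1 ∨ s ^ 3 = 1 ∨ s ^ 5 = 1 := by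
  decide +kernel

section J
variable {Γ : Type} [Group Γ] {z σ ρ : Γ} {V L : Subgroup Γ}

theorem fpfL (h : J1F z σ ρ V L) {w : Γ} (hw : w ∈ L) (ww : w * w = 1) (e : ρ * w = w * ρ) :
    w = 1 := by
  obtain ⟨f⟩ := h.iso
  have m := L.mul_mem h.rL hw
  have k : ∀ n : ℕ, f ⟨_, m⟩ ^ n = 1 → (ρ * w) ^ n = 1 := fun n hn => by
    rw [← map_pow, map_eq_one_iff _ f.injective] at hn
    exact congrArg Subtype.val hn
  have c : Commute ρ w := e
  have r3 : ρ ^ 3 = 1 := h.ro ▸ pow_orderOf_eq_one ρ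
  have s1 : ∀ n : ℕ, ρ ^ n = 1 → 3 ∣ n := fun n hn => h.ro ▸ orderOf_dvd_of_pow_eq_one hn
  have w2 : w ^ 2 = 1 := by rw [sq, ww]
  rcases a5p (f ⟨_, m⟩) with a | a | a
  · have := k _ a
    rw [c.mul_pow, w2, mul_one] at this
    exact absurd (s1 2 this) (by norm_num)
  · have := k _ a
    rwa [c.mul_pow, r3, one_mul, pow_succ, w2, one_mul] at this
  · have : (ρ * w) ^ 10 = 1 := by rw [show 10 = 5 * 2 from rfl, pow_mul, k _ a, one_pow]
    rw [c.mul_pow, show 10 = 2 * 5 from rfl, pow_mul w, w2, one_pow, mul_one] at this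
    exact absurd (s1 _ this) (by norm_num)

theorem comV (h : J1F z σ ρ V L) {v w : Γ} (hv : v ∈ V) (hw : w ∈ V) : v * w = w * v := by
  have i : ∀ x ∈ V, x⁻¹ = x := fun x hx => inv_eq_of_mul_eq_one_right (h.el x hx)
  rw [← i _ (V.mul_mem hv hw), mul_inv_rev, i v hv, i w hw]

theorem split (h : J1F z σ ρ V L) {v : Γ} (hv : v ∈ V) : v ∈ V ⊓ L ∨ v * z ∈ V ⊓ L :=
  (h.cz v (mem_centralizer_singleton_iff.2 (comV h hv h.zV))).imp (fun m => ⟨hv, m⟩)
    fun m => ⟨V.mul_mem hv h.zV, m⟩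

theorem rz (h : J1F z σ ρ V L) : ρ * z = z * ρ := mem_centralizer_singleton_iff.1 (h.Lz h.rL)

theorem fixV (h : J1F z σ ρ V L) {v : Γ} (hv : v ∈ V) (e : ρ * v = v * ρ) : v ∈ zpowers z := by
  rcases split h hv with m | m
  · rw [fpfL h m.2 (h.el _ hv) e]
    exact one_mem _
  · have := fpfL h m.2 (h.el _ m.1) (by rw [← mul_assoc, e, mul_assoc, rz h, mul_assoc])
    rw [eq_inv_of_mul_eq_one_left this]
    exact inv_mem (mem_zpowers z)

theorem exU (h : J1F z σ ρ V L) : ∃ a ∈ V ⊓ L, ∃ b ∈ V ⊓ L, a ≠ 1 ∧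
    ∀ W : Subgroup Γ, a ∈ W → b ∈ W → z ∈ W → V ≤ W := by
  have := h.base.fin
  obtain ⟨a, ha, a1⟩ : ∃ a ∈ V ⊓ L, a ≠ 1 := by
    by_contra hn
    push Not at hn
    have := h.cU
    rw [(eq_bot_iff_forall _).2 hn, card_bot] at this
    omega
  have hb : ρ * a * ρ⁻¹ ∈ V ⊓ L := ⟨(mem_normalizer_iff.1 h.rN a).1 ha.1,
    L.mul_mem (L.mul_mem h.rL ha.2) (L.inv_mem h.rL)⟩
  have ab : ρ * a * ρ⁻¹ ≠ a := fun e =>
    a1 (fpfL h ha.2 (h.el _ ha.1) (mul_inv_eq_iff_eq_mul.1 e))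
  have b1 : ρ * a * ρ⁻¹ ≠ 1 := fun e => a1 (by simpa using e)
  refine ⟨a, ha, _, hb, a1, fun W wa wb wz => ?_⟩
  have U : V ⊓ L ≤ W := by
    have d : Nat.card (W ⊓ (V ⊓ L) : Subgroup Γ) ∣ 2 ^ 2 := by
      have := card_dvd_of_le (inf_le_right : W ⊓ (V ⊓ L) ≤ V ⊓ L)
      rwa [h.cU] at this
    obtain ⟨k, hk, e⟩ := (Nat.dvd_prime_pow Nat.prime_two).1 d
    interval_cases k
    · rw [pow_zero, card_eq_one] at e
      exact absurd (mem_bot.1 (e ▸ (⟨wa, ha⟩ : a ∈ W ⊓ (V ⊓ L)))) a1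
    · exfalso
      obtain ⟨y, -, hy⟩ := (Nat.card_eq_two_iff' (1 : (W ⊓ (V ⊓ L) : Subgroup Γ))).1 e
      have a1 := hy ⟨a, wa, ha⟩ fun k => a1 (congrArg Subtype.val k)
      have a2 := hy ⟨_, wb, hb⟩ fun k => b1 (congrArg Subtype.val k)
      exact ab (congrArg Subtype.val (a2.trans a1.symm))
    · rw [← eq_of_le_of_card_ge (inf_le_right : W ⊓ (V ⊓ L) ≤ V ⊓ L)
        (by rw [e, h.cU]; norm_num)]
      exact inf_le_left
  intro v hv
  rcases split h hv with m | m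
  · exact U m
  · exact (W.mul_mem_cancel_right wz).1 (U m)

end J

section Gen
variable {G : Type u} [Group G]

theorem two_mem [Finite G] {A O : Subgroup G} (hA : IsPGroup 2 A) (hC : A ≤ C[O])
    (hO : Odd (Nat.card O)) {c : G} (hc : c ∈ A ⊔ O) (h2 : Tw c) : c ∈ A := by
  have e := coe_mul_of_left_le_normalizer_right A O (hC.trans (centralizer_le_normalizer _))
  have m : c ∈ ((A ⊔ O : Subgroup G) : Set G) := hc
  rw [e] at m
  obtain ⟨a, ha, o, ho, rfl⟩ := m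
  obtain ⟨n, hn⟩ := h2
  obtain ⟨k, hk⟩ := hA ⟨a, ha⟩
  have hk' : a ^ 2 ^ k = 1 := congrArg Subtype.val hk
  have cm : Commute a o := (hC ha o ho).symm
  have e3 : o ^ 2 ^ (n + k) = 1 := by
    have : (a * o) ^ 2 ^ (n + k) = 1 := by
      rw [pow_add, pow_mul]
      change ((fun x1 x2 => x1 * x2) a o ^ 2 ^ n) ^ 2 ^ k = 1
      rw [hn, one_pow]
    rwa [cm.mul_pow, add_comm, pow_add, pow_mul a, hk', one_pow, one_mul, ← pow_add,
      add_comm] at this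
  have c1 : (orderOf o).Coprime (2 ^ (n + k)) := Nat.Coprime.pow_right _
    (Nat.coprime_two_right.2 (hO.of_dvd_nat (O.orderOf_dvd_natCard ho)))
  have o1 : o = 1 := orderOf_eq_one_iff.1 (c1.eq_one_of_dvd (orderOf_dvd_of_pow_eq_one e3))
  change a * o ∈ A
  rw [o1, mul_one]
  exact ha

variable {Y : Subgroup G} {X : Type u} [Group X] {π : Y →* X}

theorem mem_im {H : Subgroup G} {x : X} : x ∈ im π H ↔ ∃ y : Y, (y : G) ∈ H ∧ π y = x := Iff.rfl

theorem mem_pre {P : Subgroup X} {g : G} : g ∈ pre π P ↔ ∃ y : Y, π y ∈ P ∧ (y : G) = g :=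
  Iff.rfl

theorem card_pre [Finite G] {R : Subgroup G} (hs : Function.Surjective π)
    (hk : ∀ y : Y, π y = 1 ↔ (y : G) ∈ R) (hR : R ≤ Y) (P : Subgroup X) :
    Nat.card (pre π P) = Nat.card P * Nat.card R := by
  have : Finite X := Finite.of_surjective π hs
  rw [card_map_of_injective Y.subtype_injective]
  have e : π.ker = R.subgroupOf Y := by
    ext y
    exact hk y
  have h1 := (P.comap π).card_mul_index
  have h2 := π.ker.card_mul_index
  have h3 := P.card_mul_index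
  rw [index_comap_of_surjective _ hs] at h1
  rw [index_ker, π.range_eq_top.2 hs, card_top, e,
    Nat.card_congr (subgroupOfEquivOfLe hR).toEquiv, ← h3, ← h1] at h2
  refine Nat.eq_of_mul_eq_mul_right (Nat.pos_of_ne_zero P.index_ne_zero_of_finite) ?_
  rw [← h2]
  ring

theorem of_im {R T : Subgroup G} (hk : ∀ y : Y, π y = 1 ↔ (y : G) ∈ R) (hR : R ≤ T) {y : Y}
    (m : π y ∈ im π T) : (y : G) ∈ T := by
  obtain ⟨x, hx, e⟩ := mem_im.1 m
  have : ((x⁻¹ * y : Y) : G) ∈ R := (hk _).1 (by rw [map_mul, map_inv, e, inv_mul_cancel])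
  exact (T.mul_mem_cancel_left (T.inv_mem hx)).1 (hR this)

theorem card_sq [Finite G] {V T : Subgroup G} (ab : Ab T) (VT : V ≤ T) (el : ∀ v ∈ V, v * v = 1)
    (om : ∀ x ∈ T, x * x = 1 → x ∈ V) (sq : ∀ v ∈ V, ∃ x ∈ T, x * x = v)
    (ex : ∀ x ∈ T, x * x ∈ V) : Nat.card T = Nat.card V * Nat.card V := by
  let f : T →* G := MonoidHom.mk' (fun x => (x : G) * x) fun a b => by
    change (a : G) * b * (a * b) = a * a * (b * b)
    rw [mul_assoc, ← mul_assoc (b : G), ab _ b.2 _ a.2]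
    simp only [mul_assoc]
  have k : f.ker = V.subgroupOf T := by
    ext x
    exact ⟨fun e => om _ x.2 e, fun m => el _ m⟩
  have r : f.range = V := by
    ext v
    constructor
    · rintro ⟨x, rfl⟩
      exact ex _ x.2
    · intro hv
      obtain ⟨x, hx, e⟩ := sq v hv
      exact ⟨⟨x, hx⟩, e⟩
  have h2 := f.ker.card_mul_index
  rw [index_ker, r, k, Nat.card_congr (subgroupOfEquivOfLe VT).toEquiv] at h2
  exact h2.symm

end Gen

/-- `P = [P, σ]` -/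
theorem surj_br {X : Type u} [Group X] [Finite X] {t σ : X} {Λ O Z P : Subgroup X}
    (h : A5C t σ Λ O Z) (iv : IV t σ Z P) {x : X} (hx : x ∈ P) :
    ∃ a ∈ P, a⁻¹ * σ * a * σ⁻¹ = x := by
  let f : P → P := fun a => ⟨(a : X)⁻¹ * (σ * a * σ⁻¹),
    mul_mem (inv_mem a.2) ((mem_normalizer_iff.1 iv.sN _).1 a.2)⟩
  have inj : Function.Injective f := fun a b e => by
    have e1 : (a : X)⁻¹ * (σ * a * σ⁻¹) = (b : X)⁻¹ * (σ * b * σ⁻¹) := congrArg Subtype.val e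
    refine Subtype.ext (mul_inv_eq_one.1
      (H12.S94.fpf_P h iv (mul_mem a.2 (inv_mem b.2)) (Eq.symm ?_)))
    calc (a : X) * (b : X)⁻¹ * σ = a * ((b : X)⁻¹ * (σ * b * σ⁻¹)) * σ * (b : X)⁻¹ := by group
      _ = σ * (a * (b : X)⁻¹) := by rw [← e1]; group
  obtain ⟨a, ha⟩ := Finite.injective_iff_surjective.1 inj ⟨x, hx⟩
  refine ⟨a, a.2, ?_⟩
  rw [← show _ = x from congrArg Subtype.val ha]
  simp only [f, mul_assoc]

theorem jn2b : JN2bStmt.{u} := by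
  intro Γ _ G _ _ φ F t ζ O T z σ ρ V L X _ t' ρ' π P c qx a5 iv sp DP
  have fX : Finite X := Finite.of_surjective π qx.surj
  have j := c.jf
  have inj := c.cx.inj
  have nF := c.as.normal
  have ti : t⁻¹ = t := c.cx.tinv
  have hk := qx.ker
  obtain ⟨yt, eyt, rfl⟩ := qx.et
  obtain ⟨yr, eyr, rfl⟩ := qx.er
  have TY : T ≤ YY F (T1 T (φ ρ)) t := fun x hx =>
    mem_sup_left ⟨c.lt.le hx, fun r hr => c.tf.ab r hr.1 x hx⟩
  have RT : T1 T (φ ρ) ≤ T := inf_le_left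
  have VT := c.tf.VT
  have mR : ∀ {x}, x ∈ T1 T (φ ρ) ↔ x ∈ T ∧ x * φ ρ = φ ρ * x := fun {x} =>
    and_congr_right fun _ => mem_centralizer_singleton_iff
  have el : ∀ v ∈ V.map φ, v * v = 1 := by
    rintro _ ⟨v, hv, rfl⟩
    rw [← map_mul, j.el v hv, map_one]
  have zV : φ z ∈ V.map φ := mem_map_of_mem _ j.zV
  have z1 : φ z ≠ 1 := fun e => j.z1 (inj (by rw [e, map_one]))
  have zR : φ z ∈ T1 T (φ ρ) := mR.2 ⟨VT zV, by rw [← map_mul, ← map_mul, rz j]⟩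
  have fix : ∀ v ∈ V.map φ, v ∈ T1 T (φ ρ) → v ∈ zpowers (φ z) := by
    rintro _ ⟨v, hv, rfl⟩ m
    have := fixV j hv (inj (by rw [map_mul, map_mul, (mR.1 m).2]))
    rw [← MonoidHom.map_zpowers]
    exact mem_map_of_mem _ this
  have oz : orderOf (φ z) = 2 := orderOf_eq_prime (by rw [sq, el _ zV]) z1
  have VZ : ∀ y : YY F (T1 T (φ ρ)) t, (y : G) ∈ V.map φ → π y ∈ im π ((V ⊓ L).map φ) := by
    rintro y ⟨v, hv, e⟩
    rcases split j hv with m | m
    · exact mem_im.2 ⟨y, ⟨v, m, e⟩, rfl⟩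
    · refine mem_im.2 ⟨y * ⟨φ z, TY (VT zV)⟩, ⟨v * z, m, by rw [map_mul, e]; rfl⟩, ?_⟩
      rw [map_mul, (hk ⟨φ z, TY (VT zV)⟩).2 zR, mul_one]
  have TD : ∀ y : YY F (T1 T (φ ρ)) t, (y : G) ∈ T → π y ∈ im π T := fun y hy =>
    mem_im.2 ⟨y, hy, rfl⟩
  have r4 : ∀ x ∈ T, x ^ 4 * φ ρ = φ ρ * x ^ 4 := fun x hx => by
    have := H12.S94.sq_Z a5 (sp.sq _ (DP (TD ⟨x, TY hx⟩ hx)))
    rw [← map_mul, ← map_mul, hk] at this
    have e : x ^ 4 = x * x * (x * x) := by simp only [pow_succ, pow_zero, one_mul, mul_assoc]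
    rw [e]
    exact (mR.1 this).2
  obtain ⟨a, ha, b, hb, a1, gen⟩ := exU j
  have e8 : ∀ x ∈ T, x ^ 4 * x ^ 4 = 1 → x ^ 4 = 1 := fun x hx e => by
    by_contra hn
    obtain ⟨v, hv, ev⟩ := c.ls.om _ (T.pow_mem hx 4) e
    obtain ⟨i, hi⟩ := j.tr v hv fun k => hn (by rw [← ev, k, map_one])
    obtain ⟨k, hk⟩ := j.tr a ha.1 a1
    have gN : φ σ ^ k * (φ σ ^ i)⁻¹ ∈ N[T] :=
      mul_mem (pow_mem c.tf.sN _) (inv_mem (pow_mem c.tf.sN _))
    have := r4 _ ((mem_normalizer_iff.1 gN x).1 hx)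
    rw [conj_pow, ← ev, ← hi] at this
    refine a1 (fpfL j ha.2 (j.el _ ha.1) (inj ?_))
    rw [← hk]
    simp only [map_mul, map_inv, map_pow] at this ⊢
    calc _ = φ ρ * (φ σ ^ k * (φ σ ^ i)⁻¹ * (φ σ ^ i * φ z * (φ σ ^ i)⁻¹) *
          (φ σ ^ k * (φ σ ^ i)⁻¹)⁻¹) := by group
      _ = _ := by rw [← this]; group
  have e4 : ∀ x ∈ T, x ^ 4 = 1 := by
    have : ∀ n : ℕ, ∀ x ∈ T, (x ^ 2 ^ n) ^ 4 = 1 → x ^ 4 = 1 := fun n => by
      induction n with
      | zero => intro x _ e; simpa using e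
      | succ n ih =>
        intro x hx e
        refine ih x hx (e8 _ (T.pow_mem hx _) ?_)
        rw [← e, ← pow_add, ← pow_mul, ← pow_mul]
        congr 1
        ring
    intro x hx
    obtain ⟨n, hn⟩ := c.tf.two ⟨x, hx⟩
    refine this n x hx ?_
    rw [show x ^ 2 ^ n = 1 from congrArg Subtype.val hn, one_pow]
  have ex : ∀ x ∈ T, x * x ∈ V.map φ := fun x hx => c.ls.om _ (T.mul_mem hx hx) (by
    rw [← e4 x hx]
    simp only [pow_succ, pow_zero, one_mul, mul_assoc])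
  have cV : Nat.card (V.map φ) = 8 := by rw [card_map_of_injective inj, j.cV]
  have cT : Nat.card T = 64 := by
    rw [card_sq c.tf.ab VT el c.ls.om c.ls.sq ex, cV]
  have zζ : zpowers (φ z) ≤ zpowers ζ := zpowers_le.2 (by
    rw [← c.ab.sq]; exact mul_mem (mem_zpowers ζ) (mem_zpowers ζ))
  have ζR : ζ ∈ T1 T (φ ρ) := mR.2 ⟨c.ab.mem, c.ab.rz.symm⟩
  have z2 : ∀ w ∈ zpowers (φ z), w = 1 ∨ w = φ z := fun w hw => by
    classical
    obtain ⟨k, hk, rfl⟩ := Finset.mem_image.1 (mem_zpowers_iff_mem_range_orderOf.1 hw)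
    rw [oz, Finset.mem_range] at hk
    interval_cases k <;> simp
  have eR : T1 T (φ ρ) = zpowers ζ := by
    refine le_antisymm (fun x hx => ?_) (zpowers_le.2 ζR)
    rcases z2 _ (fix _ (ex x hx.1) (mul_mem hx hx)) with e | e
    · exact zζ (fix _ (c.ls.om x hx.1 e) hx)
    · have m := mul_mem hx ζR
      refine ((zpowers ζ).mul_mem_cancel_right (mem_zpowers ζ)).1
        (zζ (fix _ (c.ls.om _ m.1 ?_) m))
      rw [mul_assoc, ← mul_assoc ζ, c.tf.ab ζ c.ab.mem x hx.1, mul_assoc, c.ab.sq, ← mul_assoc,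
        e, el _ zV]
  have cR : Nat.card (T1 T (φ ρ)) = 4 := by
    rw [eR, Nat.card_zpowers]
    refine orderOf_eq_prime_pow (p := 2) (n := 1) ?_ (e4 ζ c.ab.mem)
    rw [pow_one, sq, c.ab.sq]
    exact z1
  have cp := card_pre qx.surj hk (RT.trans TY)
  have pT : pre π (im π T) = T := by
    ext g
    constructor
    · rintro ⟨y, hy, rfl⟩
      exact of_im hk RT hy
    · exact fun hg => mem_pre.2 ⟨⟨g, TY hg⟩, TD _ hg, rfl⟩
  have cD : Nat.card (im π T) = 16 := by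
    have := cp (im π T)
    rw [pT, cT, cR] at this
    omega
  have cQ : Nat.card (pre π P) = 256 := by rw [cp, sp.card, cR]
  have nD : ∀ y : YY F (T1 T (φ ρ)) t, (y : G) ∈ N[T] → ∀ d ∈ im π T,
      π y * d * (π y)⁻¹ ∈ im π T := fun y hy d hd => by
    obtain ⟨x, hx, rfl⟩ := mem_im.1 hd
    rw [← map_inv, ← map_mul, ← map_mul]
    exact TD _ ((mem_normalizer_iff.1 hy _).1 hx)
  have d4 : D4 (π yt) (π yr) (im π ((V ⊓ L).map φ)) (im π T) := by
    refine ⟨?_, cD, ?_, ?_, ?_, ?_⟩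
    · intro d hd e he
      obtain ⟨x, hx, rfl⟩ := mem_im.1 hd
      obtain ⟨y, hy, rfl⟩ := mem_im.1 he
      rw [← map_mul, ← map_mul]
      exact congrArg π (Subtype.ext (c.tf.ab _ hx _ hy))
    · intro d hd
      obtain ⟨x, hx, rfl⟩ := mem_im.1 hd
      exact TD _ (VT (map_mono inf_le_left hx))
    · intro d hd
      obtain ⟨x, hx, rfl⟩ := mem_im.1 hd
      rw [← map_mul, ← map_mul, ← map_inv]
      refine congrArg π (Subtype.ext ?_)
      change (yt : G) * x * yt = (x : G)⁻¹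
      rw [eyt]
      exact c.ls.inv _ hx
    · have rN : (yr : G) ∈ N[T] := by rw [eyr]; exact c.tf.rN
      refine mem_normalizer_iff.2 fun d => ⟨nD yr rN d, fun hd => ?_⟩
      have := nD yr⁻¹ (inv_mem rN) _ hd
      simpa [mul_assoc] using this
    · obtain ⟨x, hx, e⟩ := c.ls.sq _ (mem_map_of_mem φ ha.1)
      refine ⟨π ⟨x, TY hx⟩, TD _ hx, orderOf_eq_prime_pow (p := 2) (n := 1) ?_ ?_⟩
      · rw [pow_one, sq, ← map_mul, hk]
        intro m
        have := (mR.1 m).2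
        change x * x * φ ρ = φ ρ * (x * x) at this
        rw [e, ← map_mul, ← map_mul] at this
        exact a1 (fpfL j ha.2 (j.el _ ha.1) (inj this).symm)
      · rw [← map_pow]
        have : (⟨x, TY hx⟩ : YY F (T1 T (φ ρ)) t) ^ 2 ^ (1 + 1) = 1 := Subtype.ext (e4 x hx)
        rw [this, map_one]
  have TQ : T ≤ pre π P := fun x hx => mem_pre.2 ⟨⟨x, TY hx⟩, DP (TD _ hx), rfl⟩
  have tt' : π yt * π yt = 1 := a5.tt
  have ti' : (π yt)⁻¹ = π yt := inv_eq_of_mul_eq_one_right tt'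
  have cS : ∀ y ∈ pre π P, ∀ s ∈ St1 T t, y * s * y⁻¹ ∈ St1 T t := by
    rintro _ ⟨y, hy, rfl⟩
    change St1 T t ≤ (St1 T t).comap (MulAut.conj (y : G)).toMonoidHom
    refine sup_le (fun x hx => mem_sup_left ?_) (zpowers_le.2 ?_)
    · refine of_im (y := y * ⟨x, TY hx⟩ * y⁻¹) hk RT ?_
      have m := TD ⟨x, TY hx⟩ hx
      have := mul_mem (d4.ZD (H15.S94Pu.comm_mem sp hy (DP m))) m
      rw [commutatorElement_def, inv_mul_cancel_right] at this
      rwa [map_mul, map_mul, map_inv]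
    · have m : π y * π yt * (π y)⁻¹ * π yt ∈ P := by
        have := (mem_normalizer_iff.1 iv.tN _).1 (P.inv_mem hy)
        rw [ti'] at this
        simpa only [mul_assoc] using P.mul_mem hy this
      have k := H15.S94Pu.mem_D a5 iv sp d4 DP m (by
        have := sp.sq _ m
        have e : π y * π yt * (π y)⁻¹ * π yt * π yt * (π y * π yt * (π y)⁻¹ * π yt)⁻¹ * π yt =
            π y * π yt * (π y)⁻¹ * π yt * (π y * π yt * (π y)⁻¹ * π yt) := by
          rw [mul_assoc _ (π yt) (π yt), tt', mul_one]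
          simp only [mul_inv_rev, inv_inv, ti', mul_assoc]
        rwa [e])
      have := of_im (y := y * yt * y⁻¹ * yt) hk RT (by simpa only [map_mul, map_inv] using k)
      change (y : G) * yt * (y : G)⁻¹ * yt ∈ T at this
      rw [eyt] at this
      have m2 := mul_mem (mem_sup_left (T := zpowers t) this)
        (inv_mem (mem_sup_right (S := T) (mem_zpowers t)))
      rwa [mul_inv_cancel_right] at m2
  have QN : pre π P ≤ N[St1 T t] := fun y hy => mem_normalizer_iff.2 fun s =>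
    ⟨cS y hy s, fun hs => by simpa [mul_assoc] using cS _ (inv_mem hy) _ hs⟩
  have gQ : ∀ K : Subgroup G, T ≤ K → φ ρ ∈ K → (∀ y ∈ pre π P, y⁻¹ * φ ρ * y ∈ K) →
      pre π P ≤ K := by
    rintro K TK rK cK _ ⟨y, hy, rfl⟩
    obtain ⟨p, hp, e⟩ := surj_br a5 iv hy
    obtain ⟨x, rfl⟩ := qx.surj p
    have m : (((x⁻¹ * yr * x * yr⁻¹)⁻¹ * y : YY F (T1 T (φ ρ)) t) : G) ∈ T1 T (φ ρ) :=
      (hk _).1 (by rw [map_mul, map_inv, ← e]; simp only [map_mul, map_inv, inv_mul_cancel])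
    have m2 : (x : G)⁻¹ * φ ρ * x * (φ ρ)⁻¹ ∈ K :=
      mul_mem (cK _ (mem_pre.2 ⟨x, hp, rfl⟩)) (inv_mem rK)
    have m3 := TK (RT m)
    change ((x : G)⁻¹ * yr * x * (yr : G)⁻¹)⁻¹ * y ∈ K at m3
    rw [eyr] at m3
    exact (K.mul_mem_cancel_left (inv_mem m2)).1 m3
  have QF : pre π P ≤ F := gQ F c.lt.le (c.AF ⟨ρ, rfl⟩) fun y _ => by
    simpa using nF.conj_mem _ (c.AF ⟨ρ, rfl⟩) y⁻¹
  have rO : φ ρ ∈ C[O] := fun o ho => (c.cx.oA ho ρ).symm
  have QO : pre π P ≤ C[O] := gQ _ c.tf.OC rO fun y hy o ho => by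
    have := rO _ ((mem_normalizer_iff.1 (c.lt.nO (QN hy)) o).1 ho)
    calc o * (y⁻¹ * φ ρ * y) = y⁻¹ * (y * o * y⁻¹ * φ ρ) * y := by group
      _ = _ := by rw [this]; group
  have QH : pre π P ≤ N[St1 T t] ⊓ F := le_inf QN QF
  have pz : ∀ p ∈ pre π P, Tz (V.map φ) (φ z) p := by
    rintro p hp v hv
    refine fix _ (mul_mem ((mem_normalizer_iff.1 (c.lt.gl.1 (QH hp)) v).1 hv) (inv_mem hv)) ?_
    obtain ⟨y, hy, rfl⟩ := hp
    refine (hk (y * ⟨v, TY (VT hv)⟩ * y⁻¹ * (⟨v, TY (VT hv)⟩ : YY F (T1 T (φ ρ)) t)⁻¹)).1 ?_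
    have := sp.ZC (VZ ⟨v, TY (VT hv)⟩ hv) _ hy
    simp only [map_mul, map_inv]
    rw [this]
    group
  have Q2 : IsPGroup 2 (pre π P) := IsPGroup.of_card (n := 8) (by rw [cQ]; norm_num)
  refine ⟨d4, cT, ex, eR, TQ, cQ, QH, pz, fun y hy y2 yz => ?_⟩
  have aV := mem_map_of_mem φ ha.1
  have bV := mem_map_of_mem φ hb.1
  have fz : ∀ p, Tz (V.map φ) (φ z) p → p * φ z * p⁻¹ = φ z := fun p hp => by
    rcases z2 _ (hp _ zV) with e | e
    · exact mul_inv_eq_one.1 e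
    · rw [mul_inv_eq_iff_eq_mul, el _ zV] at e
      exact absurd (by simpa using e) z1
  have cen : ∀ p q, Tz (V.map φ) (φ z) p → Tz (V.map φ) (φ z) q →
      p * φ a * p⁻¹ * (φ a)⁻¹ = q * φ a * q⁻¹ * (φ a)⁻¹ →
      p * φ b * p⁻¹ * (φ b)⁻¹ = q * φ b * q⁻¹ * (φ b)⁻¹ → p⁻¹ * q ∈ C[V.map φ] :=
    fun p q hp hq e1 e2 => by
      have k : ∀ w, p * φ w * p⁻¹ = q * φ w * q⁻¹ → w ∈ (centralizer {p⁻¹ * q}).comap φ :=
        fun w e => mem_centralizer_singleton_iff.2 (by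
          calc φ w * (p⁻¹ * q) = p⁻¹ * (p * φ w * p⁻¹) * q := by group
            _ = _ := by rw [e]; group)
      rintro _ ⟨v, hv, rfl⟩
      exact mem_centralizer_singleton_iff.1 (gen _ (k a (mul_right_cancel e1))
        (k b (mul_right_cancel e2)) (k z (by rw [fz p hp, fz q hq])) hv)
  have ker : ∀ x ∈ N[St1 T t] ⊓ F, x ∈ C[V.map φ] → x ∈ T ⊔ O := fun x hx m =>
    sup_le_sup_left (inf_le_left : O ⊓ F ≤ O) T (c.lt.ker ⟨hx, m⟩)
  let f : pre π P ⧸ T.subgroupOf (pre π P) → zpowers (φ z) × zpowers (φ z) := fun q =>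
    (⟨_, pz _ q.out.2 _ aV⟩, ⟨_, pz _ q.out.2 _ bV⟩)
  have finj : Function.Injective f := fun p q e => by
    rw [← p.out_eq', ← q.out_eq', QuotientGroup.eq]
    have m := (p.out⁻¹ * q.out).2
    refine two_mem c.tf.two c.tf.OC c.cx.odd (ker _ (QH m) (cen _ _ (pz _ p.out.2) (pz _ q.out.2)
      (congrArg Subtype.val (congrArg Prod.fst e)) (congrArg Subtype.val (congrArg Prod.snd e)))) ?_
    obtain ⟨n, hn⟩ := Q2 (p.out⁻¹ * q.out)
    exact ⟨n, congrArg Subtype.val hn⟩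
  have h1 := (T.subgroupOf (pre π P)).card_mul_index
  rw [Nat.card_congr (subgroupOfEquivOfLe TQ).toEquiv, cT, cQ] at h1
  obtain ⟨q, hq⟩ := (finj.bijective_of_nat_card_le (by
    rw [Nat.card_prod, Nat.card_zpowers, oz]
    change _ ≤ (T.subgroupOf (pre π P)).index
    omega)).2 (⟨_, yz _ aV⟩, ⟨_, yz _ bV⟩)
  have m := ker _ (mul_mem (inv_mem (QH q.out.2)) hy) (cen _ _ (pz _ q.out.2) yz
    (congrArg Subtype.val (congrArg Prod.fst hq)) (congrArg Subtype.val (congrArg Prod.snd hq)))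
  refine two_mem Q2 QO c.cx.odd ?_ y2
  exact (mul_mem_cancel_left (inv_mem (mem_sup_left q.out.2))).1 (sup_le_sup_right TQ _ m)

end Cfsg.Agent.H31.S94Jn2b
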