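import Cfsg.Agent.H29.SpKit

/-!
# The movers of the short root subgroups commute
-/

set_option autoImplicit false
set_option linter.unusedSectionVars false

namespace Cfsg.Agent.H31.SpH

open Cfsg Cfsg.Agent.H63 Cfsg.Agent.H63.SL Cfsg.Agent.H26 Cfsg.Agent.H68.Sp Cfsg.Agent.H29.SpK
open Cfsg.Agent.H78 hiding tv
open Subgroup Module
open scoped commutatorElement

universe u v

section Grp

variable {G : Type u} [Group G]

theorem odd_sq {o : G} (ho : Odd (orderOf o)) (h : o * o = 1) : o = 1 := by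
  have h1 : orderOf o ∣ 2 := orderOf_dvd_of_pow_eq_one (by rw [pow_two, h])
  rw [← orderOf_eq_one_iff]
  exact Nat.Coprime.eq_one_of_dvd (Nat.coprime_two_right.2 ho) h1

theorem odd_four {o : G} (ho : Odd (orderOf o)) (h : o * o * (o * o) = 1) : o = 1 := by
  have h1 : orderOf o ∣ 2 ^ 2 := orderOf_dvd_of_pow_eq_one (by
    rw [pow_two 2, pow_mul, pow_two, pow_two, h])
  rw [← orderOf_eq_one_iff]
  exact Nat.Coprime.eq_one_of_dvd ((Nat.coprime_two_right.2 ho).pow_right 2) h1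

theorem tt {L : Subgroup G} {t : G} (tc : Tc L t) : t * t = 1 := by
  rw [← pow_two, ← tc.t2, pow_orderOf_eq_one]

theorem tl {L : Subgroup G} {t : G} (tc : Tc L t) {l : G} (hl : l ∈ L) : Commute l t :=
  tc.tc l hl

/-- Elements of `C(L) ∩ C(t)`. -/
theorem split [Finite G] {L : Subgroup G} {t : G} (tc : Tc L t) (r : R2 L t) {κ : G}
    (hκ : κ ∈ C[L]) (ht : Commute κ t) :
    ∃ o ∈ C[L], Commute o t ∧ Odd (orderOf o) ∧ (κ = o ∨ κ = t * o) := by
  obtain ⟨a, m, hm, e⟩ := Nat.exists_eq_two_pow_mul_odd (orderOf_pos κ).ne'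
  have h2 := tt tc
  rcases r (κ ^ m) (pow_mem hκ m) (ht.pow_left m)
      ⟨a, by rw [← pow_mul, mul_comm, ← e, pow_orderOf_eq_one]⟩ with h | h
  · exact ⟨κ, hκ, ht, Odd.of_dvd_nat hm (orderOf_dvd_of_pow_eq_one h), Or.inl rfl⟩
  · refine ⟨t * κ, mul_mem tc.tc hκ, (Commute.refl t).mul_left ht,
      Odd.of_dvd_nat hm (orderOf_dvd_of_pow_eq_one ?_), Or.inr ?_⟩
    · obtain ⟨j, rfl⟩ := hm
      rw [ht.symm.mul_pow, h, pow_succ, pow_mul, pow_two, h2, one_pow, one_mul, h2]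
    · rw [← mul_assoc, h2, one_mul]

end Grp

variable {F V : Type v} [Field F] [Finite F] [AddCommGroup V] [Module F V] [FiniteDimensional F V]
  {G : Type u} [Group G] [Finite G] {P : PForm F V} {φ : P.E →* G} {L : Subgroup G} {k : ℕ} {t : G}

theorem YW_anti {S S' : Set V} (H : ∀ x ∈ S', x ∈ Submodule.span F S) :
    YW P φ S ≤ YW P φ S' := by
  rintro _ ⟨e, he, rfl⟩
  refine ⟨e, fun x hx => ?_, rfl⟩
  refine Submodule.span_induction (p := fun x _ => e.1 x = x) he (map_zero _) ?_ ?_ (H x hx)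
  · intro a b _ _ ha hb; rw [map_add, ha, hb]
  · intro c a _ ha; rw [map_smul, ha]

theorem S2_mono {S S' : Set V} (H : ∀ x ∈ S, x ∈ Submodule.span F S') :
    S2 P φ S ≤ S2 P φ S' :=
  closure_mono fun _ ⟨w, hw, e⟩ => ⟨w, Submodule.span_le.2 H hw, e⟩

theorem S2_le_L (h : SG P φ L k) (S : Set V) : S2 P φ S ≤ L := by
  refine (closure_le _).2 ?_
  rintro _ ⟨w, -, c, rfl⟩
  exact ET_mem h _ _ _

theorem YW_le_L (h : SG P φ L k) (S : Set V) : YW P φ S ≤ L := by
  rintro _ ⟨e, -, rfl⟩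
  exact φ_mem h e

theorem S2_le_YW (h : SG P φ L k) {S S' : Set V} (H : ∀ x ∈ S', ∀ y ∈ S, P.f x y = 0) :
    S2 P φ S ≤ YW P φ S' := by
  refine (closure_le _).2 ?_
  rintro _ ⟨w, hw, c, rfl⟩
  exact ⟨eE P w 0 c, fun x hx => eE_fix h (PForm.mem_perp_span.2 (H x hx) w hw)
    (P.f_zero_right _) c, rfl⟩

theorem ET_mem_S2 (h : SG P φ L k) (g2 : G2 P φ) {S : Set V} {a r : V}
    (ha : a ∈ Submodule.span F S) (hr : r ∈ Submodule.span F S) (c : F) :
    ET P φ a r c ∈ S2 P φ S :=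
  (g2.memS S (eE P a r c)).2 fun _ hx => eE_fix h (hx a ha) (hx r hr) c

theorem ET_mem_YW (h : SG P φ L k) {S : Set V} {a r : V} (ha : ∀ x ∈ S, P.f x a = 0)
    (hr : ∀ x ∈ S, P.f x r = 0) (c : F) : ET P φ a r c ∈ YW P φ S :=
  ⟨eE P a r c, fun x hx => eE_fix h (ha x hx) (hr x hx) c, rfl⟩

/-- **Kernel lemma**. -/
theorem ker (c : Ctx P φ L k t) (r : R2 L t) {S : Set V}
    (hS : P.perp (Submodule.span F S) ≠ ⊥) {g : G} (hg : g ∈ C[YW P φ S]) (ht : Commute g t) :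
    ∃ s ∈ S2 P φ S, ∃ o ∈ C[L], Commute o t ∧ Odd (orderOf o) ∧
      (g = s * o ∨ g = s * (t * o)) := by
  obtain ⟨s, hs, κ, hκ, rfl⟩ := c.nf.cY S hS g
    ⟨c.tc.cN (mem_centralizer_singleton_iff.2 ht), hg⟩
  have h1 : Commute s t := tl c.tc (S2_le_L c.toSG S hs)
  have h2 : Commute κ t := by
    have := h1.inv_left.mul_left ht
    rwa [inv_mul_cancel_left] at this
  obtain ⟨o, ho, h3, h4, h5⟩ := split c.tc r hκ h2
  exact ⟨s, hs, o, ho, h3, h4, h5.imp (fun e => by rw [e]) fun e => by rw [e]⟩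

theorem i2_ne {u v : V} (h : I2 P u v) : u ≠ 0 := h.2.ne_zero 0

theorem li3 {u v w : V} : LinearIndependent F ![u, v, w] ↔
    ∀ a b c : F, a • u + b • v + c • w = 0 → a = 0 ∧ b = 0 ∧ c = 0 := by
  rw [Fintype.linearIndependent_iff]
  constructor
  · intro H a b c e
    have := H ![a, b, c] (by simpa [Fin.sum_univ_three] using e)
    exact ⟨this 0, this 1, this 2⟩
  · intro H g e i
    have := H (g 0) (g 1) (g 2) (by simpa [Fin.sum_univ_three] using e)
    fin_cases i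
    exacts [this.1, this.2.1, this.2.2]

theorem li2 {u v : V} : LinearIndependent F ![u, v] ↔
    ∀ a b : F, a • u + b • v = 0 → a = 0 ∧ b = 0 := LinearIndependent.pair_iff

theorem i3_12 {u v w : V} (H : I3 P u v w) : I2 P u v :=
  ⟨H.1, li2.2 fun a b e => by
    have := li3.1 H.2.2.2 a b 0 (by rw [zero_smul, add_zero, e]); exact ⟨this.1, this.2.1⟩⟩

theorem i3_13 {u v w : V} (H : I3 P u v w) : I2 P u w :=
  ⟨H.2.1, li2.2 fun a b e => by
    have := li3.1 H.2.2.2 a 0 b (by rw [zero_smul, add_zero, e]); exact ⟨this.1, this.2.2⟩⟩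

theorem i3_sum {u v w : V} (H : I3 P u v w) : I2 P u (v + w) :=
  ⟨by rw [P.f_add_right, H.1, H.2.1, add_zero], li2.2 fun a b e => by
    have := li3.1 H.2.2.2 a b b (by rw [add_assoc, ← smul_add, e]); exact ⟨this.1, this.2.2⟩⟩

theorem i2_smul (h : SG P φ L k) {u v : V} (H : I2 P u v) {b : F} (hb : b ≠ 0) :
    I2 P u (b • v) :=
  ⟨by rw [fr h, H.1, mul_zero], li2.2 fun x y e => by
    have := li2.1 H.2 x (y * b) (by rw [mul_smul, e])
    exact ⟨this.1, (mul_eq_zero.1 this.2).resolve_right hb⟩⟩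

theorem i3_smul (h : SG P φ L k) {u v w : V} (H : I3 P u v w) {b b' : F} (hb : b ≠ 0)
    (hb' : b' ≠ 0) : I3 P u (b • v) (b' • w) :=
  ⟨by rw [fr h, H.1, mul_zero], by rw [fr h, H.2.1, mul_zero],
    by rw [fr h, P.f_smul_left, H.2.2.1, mul_zero, mul_zero], li3.2 fun x y z e => by
    have := li3.1 H.2.2.2 x (y * b) (z * b') (by rw [mul_smul, mul_smul, e])
    exact ⟨this.1, (mul_eq_zero.1 this.2.1).resolve_right hb,
      (mul_eq_zero.1 this.2.2).resolve_right hb'⟩⟩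

theorem i3_shear (h : SG P φ L k) {u v w : V} (H : I3 P u v w) (b : F) :
    I3 P u v (b • v + w) :=
  ⟨H.1, by rw [P.f_add_right, fr h, H.1, H.2.1, mul_zero, add_zero],
    by rw [P.f_add_right, fr h, fs h, H.2.2.1, mul_zero, add_zero], li3.2 fun x y z e => by
    have := li3.1 H.2.2.2 x (y + z * b) z (by rw [← e]; module)
    refine ⟨this.1, ?_, this.2.2⟩
    have h1 := this.2.1
    rwa [this.2.2, zero_mul, add_zero] at h1⟩

theorem witt2 (h : SG P φ L k) (g1 : G1 P k) {u v u' v' : V} (H : I2 P u v) (H' : I2 P u' v') :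
    ∃ e : P.E, e.1 u = u' ∧ e.1 v = v' := by
  obtain ⟨e, he⟩ := g1.witt ![u, v] ![u', v'] H.2 H'.2 (by
    intro i j
    fin_cases i <;> fin_cases j <;> simp [fs h, H.1, H'.1, fc h v u, fc h v' u'])
  exact ⟨e, he 0, he 1⟩

theorem witt3 (h : SG P φ L k) (g1 : G1 P k) {u v w u' v' w' : V} (H : I3 P u v w)
    (H' : I3 P u' v' w') : ∃ e : P.E, e.1 u = u' ∧ e.1 v = v' ∧ e.1 w = w' := by
  obtain ⟨e, he⟩ := g1.witt ![u, v, w] ![u', v', w'] H.2.2.2 H'.2.2.2 (by
    intro i j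
    fin_cases i <;> fin_cases j <;>
      simp [fs h, H.1, H'.1, H.2.1, H'.2.1, H.2.2.1, H'.2.2.1, fc h v u, fc h v' u', fc h w u,
        fc h w' u', fc h w v, fc h w' v'])
  exact ⟨e, he 0, he 1, he 2⟩

theorem exists_i3 (h : SG P φ L k) (k3 : 3 ≤ k) {u v : V} (H : I2 P u v) :
    ∃ w, I3 P u v w := by
  have h1 : finrank F (Submodule.span F ({u, v} : Set V)) ≤ 2 := by
    classical
    refine (finrank_span_le_card ({u, v} : Set V)).trans ?_
    rw [Set.toFinset_insert, Set.toFinset_singleton]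
    exact Finset.card_le_two
  have h2 := P.finrank_perp (Submodule.span F ({u, v} : Set V))
  have h3 := h.dim
  have h4 : ¬ P.perp (Submodule.span F ({u, v} : Set V)) ≤ Submodule.span F ({u, v} : Set V) :=
    fun hle => by have := Submodule.finrank_mono hle; omega
  obtain ⟨w, hw, hw'⟩ := SetLike.not_le_iff_exists.1 h4
  rw [PForm.mem_perp_span] at hw
  refine ⟨w, H.1, by rw [fc h]; exact hw u (by simp), by rw [fc h]; exact hw v (by simp),
    li3.2 fun a b c e => ?_⟩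
  have hc : c = 0 := by
    by_contra hc
    refine hw' (Submodule.mem_span_pair.2 ⟨-(c⁻¹ * a), -(c⁻¹ * b), ?_⟩)
    have : w = c⁻¹ • (c • w) := by rw [smul_smul, inv_mul_cancel₀ hc, one_smul]
    rw [this, eq_neg_of_add_eq_zero_right e]
    module
  rw [hc, zero_smul, add_zero] at e
  exact ⟨(li2.1 H.2 a b e).1, (li2.1 H.2 a b e).2, hc⟩

theorem m2a (u v : V) : u ∈ Submodule.span F ({u, v} : Set V) := Submodule.subset_span (by simp)
theorem m2b (u v : V) : v ∈ Submodule.span F ({u, v} : Set V) := Submodule.subset_span (by simp)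
theorem m3a (u v w : V) : u ∈ Submodule.span F ({u, v, w} : Set V) :=
  Submodule.subset_span (by simp)
theorem m3b (u v w : V) : v ∈ Submodule.span F ({u, v, w} : Set V) :=
  Submodule.subset_span (by simp)
theorem m3c (u v w : V) : w ∈ Submodule.span F ({u, v, w} : Set V) :=
  Submodule.subset_span (by simp)

theorem iso2 (h : SG P φ L k) {u v : V} (H : P.f u v = 0) :
    ∀ x ∈ ({u, v} : Set V), ∀ y ∈ ({u, v} : Set V), P.f x y = 0 := by
  have H' := (fc h _ _).trans H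
  rintro x (rfl | rfl) y (rfl | rfl) <;> first | exact fs h _ | assumption

theorem iso3 (h : SG P φ L k) {u v w : V} (H : I3 P u v w) :
    ∀ x ∈ ({u, v, w} : Set V), ∀ y ∈ ({u, v, w} : Set V), P.f x y = 0 := by
  have a := H.1
  have b := H.2.1
  have c := H.2.2.1
  have a' := (fc h _ _).trans a
  have b' := (fc h _ _).trans b
  have c' := (fc h _ _).trans c
  rintro x (rfl | rfl | rfl) y (rfl | rfl | rfl) <;> first | exact fs h _ | assumption

theorem iso_span {S : Set V} (H : ∀ x ∈ S, ∀ y ∈ S, P.f x y = 0) {x y : V}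
    (hx : x ∈ Submodule.span F S) (hy : y ∈ Submodule.span F S) : P.f x y = 0 :=
  (Submodule.span_le (p := P.perp (Submodule.span F S))).2
    (fun z hz => PForm.mem_perp_span.2 (H z hz)) hx y hy

theorem perp_ne {S : Set V} (H : ∀ x ∈ S, ∀ y ∈ S, P.f x y = 0) {u : V} (hu : u ∈ S)
    (h0 : u ≠ 0) : P.perp (Submodule.span F S) ≠ ⊥ := fun e => by
  have : u ∈ P.perp (Submodule.span F S) := PForm.mem_perp_span.2 (H u hu)
  rw [e] at this
  exact h0 this

section Mv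

variable {c0 : F} {u v : V} {b : F} {p : G}

theorem cY {S : Set V} (hp : p ∈ C[YW P φ S]) {y : G} (hy : y ∈ YW P φ S) : Commute p y :=
  (hp y hy).symm

/-- A mover commutes with the Eichler transformations with data orthogonal to the line. -/
theorem cET (h : SG P φ L k) (hp : p ∈ C[YW P φ {u, v}]) {a r : V} (h1 : P.f u a = 0)
    (h2 : P.f v a = 0) (h3 : P.f u r = 0) (h4 : P.f v r = 0) (c : F) :
    Commute p (ET P φ a r c) :=
  cY hp (ET_mem_YW h (by rintro _ (rfl | rfl) <;> assumption)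
    (by rintro _ (rfl | rfl) <;> assumption) c)

theorem cX (h : SG P φ L k) (H : P.f u v = 0) (hp : p ∈ C[YW P φ {u, v}]) (c : F) :
    Commute p (Es P φ u (c • v)) :=
  cET h hp (fs h _) ((fc h _ _).trans H) (by rw [fr h, H, mul_zero]) (by rw [fr h, fs h, mul_zero]) 0

theorem mv_smul (hb : b ≠ 0) : Mv P φ t c0 u v b p ↔ Mv P φ t c0 u (b • v) 1 p := by
  have e : YW P φ {u, b • v} = YW P φ {u, v} := by
    have := Submodule.smul_mem _ b⁻¹ (m2b (F := F) u (b • v))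
    rw [smul_smul, inv_mul_cancel₀ hb, one_smul] at this
    refine le_antisymm (YW_anti ?_) (YW_anti ?_)
    · rintro _ (rfl | rfl)
      · exact m2a _ _
      · exact this
    · rintro _ (rfl | rfl)
      · exact m2a _ _
      · exact Submodule.smul_mem _ b (m2b _ _)
  constructor
  · intro H
    exact ⟨e ▸ H.cent, by rw [one_smul, H.mv], by rw [H.sq, mul_one, mul_smul],
      fun h => absurd h one_ne_zero⟩
  · intro H
    exact ⟨e ▸ H.cent, by rw [H.mv, one_smul], by rw [H.sq, mul_one, mul_smul],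
      fun h => absurd h hb⟩

theorem YW_conj (e : P.E) {y : G} (hy : y ∈ YW P φ {e.1 u, e.1 v}) :
    (φ e)⁻¹ * y * φ e ∈ YW P φ {u, v} := by
  obtain ⟨e', he', rfl⟩ := hy
  refine ⟨e⁻¹ * e' * e, ?_, by rw [map_mul, map_mul, map_inv]⟩
  rintro _ (rfl | rfl)
  · rw [emul, emul, he' _ (by simp), einv_apply]
  · rw [emul, emul, he' _ (by simp), einv_apply]

theorem cent_conj (e : P.E) (hp : p ∈ C[YW P φ {u, v}]) :
    φ e * p * (φ e)⁻¹ ∈ C[YW P φ {e.1 u, e.1 v}] := fun y hy => by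
  have := hp _ (YW_conj e hy)
  calc y * (φ e * p * (φ e)⁻¹) = φ e * ((φ e)⁻¹ * y * φ e * p) * (φ e)⁻¹ := by group
    _ = φ e * p * (φ e)⁻¹ * y := by rw [this]; group

theorem mv_conj (h : SG P φ L k) (tc : Tc L t) (e : P.E) (H : Mv P φ t c0 u v 1 p) :
    Mv P φ t c0 (e.1 u) (e.1 v) 1 (φ e * p * (φ e)⁻¹) := by
  have ht : φ e * t * (φ e)⁻¹ = t := by rw [(tl tc (φ_mem h e)).eq, mul_inv_cancel_right]
  refine ⟨cent_conj e H.cent, ?_, ?_, fun h => absurd h one_ne_zero⟩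
  · calc _ = φ e * (p * ((φ e)⁻¹ * (φ e * t * (φ e)⁻¹) * φ e) * p⁻¹) * (φ e)⁻¹ := by
          rw [ht]; group
      _ = φ e * t * (φ e)⁻¹ * (φ e * Es P φ u ((1 : F) • v) * (φ e)⁻¹) := by
          rw [show (φ e)⁻¹ * (φ e * t * (φ e)⁻¹) * φ e = t by group, H.mv]; group
      _ = _ := by rw [ht, conj_Es h, map_smul]
  · calc _ = φ e * (p * p) * (φ e)⁻¹ := by group
      _ = _ := by rw [H.sq, conj_Es h, map_smul]

theorem co_mul {p' : G} (H : CO L t p) (H' : CO L t p') : CO L t (p * p') :=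
  fun κ a b c => (H κ a b c).mul_right (H' κ a b c)

theorem co_inv (H : CO L t p) : CO L t p⁻¹ := fun κ a b c => (H κ a b c).inv_right

theorem co_L {l : G} (hl : l ∈ L) : CO L t l := fun _ a _ _ => (a l hl).symm

theorem co_t : CO L t t := fun _ _ b _ => b

/-- The square of `p t`. -/
theorem sq_t (tc : Tc L t) {z : G} (hz : z ∈ L) (hp : p * t * p⁻¹ = t * z) (h2 : p * p ∈ L) :
    p * t * (p * t) = z * (p * p) := by
  calc p * t * (p * t) = p * t * p⁻¹ * (p * p * t) := by group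
    _ = t * (z * (p * p) * t) := by rw [hp]; group
    _ = _ := by rw [(tl tc (mul_mem hz h2)).eq, ← mul_assoc, tt tc, one_mul]

theorem mv_t (h : SG P φ L k) (tc : Tc L t) (H0 : P.f u v = 0) (H : Mv P φ t c0 u v 1 p) :
    Mv P φ t (c0 + 1) u v 1 (p * t) := by
  refine ⟨mul_mem H.cent fun y hy => tl tc (YW_le_L h _ hy), ?_, ?_,
    fun h => absurd h one_ne_zero⟩
  · rw [← H.mv]; group
  · rw [sq_t tc (ET_mem h _ _ _) H.mv (H.sq ▸ ET_mem h _ _ _), H.sq, ← Es_adds h H0]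
    congr 2
    ring

end Mv

variable (P φ L t) in
/-- Movers with the constant `c0` exist. -/
def Good (c0 : F) : Prop := ∀ u v, I2 P u v → ∃ p, Mv P φ t c0 u v 1 p ∧ CO L t p

variable (P φ t) in
/-- The movers with the constant `c0` commute. -/
def Com (c0 : F) : Prop := ∀ u v w, I3 P u v w → ∀ p p', Mv P φ t c0 u v 1 p →
  Mv P φ t c0 u w 1 p' → Commute p p'

theorem good_ex (c : Ctx P φ L k t) (H : HA P φ L t) : ∃ c0, Good P φ L t c0 := by
  have h : SG P φ L k := c.toSG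
  by_cases h0 : ∃ u v, I2 P u v
  · obtain ⟨u0, v0, h0⟩ := h0
    obtain ⟨p, h1, h2, ⟨c0, h3⟩, h4⟩ := H u0 v0 h0 1
    refine ⟨c0, fun u v huv => ?_⟩
    obtain ⟨e, rfl, rfl⟩ := witt2 h c.g1 h0 huv
    exact ⟨_, mv_conj h c.tc e ⟨h1, h2, by rw [mul_one, h3], fun h => absurd h one_ne_zero⟩,
      co_mul (co_mul (co_L (φ_mem h e)) h4) (co_L (inv_mem (φ_mem h e)))⟩
  · exact ⟨0, fun u v huv => absurd ⟨u, v, huv⟩ h0⟩

theorem good_succ (c : Ctx P φ L k t) {c0 : F} (H : Good P φ L t c0) : Good P φ L t (c0 + 1) :=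
  fun u v huv => by
    obtain ⟨p, h1, h2⟩ := H u v huv
    exact ⟨p * t, mv_t c.toSG c.tc huv.1 h1, co_mul h2 co_t⟩

/-- The movers form one coset. -/
theorem coset1 (c : Ctx P φ L k t) (r : R2 L t) {c0 : F} {u v : V} (huv : I2 P u v) {p p' : G}
    (H : Mv P φ t c0 u v 1 p) (Ho : CO L t p) (H' : Mv P φ t c0 u v 1 p') :
    ∃ s ∈ S2 P φ {u, v}, p' = p * s := by
  have h : SG P φ L k := c.toSG
  have hi := iso2 h huv.1
  obtain ⟨e1, e2, e3, -, -⟩ := c.g2.el _ hi
  have ht : Commute (p⁻¹ * p') t := by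
    have : p' * t * p'⁻¹ = p * t * p⁻¹ := by rw [H.mv, H'.mv]
    calc p⁻¹ * p' * t = p⁻¹ * (p' * t * p'⁻¹) * p' := by group
      _ = t * (p⁻¹ * p') := by rw [this]; group
  obtain ⟨s, hs, o, ho, h1, h2, h3⟩ := ker c r (perp_ne hi (u := u) (by simp) (i2_ne huv))
    (mul_mem (inv_mem H.cent) H'.cent) ht
  have ps : Commute p s := cY H.cent (e3 (e2 hs))
  have po : Commute p o := (Ho o ho h1 h2).symm
  have so : Commute s o := ho s (S2_le_L h _ hs)
  have st : Commute s t := tl c.tc (S2_le_L h _ hs)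
  rcases h3 with h3 | h3
  · have e : p' = p * s * o := by rw [mul_assoc, ← h3, mul_inv_cancel_left]
    have e' := H'.sq
    rw [e, ← pow_two, (po.mul_left so).mul_pow, ps.mul_pow, pow_two, pow_two, pow_two, e1 s hs,
      mul_one, H.sq, mul_eq_left] at e'
    exact ⟨s, hs, by rw [e, odd_sq h2 e', mul_one]⟩
  · exfalso
    have e : p' = p * t * s * o := by
      rw [mul_assoc p t s, ← st.eq, mul_assoc, mul_assoc, ← h3, mul_inv_cancel_left]
    have e' := H'.sq
    rw [e, ← pow_two, ((po.mul_left h1.symm).mul_left so).mul_pow,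
      (ps.mul_left st.symm).mul_pow, pow_two, pow_two, pow_two, e1 s hs, mul_one,
      sq_t c.tc (ET_mem h _ _ _) H.mv (H.sq ▸ ET_mem h _ _ _), H.sq,
      (comm_same h _ _ _ _ _).eq, mul_assoc, mul_eq_left] at e'
    have e4 : o * o = Es P φ u ((1 : F) • v) := by
      rw [← Es_inv h]; exact eq_inv_of_mul_eq_one_right e'
    rw [odd_four h2 (by rw [e4, Es_sq h]), mul_one, eq_comm, Es_eq_one h huv] at e4
    exact one_ne_zero e4

theorem coset (c : Ctx P φ L k t) (r : R2 L t) {c0 : F} (Hg : Good P φ L t c0) {u v : V}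
    (huv : I2 P u v) {p p' : G} (H : Mv P φ t c0 u v 1 p) (H' : Mv P φ t c0 u v 1 p') :
    CO L t p ∧ ∃ s ∈ S2 P φ {u, v}, p' = p * s := by
  obtain ⟨p0, h1, h2⟩ := Hg u v huv
  obtain ⟨s, hs, rfl⟩ := coset1 c r huv h1 h2 H
  have := co_mul h2 (co_L (S2_le_L c.toSG _ hs))
  exact ⟨this, coset1 c r huv H this H'⟩

/-- The main computation. -/
theorem main3 (c : Ctx P φ L k t) (r : R2 L t) {c0 : F} (Hg : Good P φ L t c0) {u v w : V}
    (H : I3 P u v w) {p1 p2 p3 : G} (H1 : Mv P φ t c0 u v 1 p1) (H2 : Mv P φ t c0 u w 1 p2)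
    (H3 : Mv P φ t c0 u (v + w) 1 p3) :
    (Commute p1 p2 ∧ p1 * p2 * p3 ∈ S2 P φ {u, v, w}) ∨
      p1 * p2 = Es P φ u (v + w) * (p2 * p1) := by
  have h : SG P φ L k := c.toSG
  have hi := iso3 h H
  have huv := i3_12 H
  have huw := i3_13 H
  have hs3 := i3_sum H
  obtain ⟨e1, -, -, -, -⟩ := c.g2.el _ hi
  have o1 := (coset c r Hg huv H1 H1).1
  have o2 := (coset c r Hg huw H2 H2).1
  have o3 := (coset c r Hg hs3 H3 H3).1
  have mvw : v + w ∈ Submodule.span F ({u, v, w} : Set V) := add_mem (m3b _ _ _) (m3c _ _ _)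
  have y1 : YW P φ {u, v, w} ≤ YW P φ {u, v} :=
    YW_anti (by rintro _ (rfl | rfl); exacts [m3a _ _ _, m3b _ _ _])
  have y2 : YW P φ {u, v, w} ≤ YW P φ {u, w} :=
    YW_anti (by rintro _ (rfl | rfl); exacts [m3a _ _ _, m3c _ _ _])
  have y3 : YW P φ {u, v, w} ≤ YW P φ {u, v + w} :=
    YW_anti (by rintro _ (rfl | rfl); exacts [m3a _ _ _, mvw])
  have sy : S2 P φ {u, v, w} ≤ YW P φ {u, v, w} := S2_le_YW h hi
  have E : ∀ x ∈ Submodule.span F ({u, v, w} : Set V), Es P φ u x ∈ S2 P φ {u, v, w} :=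
    fun x hx => ET_mem_S2 h c.g2 (m3a _ _ _) hx 0
  have Ev := fun a : F => E _ (Submodule.smul_mem _ a (m3b u v w))
  have Ew := fun a : F => E _ (Submodule.smul_mem _ a (m3c u v w))
  have Eadd : ∀ a : F, Es P φ u (a • (v + w)) = Es P φ u (a • v) * Es P φ u (a • w) := fun a => by
    rw [smul_add, Es_add0 h (by rw [fr h, H.1, mul_zero]) (by rw [fr h, H.2.1, mul_zero])
      (by rw [fr h, P.f_smul_left, H.2.2.1, mul_zero, mul_zero])]
  have ht : Commute (p3⁻¹ * (p1 * p2)) t := by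
    have : p1 * p2 * t * (p1 * p2)⁻¹ = p3 * t * p3⁻¹ := by
      calc p1 * p2 * t * (p1 * p2)⁻¹ = p1 * (p2 * t * p2⁻¹) * p1⁻¹ := by group
        _ = p1 * t * (Es P φ u ((1 : F) • w) * p1⁻¹) := by rw [H2.mv]; group
        _ = p1 * t * p1⁻¹ * Es P φ u ((1 : F) • w) := by
            rw [← (cY H1.cent (y1 (sy (Ew 1)))).inv_left.eq]; group
        _ = _ := by rw [H1.mv, H3.mv, Eadd, mul_assoc]
    calc p3⁻¹ * (p1 * p2) * t = p3⁻¹ * (p1 * p2 * t * (p1 * p2)⁻¹) * (p1 * p2) := by group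
      _ = t * (p3⁻¹ * (p1 * p2)) := by rw [this]; group
  obtain ⟨s, hs, o, ho, h1, h2, h3⟩ := ker c r (perp_ne hi (u := u) (by simp) (i2_ne huv))
    (mul_mem (inv_mem (centralizer_le y3 H3.cent))
      (mul_mem (centralizer_le y1 H1.cent) (centralizer_le y2 H2.cent))) ht
  have ps : Commute p3 s := cY H3.cent (y3 (sy hs))
  have po : Commute p3 o := (o3 o ho h1 h2).symm
  have so : Commute s o := ho s (S2_le_L h _ hs)
  have st : Commute s t := tl c.tc (S2_le_L h _ hs)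
  have q12 : Commute p2 (p1 * p1) := H1.sq ▸ cY H2.cent (y2 (sy (Ev _)))
  have q21 : Commute p1 (p2 * p2) := H2.sq ▸ cY H1.cent (y1 (sy (Ew _)))
  -- the square of `p1 p2`
  have sq12 : p1 * p2 * (p1 * p2) = p1 * p2 * (p2 * p1)⁻¹ * (p3 * p3) := by
    rw [H3.sq, Eadd, ← H1.sq, ← H2.sq]
    calc p1 * p2 * (p1 * p2) = p1 * p2 * (p2 * p1)⁻¹ * (p2 * (p1 * p1) * p2) := by group
      _ = _ := by rw [q12.eq]; group
  -- killing the odd part
  have kill : ∀ z ∈ S2 P φ {u, v, w}, p1 * p2 * (p2 * p1)⁻¹ = z * (o * o) → o = 1 := by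
    intro z hz e
    have a1 : p1 * p2 * p1⁻¹ = z * (o * o) * p2 := by rw [← e]; group
    have a2 : p1 * p2 * p1⁻¹ * (p1 * p2 * p1⁻¹) = p2 * p2 := by
      calc _ = p1 * (p2 * p2) * p1⁻¹ := by group
        _ = _ := by rw [q21.eq, mul_inv_cancel_right]
    have a3 : Commute z p2 := (cY H2.cent (y2 (sy hz))).symm
    have a4 : Commute o p2 := o2 o ho h1 h2
    have a5 : Commute z o := ho z (S2_le_L h _ hz)
    rw [a1, ← pow_two, (a3.mul_left (a4.mul_left a4)).mul_pow, (a5.mul_right a5).mul_pow,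
      pow_two, pow_two, pow_two, e1 z hz, one_mul, mul_eq_right] at a2
    exact odd_four h2 a2
  have oL : Commute (p3 * p3) (o * o) := (po.mul_left po).mul_right (po.mul_left po)
  rcases h3 with h3 | h3
  · left
    have e : p1 * p2 = p3 * s * o := by rw [mul_assoc p3, ← h3, mul_inv_cancel_left]
    have e' : p1 * p2 * (p2 * p1)⁻¹ = 1 * (o * o) := by
      conv_lhs at sq12 => rw [e, ← pow_two, (po.mul_left so).mul_pow, ps.mul_pow, pow_two, pow_two,
        pow_two, e1 s hs, mul_one, oL.eq]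
      rw [one_mul]
      exact (mul_right_cancel sq12).symm
    have o1 := kill 1 (one_mem _) e'
    rw [o1, mul_one, mul_one, mul_inv_eq_one] at e'
    refine ⟨e', ?_⟩
    rw [e, o1, mul_one, ps.eq, mul_assoc, H3.sq]
    exact mul_mem hs (E _ (Submodule.smul_mem _ _ mvw))
  · right
    have e : p1 * p2 = p3 * t * s * o := by
      rw [mul_assoc p3 t s, ← st.eq, mul_assoc p3, mul_assoc s, ← h3, mul_inv_cancel_left]
    have e' : p1 * p2 * (p2 * p1)⁻¹ = Es P φ u ((1 : F) • (v + w)) * (o * o) := by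
      conv_lhs at sq12 => rw [e, ← pow_two, ((po.mul_left h1.symm).mul_left so).mul_pow,
        (ps.mul_left st.symm).mul_pow, pow_two, pow_two, pow_two, e1 s hs, mul_one,
        sq_t c.tc (ET_mem h _ _ _) H3.mv (H3.sq ▸ ET_mem h _ _ _), mul_assoc, oL.eq, ← mul_assoc]
      exact (mul_right_cancel sq12).symm
    have o1 := kill _ (E _ (Submodule.smul_mem _ _ mvw)) e'
    rw [o1, mul_one, mul_one, one_smul] at e'
    rw [← e', inv_mul_cancel_right]

/-- One commuting pair suffices. -/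
theorem com_of (c : Ctx P φ L k t) (r : R2 L t) {c0 : F} (Hg : Good P φ L t c0) {u v w : V}
    (H : I3 P u v w) {p1 p2 : G} (H1 : Mv P φ t c0 u v 1 p1) (H2 : Mv P φ t c0 u w 1 p2)
    (h12 : Commute p1 p2) : Com P φ t c0 := by
  have h : SG P φ L k := c.toSG
  intro u' v' w' H' q1 q2 Q1 Q2
  obtain ⟨e, rfl, rfl, rfl⟩ := witt3 h c.g1 H H'
  have M1 := mv_conj h c.tc e H1
  have M2 := mv_conj h c.tc e H2
  obtain ⟨-, s1, hs1, e1⟩ := coset c r Hg (i3_12 H') M1 Q1
  obtain ⟨-, s2, hs2, e2⟩ := coset c r Hg (i3_13 H') M2 Q2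
  have hi := iso3 h H'
  have a1 : Commute q2 s1 := cY Q2.cent (S2_le_YW h (by
    rintro _ (rfl | rfl) _ (rfl | rfl) <;> exact hi _ (by simp) _ (by simp)) hs1)
  have a2 : Commute (φ e * p1 * (φ e)⁻¹) s2 := cY M1.cent (S2_le_YW h (by
    rintro _ (rfl | rfl) _ (rfl | rfl) <;> exact hi _ (by simp) _ (by simp)) hs2)
  rw [e1]
  refine Commute.mul_left ?_ a1.symm
  rw [e2]
  exact (h12.conj _).mul_right a2

theorem com_ex (c : Ctx P φ L k t) (r : R2 L t) (H : HA P φ L t) :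
    ∃ c0, Good P φ L t c0 ∧ Com P φ t c0 := by
  have h : SG P φ L k := c.toSG
  obtain ⟨c0, Hg⟩ := good_ex c H
  by_cases hc : Com P φ t c0
  · exact ⟨c0, Hg, hc⟩
  refine ⟨c0 + 1, good_succ c Hg, ?_⟩
  simp only [Com, not_forall] at hc
  obtain ⟨u, v, w, H, p1, p2, H1, H2, hn⟩ := hc
  obtain ⟨p3, H3, -⟩ := Hg u (v + w) (i3_sum H)
  rcases main3 c r Hg H H1 H2 H3 with e | e
  · exact absurd e.1 hn
  refine com_of c r (good_succ c Hg) H (mv_t h c.tc H.1 H1) (mv_t h c.tc H.2.1 H2) ?_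
  have hi := iso3 h H
  have b : ∀ {x : V} {p : G}, P.f u x = 0 → Mv P φ t c0 u x 1 p → t * p * t = p * Es P φ u x := by
    intro x p hx Hp
    have a1 := Hp.mv
    have a2 := cX h hx Hp.cent 1
    rw [one_smul] at a1 a2
    have a3 : p * t = t * Es P φ u x * p := by rw [← a1]; group
    rw [mul_assoc, a3, ← mul_assoc, ← mul_assoc, tt c.tc, one_mul, a2.eq]
  have c1 : Commute p1 (Es P φ u (v + w)) := cET h H1.cent (fs h _) (hi _ (by simp) _ (by simp))
    (i3_sum H).1 (by rw [P.f_add_right, fs h, H.2.2.1, add_zero]) 0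
  have c2 : Commute p2 (Es P φ u (v + w)) := cET h H2.cent (fs h _) (hi _ (by simp) _ (by simp))
    (i3_sum H).1 (by rw [P.f_add_right, fs h, fc h, H.2.2.1, add_zero]) 0
  calc p1 * t * (p2 * t) = p1 * (t * p2 * t) := by group
    _ = p2 * p1 * (Es P φ u (v + w) * Es P φ u w) := by
        rw [b H.2.1 H2, ← mul_assoc, e, ← (c2.mul_left c1).eq, mul_assoc]
    _ = p2 * (t * p1 * t) := by
        rw [b H.1 H1, Es_add0 h H.1 H.2.1 H.2.2.1, mul_assoc (Es P φ u v), Es_sq h, mul_one,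
          mul_assoc]
    _ = _ := by group

/-- **H1B** -/
theorem h1b : H1bStmt.{u, v} := by
  intro F V _ _ _ _ _ G _ _ P φ L k t c r H
  have h : SG P φ L k := c.toSG
  obtain ⟨c0, Hg, Hc⟩ := com_ex c r H
  have ex : ∀ u v, I2 P u v → ∀ b, ∃ p, Mv P φ t c0 u v b p := by
    intro u v huv b
    by_cases hb : b = 0
    · subst hb
      exact ⟨1, one_mem _, by rw [zero_smul, Es_zero]; group,
        by rw [mul_zero, zero_smul, Es_zero, one_mul], fun _ => one_mem _⟩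
    · obtain ⟨p, hp, -⟩ := Hg u (b • v) (i2_smul h huv hb)
      exact ⟨p, (mv_smul hb).2 hp⟩
  have com3 : ∀ u v w, I3 P u v w → ∀ b b' p p', Mv P φ t c0 u v b p → Mv P φ t c0 u w b' p' →
      Commute p p' := by
    intro u v w H b b' p p' Hp Hp'
    have hi := iso3 h H
    by_cases hb : b = 0
    · exact (cY Hp'.cent (S2_le_YW h (by
        rintro _ (rfl | rfl) _ (rfl | rfl) <;> exact hi _ (by simp) _ (by simp)) (Hp.zero hb))).symm
    by_cases hb' : b' = 0
    · exact cY Hp.cent (S2_le_YW h (by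
        rintro _ (rfl | rfl) _ (rfl | rfl) <;> exact hi _ (by simp) _ (by simp)) (Hp'.zero hb'))
    exact Hc _ _ _ (i3_smul h H hb hb') _ _ ((mv_smul hb).1 Hp) ((mv_smul hb').1 Hp')
  have add3 : ∀ u v w, I3 P u v w → ∀ p p' p'', Mv P φ t c0 u v 1 p → Mv P φ t c0 u w 1 p' →
      Mv P φ t c0 u (v + w) 1 p'' → p * p' * p'' ∈ S2 P φ {u, v, w} := by
    intro u v w H p p' p'' H1 H2 H3
    rcases main3 c r Hg H H1 H2 H3 with e | e
    · exact e.2
    · rw [(Hc _ _ _ H _ _ H1 H2).eq, right_eq_mul, ← one_smul F (v + w),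
        Es_eq_one h (i3_sum H)] at e
      exact absurd e one_ne_zero
  refine ⟨c0, ex, ?_, ?_, com3, add3⟩
  · intro u v huv b b' p p' Hp Hp'
    have hi := iso2 h huv.1
    have hc : Commute p p' := by
      by_cases hb' : b' = 0
      · exact cY Hp.cent (S2_le_YW h hi (Hp'.zero hb'))
      obtain ⟨w, H⟩ := exists_i3 h c.k3 huv
      have H' := i3_smul h H hb' one_ne_zero
      rw [one_smul] at H'
      obtain ⟨q, hq⟩ := ex u w (i3_13 H) 1
      obtain ⟨q', hq'⟩ := ex u _ (i3_sum H') 1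
      have a1 := add3 _ _ _ H' _ _ _ ((mv_smul hb').1 Hp') hq hq'
      have hi3 := iso3 h H
      have a2 : Commute p (p' * q * q') := cY Hp.cent (S2_le_YW h (fun x hx y hy =>
        iso_span hi3 (by rcases hx with rfl | rfl; exacts [m3a _ _ _, m3b _ _ _]) (by
          rcases hy with rfl | rfl | rfl
          exacts [m3a _ _ _, Submodule.smul_mem _ _ (m3b _ _ _), m3c _ _ _])) a1)
      have a3 := com3 _ _ _ H _ _ _ _ Hp hq
      have a4 := com3 _ _ _ (i3_shear h H b') _ _ _ _ Hp hq'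
      have a5 := (a2.mul_right a4.inv_right).mul_right a3.inv_right
      rwa [mul_inv_cancel_right, mul_inv_cancel_right] at a5
    refine ⟨mul_mem Hp.cent Hp'.cent, ?_, ?_, fun e => ?_⟩
    · calc p * p' * t * (p * p')⁻¹ = p * (p' * t * p'⁻¹) * p⁻¹ := by group
        _ = p * t * (Es P φ u (b' • v) * p⁻¹) := by rw [Hp'.mv]; group
        _ = p * t * p⁻¹ * Es P φ u (b' • v) := by
            rw [← (cX h huv.1 Hp.cent b').inv_left.eq]; group
        _ = _ := by rw [Hp.mv, Es_adds h huv.1, mul_assoc]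
    · rw [← pow_two, hc.mul_pow, pow_two, pow_two, Hp.sq, Hp'.sq, mul_add, Es_adds h huv.1]
    · have e' : b' = b := by rw [← fneg h b]; exact eq_neg_of_add_eq_zero_right e
      subst e'
      by_cases hb : b' = 0
      · exact mul_mem (Hp.zero hb) (Hp'.zero hb)
      obtain ⟨-, s, hs, rfl⟩ := coset c r Hg (i2_smul h huv hb) ((mv_smul hb).1 Hp)
        ((mv_smul hb).1 Hp')
      rw [← mul_assoc, Hp.sq]
      refine mul_mem (ET_mem_S2 h c.g2 (m2a _ _) (Submodule.smul_mem _ _ (m2b _ _)) 0)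
        (S2_mono ?_ hs)
      rintro _ (rfl | rfl)
      exacts [m2a _ _, Submodule.smul_mem _ _ (m2b _ _)]
  · intro u v huv b p Hp
    by_cases hb : b = 0
    · exact co_L (S2_le_L h _ (Hp.zero hb))
    exact (coset c r Hg (i2_smul h huv hb) ((mv_smul hb).1 Hp) ((mv_smul hb).1 Hp)).1

end Cfsg.Agent.H31.SpH
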