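import Cfsg.Agent.H31.WrCls
import Cfsg.Agent.H34.TwKit1
import Cfsg.Agent.H37.InvN

/-! Twisted types: an involution with trivial graph part commuting with `τ` is conjugate under the
twisted group to a monomial element. -/

set_option autoImplicit false
set_option linter.unusedSectionVars false

namespace Cfsg.Agent.H31.WrX

open Cfsg H63 H63.SL H63.WR H34 H34.TW H40 H40.LF H80 H75 H35 Subgroup Equiv
open H27.End hiding mem_C
open H35.NF (Mono Orth NFm)
open scoped commutatorElement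

universe u v w

variable {ι Φ : Type} [Fintype ι] [DecidableEq ι] {R : RS ι Φ}

section Split

variable {F : Type v} [Field F] {G : Type u} [Group G] {x : Φ → F → G}

/-- The elements normalizing each root subgroup semilinearly. -/
def Hf (p : Pin R x) : Subgroup G where
  carrier := {g | ∃ φ, Mono x g 1 φ}
  one_mem' := ⟨1, H35.NF.mono_one⟩
  mul_mem' := fun ⟨_, m⟩ ⟨_, m'⟩ => ⟨_, by simpa using m.mul m'⟩
  inv_mem' := fun ⟨_, m⟩ => ⟨_, by simpa using m.inv p⟩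

variable (h : Lace R) (p : Pin R x) (sep : ∀ u ∈ Up R x, u ∈ Hf p → u = 1)

/-- The root datum with field automorphisms in the torus. -/
def rdF : RD (sgn R) G where
  X := XR x
  H := Hf p
  n i := nn R x (R.simple i) 1
  n_mem i := mul_mem (mul_mem (mem_sup_left (x_mem_XR _ _)) (mem_sup_right (x_mem_XR _ _)))
    (mem_sup_left (x_mem_XR _ _))
  n_conj i r y hy := by
    obtain ⟨a, rfl⟩ := (mem_XR p).1 hy
    rw [PinM.nn_conj h p, R.τ_simple]
    exact x_mem_XR _ _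
  n_sq i := by rw [PinM.nn_mul_self p]; exact one_mem _
  n_H := by
    rintro i g ⟨φ, m⟩
    have m1 := H35.NF.mono_of_lift (PinM.nn_conj h p (R.simple i))
    exact ⟨_, by simpa using (m1.mul m).mul (m1.inv p)⟩
  H_conj := by
    rintro g ⟨φ, χ, e⟩ r y hy
    obtain ⟨a, rfl⟩ := (mem_XR p).1 hy
    rw [e]; exact x_mem_XR _ _
  comm r s hr hs _ y hy z hz := PinM.comm_mem h p hr hs (A := Opn (sgn R) r s) (fun k hk =>
    ⟨Coord.btw_of_rel (rsCoord1 R) zero_le_one zero_le_one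
      (by simpa using rsCoord1_rel R (a := 1) (b := 1) (by simpa using hk)),
    fun e => R.rc_ne_zero s (by simpa [e] using hk.symm),
    fun e => R.rc_ne_zero r (by simpa [e] using hk.symm)⟩) hy hz
  sl2 i y hy h1 := by
    obtain ⟨a, rfl⟩ := (mem_XR p).1 hy
    have ha : a ≠ 0 := fun e => h1 (by rw [e, SL.x_zero p])
    refine ⟨_, x_mem_XR _ (↑(Units.mk0 a ha)⁻¹ : F), _,
      ⟨1, H35.NF.mono_hh p h (R.simple i) (Units.mk0 a ha)⁻¹⟩, _,
      x_mem_XR _ (↑(Units.mk0 a ha)⁻¹ : F), ?_⟩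
    rw [hh, mul_assoc _ _ (nn R x _ 1), mul_assoc _ _ (nn R x _ 1), PinM.nn_mul_self p, mul_one, nn,
      ← mul_assoc, ← mul_assoc, sgn_α, SL.x_mul_self p, one_mul, mul_assoc, SL.x_mul_self p]
    simp
  nondeg i := ⟨_, x_mem_XR _ 1, fun hu => by
    obtain ⟨k, hk⟩ := PinM.isPGroup_Up h p ⟨_, mul_mem (x_mem_UU (R.pos_simple i) 1) hu⟩
    exact PinM.opp_not_two h p _ k (congrArg Subtype.val hk)⟩
  sepH := sep

include h sep in
theorem exists_split (gen : Hf p ⊔ UU x Set.univ = ⊤) :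
    ∃ P : Split (sgn R) G, ∀ r, P.X r = XR x r :=
  haveI := h.fin
  have d : RDL (rdF h p sep) (rsCoord1 R) :=
    ⟨fun r s hr hs y hy z hz => by
      refine PinM.comm_mem h p hr hs (fun k hk => ?_) hy hz
      exact ⟨1, 1, le_rfl, le_rfl,
        by simpa using rsCoord1_rel R (a := 1) (b := 1) (by simpa using hk)⟩,
      RDS.sepV (Phi_univ R), gen⟩
  ⟨d.split, fun _ => rfl⟩

theorem mono_uniq {L : Subgroup G} (hL : Lace R) (hM : Mod R L x) {g : G} {θ θ' : Perm Φ}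
    {φ φ' : F ≃+* F} (m : Mono x g θ φ) (m' : Mono x g θ' φ') : θ = θ' := by
  obtain ⟨χ, e⟩ := m
  obtain ⟨χ', e'⟩ := m'
  exact Perm.ext fun r => H35.NF.root_eq hL hM ((e r 1).symm.trans (e' r 1))
    (H35.NF.chi_ne hM.pin (e r 1))

end Split

variable {γ : Perm Φ} {F E : Type v} [Field F] [Field E] [Finite F] [Finite E] {i : F →+* E}
  {σ : E ≃+* E} {G : Type u} [Group G] [Finite G] {M : Type w} [Group M] [Finite M]
  {L : Subgroup G} {xl : Φ → F → G} {xs : Φ → E → G} {x : Φ → E → M} {τ : M} {π : G → M}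
  (c : TCtx R γ i σ L xl xs x τ π)
include c

theorem typ_inv' {g : M} {δ : Perm Φ} {φ : E ≃+* E} (t : Typ R (UU x Set.univ) x g δ φ) :
    Typ R (UU x Set.univ) x g⁻¹ δ⁻¹ φ⁻¹ := by
  obtain ⟨γ', φ', t'⟩ := c.typ g⁻¹
  have := H37.Kit.typ_mul c.modM t t'
  rw [mul_inv_cancel] at this
  obtain ⟨e1, e2⟩ := c.kit.typ_uniq _ _ _ _ _ this (H37.Kit.typ_L c.modM (one_mem _))
  rwa [← eq_inv_of_mul_eq_one_right e1, ← eq_inv_of_mul_eq_one_right e2]

theorem typ_τ : Typ R (UU x Set.univ) x τ γ σ :=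
  ⟨1, one_mem _, by rw [one_mul]; exact c.mod.fr_τ c.tl⟩

/-- The elements with trivial graph part. -/
def M1 : Subgroup M where
  carrier := {g | ∃ φ, Typ R (UU x Set.univ) x g 1 φ}
  one_mem' := ⟨1, H37.Kit.typ_L c.modM (one_mem _)⟩
  mul_mem' := fun ⟨_, t⟩ ⟨_, t'⟩ => ⟨_, by simpa using H37.Kit.typ_mul c.modM t t'⟩
  inv_mem' := fun ⟨_, t⟩ => ⟨_, by simpa using typ_inv' c t⟩

theorem exists_mono2 {m : M} (hm : Commute τ m) (h2 : m * m = 1) {φ : E ≃+* E}
    (t : Typ R (UU x Set.univ) x m 1 φ) (hN : m ∈ N[TG γ i σ x]) :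
    ∃ l ∈ TG γ i σ x, ∃ w ∈ R.W, w * w = 1 ∧ γ * w = w * γ ∧ Mono x (l * m * l⁻¹) w φ := by
  have := c.tl.lace.fin
  have hL := c.tl.lace
  have hM := c.modM
  have p := c.mod.pin
  have hU : UU x Set.univ ≤ M1 c := fun l hl => ⟨1, H37.Kit.typ_L hM hl⟩
  let y : Φ → E → M1 c := fun r a => ⟨x r a, hU (x_mem_UU (Set.mem_univ r) a)⟩
  have py : Pin R y := ⟨p.two, fun r a b => Subtype.ext (p.add r a b),
    fun r s e a b => Subtype.ext (p.com r s e a b), fun r s k e a b => Subtype.ext (p.rel r s k e a b),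
    fun r a e => p.inj r a (congrArg Subtype.val e)⟩
  obtain ⟨P, hP⟩ := exists_split hL py (fun u hu ⟨ψ, χ, e⟩ => by
      have h1 : (u : M) ∈ Up R x := (UU_le (K := (Up R x).comap (M1 c).subtype)
        fun r hr a => x_mem_UU (x := x) hr a) hu
      have hS := H37.Kit.syl hM (SL.root R hL)
      exact Subtype.ext (eq_one_of_is2 (is2_of_mem hS.isPGroup h1) (H35.NF.fr_L hL hM (hS.le h1)
        ⟨H35.NF.diag_one, χ, fun r a => congrArg Subtype.val (e r a)⟩).2.2))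
    (eq_top_iff.2 fun g _ => by
      obtain ⟨ψ, l, hl, f1, χ, e⟩ := g.2
      obtain ⟨l', hl', rfl⟩ := (UU_le (K := (UU y Set.univ).map (M1 c).subtype)
        fun r hr a => ⟨y r a, x_mem_UU hr a, rfl⟩) hl
      rw [sup_comm, ← inv_mul_cancel_left l' g]
      exact mul_mem_sup (inv_mem hl') ⟨ψ, χ, fun r a => Subtype.ext (e r a)⟩)
  have hτ : τ ∈ N[M1 c] := mem_N_of_conj fun g ⟨ψ, t⟩ => ⟨_, by
    simpa using H37.Kit.typ_mul hM (H37.Kit.typ_mul hM (typ_τ c) t) (typ_inv' c (typ_τ c))⟩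
  let β : M1 c →* M1 c := ((M1 c).normalizerMonoidHom ⟨τ, hτ⟩).toMonoidHom
  have hβ : ∀ r a, β (y r a) = y (γ r) (σ a) := fun r a => Subtype.ext (c.mod.tau r a)
  have k1 : TG γ i σ y = (TG γ i σ x).subgroupOf (M1 c) := by
    refine le_antisymm (TM_univ.ge.trans (TM_le (fun r _ e a => ?_) fun r _ e a => ?_)) fun g hg => ?_
    · exact TM_le_TG _ (l_mem_TM (x := x) (S := Set.univ) trivial e a)
    · exact TM_le_TG _ (s_mem_TM (x := x) (S := Set.univ) trivial e a)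
    · obtain ⟨g', hg', e⟩ := (TM_le (K := (TG γ i σ y).map (M1 c).subtype)
        (fun r hr e a => ⟨_, TM_le_TG _ (l_mem_TM (x := y) hr e a), rfl⟩)
        fun r hr e a => ⟨_, TM_le_TG _ (s_mem_TM (x := y) hr e a), rfl⟩) (TM_univ.ge hg)
      rwa [← Subtype.ext e]
  obtain ⟨g, hg, hn, -⟩ := H37.exists_conj_mem_N (tw c.tl c.qf py P hP β hβ)
    (R := (TG γ i σ x ⊔ zpowers m).subgroupOf (M1 c))
    (by rw [tw_G1, k1]; exact subgroupOf_mono _ le_sup_left)
    (fun g hg => Subtype.ext (H35.NF.conj_of_commute (mem_C1.1 ((sup_le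
      (fun l hl => mem_C1.2 (c.comm_TG hl).symm) (zpowers_le.2 (mem_C1.2 hm.symm)) :
        _ ≤ C1[τ]) hg)).symm)) (t := ⟨m, φ, t⟩) (mem_sup_right (mem_zpowers m)) (Subtype.ext h2)
  rw [mem_subgroupOf, ← SetLike.mem_coe, coe_mul_of_right_le_normalizer_left _ _
    (zpowers_le.2 hN)] at hg
  obtain ⟨l, hl, k, hk, e⟩ := hg
  have e1 : (g : M) * m * (g : M)⁻¹ = l * m * l⁻¹ := by
    obtain ⟨j, rfl⟩ := hk
    rw [← e]; simp only [mul_inv_rev]; group
  have hw := P.ν_mem _ hn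
  have h3 : ∀ r a, l * m * l⁻¹ * x r a * (l * m * l⁻¹)⁻¹ ∈ XR x (P.ν (g * ⟨m, φ, t⟩ * g⁻¹) r) :=
    fun r a => by
      have := P.conj _ hn r (y r a) (by rw [hP]; exact x_mem_XR r a)
      rw [hP] at this
      obtain ⟨b, eb⟩ := (mem_XR py).1 this
      exact (mem_XR p).2 ⟨b, by rw [← e1]; exact congrArg Subtype.val eb⟩
  generalize P.ν _ = w at hw h3
  have hl' := TG_le_UU hl
  obtain ⟨l0, hl0, f⟩ := t
  have m1 : Mono x (l * m * l⁻¹) w φ := by
    obtain ⟨χ, ef⟩ := H35.NF.Mono.inv p f.2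
    have := (H35.NF.mono_of_L hL hM (n := l * m * l⁻¹ * (l0 * m)⁻¹) (by
      rw [show l * m * l⁻¹ * (l0 * m)⁻¹ = l * (m * l⁻¹ * m⁻¹) * l0⁻¹ by group]
      exact mul_mem (mul_mem hl' (conj_mem (c.mod.N_top m) (inv_mem hl'))) (inv_mem hl0)) hw
      fun r a => by
        rw [show ∀ a b z : M, a * b * z * (a * b)⁻¹ = a * (b * z * b⁻¹) * a⁻¹ by intros; group, ef]
        exact h3 r _).mul f.2
    rwa [inv_mul_cancel_right, mul_one, one_mul] at this
  have mτ := (c.mod.fr_τ c.tl).2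
  refine ⟨l, hl, w, hw, mono_uniq hL hM (φ' := 1) (m1.mul m1) ?_,
    mono_uniq hL hM (φ' := φ * σ) (H35.NF.Mono.mul mτ m1) ?_, m1⟩
  · rw [conj_sq l h2]; exact H35.NF.mono_one
  · rw [(((c.comm_TG hl).mul_right hm).mul_right (c.comm_TG hl).inv_right).eq]
    exact m1.mul mτ

end Cfsg.Agent.H31.WrX
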