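import Cfsg.Agent.H56.ZCDefs
import Cfsg.Agent.H57.ONS

/-! Project ZC: groups of compound diagonal type have no doubly transitive subconstituent. -/

set_option autoImplicit false
set_option linter.unusedSectionVars false
set_option linter.style.haveILetI false

namespace Cfsg.Agent.H31.ZcCd

open Subgroup Cfsg.Agent.H56.FS Cfsg.Agent.H56.ZC Cfsg.Agent.H57 MulAction

universe u v

/-- functions supported on one block -/
def blk {m : ℕ} (T : Type) [Group T] (c : Fin m → Fin m) (j : Fin m) : Subgroup (Fin m → T) where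
  carrier := {f | ∀ i, c i ≠ j → f i = 1}
  one_mem' := fun _ _ => rfl
  mul_mem' := fun ha hb i hi => by rw [Pi.mul_apply, ha i hi, hb i hi, mul_one]
  inv_mem' := fun ha i hi => by rw [Pi.inv_apply, ha i hi, inv_one]

theorem blk_normal {m : ℕ} (T : Type) [Group T] (c : Fin m → Fin m) (j : Fin m) :
    (blk T c j).Normal :=
  ⟨fun f hf g i hi => by simp [hf i hi]⟩

theorem cd (ham : HamStmt.{u, v}) : CdStmt.{u, v} := by
  intro G Ω _ _ _ _ α β hP N hN T _ _ hT m e c ⟨i0, j0, h0⟩ hs
  classical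
  haveI := hN.1
  haveI : Finite T := Finite.of_injective (fun t : T => e.symm fun _ => t) fun a b h =>
    congrFun (e.symm.injective h) i0
  obtain ⟨t, ht⟩ := exists_ne (1 : T)
  let M : Fin m → Subgroup G := fun j => ((blk T c j).comap e.toMonoidHom).map N.subtype
  have hM : ∀ j (n : N), (n : G) ∈ M j ↔ ∀ i, c i ≠ j → e n i = 1 := fun j n =>
    ⟨fun ⟨n', h1, h2⟩ => by rw [← Subtype.ext h2]; exact h1, fun h => ⟨n, h, rfl⟩⟩
  have MN : ∀ j, M j ≤ N := fun j => map_subtype_le _
  have hs' : ∀ f : Fin m → T, (∀ i j, c i = c j → f i = f j) →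
      ((e.symm f : N) : G) ∈ stabilizer G α := fun f hf => (hs _).2 (by rwa [e.apply_symm_apply])
  refine ham G Ω α β hP N hN (fun h => ?_) m M MN (fun j => ?_) (fun j h => ?_) (fun h hh j => ?_)
    (fun x hx => ?_) fun i j k hij x hx y hy w hw hz => ?_
  · have : ((e.symm fun _ => t : N) : G) ∈ N ⊓ stabilizer G α :=
      ⟨(e.symm _).2, hs' _ fun _ _ _ => rfl⟩
    rw [h, mem_bot, OneMemClass.coe_eq_one, MulEquiv.map_eq_one_iff] at this
    exact ht (congrFun this i0)
  · haveI := blk_normal T c j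
    refine le_trans ?_ (le_normalizer_map N.subtype)
    rw [normalizer_eq_top, ← MonoidHom.range_eq_map, range_subtype]
  · have := (hM j (e.symm fun _ => t)).1 (h.ge (e.symm _).2)
    rw [e.apply_symm_apply] at this
    by_cases h1 : c i0 = j
    · exact ht (this j0 fun h2 => h0 (h1.trans h2.symm))
    · exact ht (this i0 h1)
  · let ψ : MulAut (Fin m → T) := (e.symm.trans (MulAut.conjNormal h)).trans e
    have hψ : ∀ n : N, ψ (e n) = e (MulAut.conjNormal h n) := fun n => by simp [ψ]
    obtain ⟨σ, hσ⟩ := exists_perm_coordRel hT ψ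
    have one : ∀ (n : N) a, e (MulAut.conjNormal h n) (σ a) = 1 ↔ e n a = 1 := fun n a => by
      obtain ⟨φ, hφ⟩ := hσ a
      rw [← hψ, hφ, MulEquiv.map_eq_one_iff]
    have st : ∀ n : N, ((MulAut.conjNormal h n : N) : G) ∈ stabilizer G α ↔
        (n : G) ∈ stabilizer G α := fun n => by
      rw [MulAut.conjNormal_apply, mul_mem_cancel_right (inv_mem hh), mul_mem_cancel_left hh]
    have pres : ∀ a b, c a = c b ↔ c (σ a) = c (σ b) := fun a b => by
      constructor
      · intro h1
        by_contra h2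
        obtain ⟨n, hn⟩ := (MulAut.conjNormal h).surjective
          (e.symm fun k => if c k = c (σ b) then t else 1 : N)
        have h3 := (hs n).1 ((st n).1 (hn ▸ hs' _ fun i j h => by rw [h])) a b h1
        have h4 := (one n a).1 (by rw [hn, e.apply_symm_apply, if_neg h2])
        have h5 := (one n b).2 (h3 ▸ h4)
        rw [hn, e.apply_symm_apply, if_pos rfl] at h5
        exact ht h5
      · intro h1
        by_contra h2
        have h3 := (hs _).1 ((st _).2 (hs' (fun k => if c k = c b then t else 1)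
          fun i j h => by rw [h])) _ _ h1
        have h4 := (one (e.symm fun k => if c k = c b then t else 1) a).2 (by
          rw [e.apply_symm_apply, if_neg h2])
        have h5 := (one _ b).1 (h3 ▸ h4)
        rw [e.apply_symm_apply, if_pos rfl] at h5
        exact ht h5
    obtain ⟨j', hj⟩ : ∃ j', ∀ a, c a ≠ j ↔ c (σ a) ≠ j' := by
      by_cases h1 : ∃ b, c b = j
      · obtain ⟨b, rfl⟩ := h1
        exact ⟨c (σ b), fun a => (pres a b).not⟩
      · exact ⟨j, fun a => ⟨fun _ h => h1 ⟨_, h⟩, fun _ h => h1 ⟨_, h⟩⟩⟩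
    have key : ∀ n : N, (n : G) ∈ M j ↔ ((MulAut.conjNormal h n : N) : G) ∈ M j' := fun n => by
      rw [hM, hM]
      exact (forall_congr' fun a => by rw [one, hj]).trans σ.surjective.forall.symm
    refine ⟨j', le_antisymm ?_ fun x hx => ?_⟩
    · rintro _ ⟨x, hx, rfl⟩
      exact (key ⟨x, MN j hx⟩).1 hx
    · obtain ⟨n, hn⟩ := (MulAut.conjNormal h).surjective (⟨x, MN j' hx⟩ : N)
      have h1 := (key n).2 (hn ▸ hx)
      have h2 : x = h * n * h⁻¹ := (congrArg Subtype.val hn).symm
      exact h2 ▸ conj_mem_cj h1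
  · have hc := (hs ⟨x, hx.1⟩).1 hx.2
    have key : ∀ s : Finset (Fin m), ((e.symm fun k => if c k ∈ s then e ⟨x, hx.1⟩ k else 1 : N) : G) ∈
        ⨆ i, M i ⊓ stabilizer G α := fun s => by
      induction s using Finset.induction_on with
      | empty =>
        rw [show (fun k => if c k ∈ (∅ : Finset (Fin m)) then e ⟨x, hx.1⟩ k else 1) = 1 by
          funext k; simp, map_one]
        exact one_mem _
      | insert j s hj ih =>
        rw [show (fun k => if c k ∈ insert j s then e ⟨x, hx.1⟩ k else 1) =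
          (fun k => if c k = j then e ⟨x, hx.1⟩ k else 1) *
            fun k => if c k ∈ s then e ⟨x, hx.1⟩ k else 1 by
          funext k
          by_cases h1 : c k = j
          · simp [h1, hj]
          · simp [h1], map_mul, coe_mul]
        refine mul_mem (mem_iSup_of_mem j ⟨(hM j _).2 fun i hi => ?_, hs' _ fun a b h => ?_⟩) ih
        · rw [e.apply_symm_apply, if_neg hi]
        · rw [h, hc a b h]
    simpa using key Finset.univ
  · have ij : i ≠ j := fun h => hij (by rw [h])
    have hz' := (hs ((⟨w, MN k hw⟩ : N)⁻¹ * (⟨x, MN i hx⟩ * ⟨y, MN j hy⟩))).1 hz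
    have h1 := (hM i ⟨x, MN i hx⟩).1 hx
    have h2 := (hM j ⟨y, MN j hy⟩).1 hy
    have h3 := (hM k ⟨w, MN k hw⟩).1 hw
    simp only [map_mul, map_inv, Pi.mul_apply, Pi.inv_apply] at hz'
    by_cases ki : k = i
    · subst ki
      refine .inr ((hs ⟨y, MN j hy⟩).2 fun a b h => ?_)
      by_cases h4 : c a = j
      · have h5 : c a ≠ k := h4 ▸ ij.symm
        simpa [h1 a h5, h3 a h5, h1 b (h ▸ h5), h3 b (h ▸ h5)] using hz' a b h
      · rw [h2 a h4, h2 b (h ▸ h4)]
    · refine .inl ((hs ⟨x, MN i hx⟩).2 fun a b h => ?_)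
      by_cases h4 : c a = i
      · have h5 : c a ≠ k := h4 ▸ Ne.symm ki
        have h6 : c a ≠ j := h4 ▸ ij
        simpa [h2 a h6, h3 a h5, h2 b (h ▸ h6), h3 b (h ▸ h5)] using hz' a b h
      · rw [h1 a h4, h1 b (h ▸ h4)]

end Cfsg.Agent.H31.ZcCd
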